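import Groth.Agent.FCompl13.AffSys
import Groth.Agent.FBlow13.Chart
import Groth.Agent.S3854
import Groth.Agent.AdicC27.Approx

/-!
The completion of an affine scheme, as a system of subschemes.
-/

set_option autoImplicit false
set_option backward.isDefEq.respectTransparency false

noncomputable section

universe u

open CategoryTheory CategoryTheory.Limits AlgebraicGeometry TopologicalSpace Opposite

namespace Groth.Agent.FCompl13

open _root_.FSch

variable {A : Type u} [CommRing A] (J : Ideal A)

theorem levKer_idealSpec : LevKer (R := CommRingCat.of A) J (𝔛 := completionAlong _ (idealSpec A J))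
    (completionToX (Spec (CommRingCat.of A)) (idealSpec A J)) := fun n a => by
  have h := (idealSpec A J ^ (n + 1)).ker_subschemeι_app ⟨⊤, isAffineOpen_top _⟩
  change ((idealSpec A J ^ (n + 1)).subschemeι.app ⊤).hom (specScal (R := CommRingCat.of A) a) = 0 ↔ _
  rw [← RingHom.mem_ker, h, Scheme.IdealSheafData.ideal_pow, Pi.pow_apply, FBlow13.idealSpec_ideal_top,
    ← Ideal.map_pow]
  exact Ideal.apply_mem_of_equiv_iff (f := (Scheme.ΓSpecIso (CommRingCat.of A)).commRingCatIsoToRingEquiv.symm)

instance isClosedImmersion_completionToX (X : Scheme.{u}) (𝓘 : X.IdealSheafData) (n : ℕ) :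
    IsClosedImmersion (completionToX X 𝓘 n) :=
  (inferInstance : IsClosedImmersion (𝓘 ^ (n + 1)).subschemeι)

end Groth.Agent.FCompl13
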