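import Groth.Agent.QC70.Stalk

/-!
Sections of quasi-coherent modules over affine opens: membership in submodules is local, and finite
presentations of the sections restrict to smaller affine opens.
-/

set_option autoImplicit false
set_option backward.isDefEq.respectTransparency.types false
set_option linter.style.haveILetI false

noncomputable section

universe u

open CategoryTheory Limits AlgebraicGeometry TopologicalSpace Opposite
open Groth.Agent.QC70

namespace Groth.Agent.FCompl13

variable {X : Scheme.{u}} {U V : X.Opens}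

theorem mem_of_local_smul (hV : IsAffineOpen V) {M : Type*} [AddCommGroup M] [Module Γ(X, V) M]
    (N : Submodule Γ(X, V) M) (m : M)
    (h : ∀ x ∈ V, ∃ g : Γ(X, V), x ∈ X.basicOpen g ∧ g • m ∈ N) : m ∈ N := by
  let I : Ideal Γ(X, V) := N.comap (LinearMap.toSpanSingleton Γ(X, V) M m)
  suffices I = ⊤ by
    have h1 : (1 : Γ(X, V)) ∈ I := this ▸ trivial
    simpa [I] using h1
  by_contra hI
  obtain ⟨p, hp, hIp⟩ := Ideal.exists_le_maximal I hI
  let P : PrimeSpectrum Γ(X, V) := ⟨p, hp.isPrime⟩
  obtain ⟨g, hg, hgm⟩ := h (hV.fromSpec P) (hV.range_fromSpec.le ⟨P, rfl⟩)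
  have h1 : P ∈ hV.fromSpec ⁻¹ᵁ X.basicOpen g := hg
  rw [hV.fromSpec_preimage_basicOpen] at h1
  exact h1 (hIp (by simpa [I] using hgm))

theorem exists_basicOpen_affine (hU : IsAffineOpen U) {x : X} (hxU : x ∈ U) {W : X.Opens}
    (hxW : x ∈ W) : ∃ f : Γ(X, U), X.basicOpen f ≤ W ∧ x ∈ X.basicOpen f :=
  hU.exists_basicOpen_le ⟨x, hxW⟩ hxU

/-- Membership in a finitely generated submodule of sections over an affine open is local. -/
theorem mem_span_of_near (M : X.Modules) [M.IsQuasicoherent] (hV : IsAffineOpen V) {κ : Type*}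
    [Finite κ] (n : κ → Γ(M, V)) (m : Γ(M, V))
    (h : ∀ x ∈ V, ∃ (W : X.Opens) (hW : W ≤ V), x ∈ W ∧
      res M hW m ∈ Submodule.span Γ(X, W) (Set.range fun t => res M hW (n t))) :
    m ∈ Submodule.span Γ(X, V) (Set.range n) := by
  have := Fintype.ofFinite κ
  have hM := isLocAt_of_isQuasicoherent M hV
  refine mem_of_local_smul hV _ m fun x hx => ?_
  obtain ⟨W, hW, hxW, hm⟩ := h x hx
  obtain ⟨f, hfW, hxf⟩ := exists_basicOpen_affine hV hx hxW
  obtain ⟨b, hb⟩ := (Submodule.mem_span_range_iff_exists_fun _).1 hm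
  have := hV.isLocalization_basicOpen f
  obtain ⟨⟨_, e, rfl⟩, he⟩ := IsLocalization.exist_integer_multiples_of_finite
    (Submonoid.powers f) (S := Γ(X, X.basicOpen f)) (fun t => resO X hfW (b t))
  choose a ha using he
  have h1 : res M (X.basicOpen_le f) (f ^ e • m - ∑ t, a t • n t) = 0 := by
    have h2 := congrArg (res M hfW) hb
    rw [res_res, show res M hfW (∑ t, b t • res M hW (n t)) =
      ∑ t, resO X hfW (b t) • res M (X.basicOpen_le f) (n t) from by
        refine (map_sum (M.presheaf.map (homOfLE hfW).op).hom _ _).trans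
          (Finset.sum_congr rfl fun t _ => ?_)
        exact (res_smul hfW _ _).trans (congrArg (_ • ·) (res_res hW hfW _))] at h2
    rw [res_sub, res_pow_smul, ← h2, Finset.smul_sum]
    rw [show res M (X.basicOpen_le f) (∑ t, a t • n t) =
      ∑ t, resO X (X.basicOpen_le f) (a t) • res M (X.basicOpen_le f) (n t) from
        (map_sum (M.presheaf.map (homOfLE (X.basicOpen_le f)).op).hom _ _).trans
          (Finset.sum_congr rfl fun t _ => res_smul _ _ _)]
    rw [← Finset.sum_sub_distrib]
    refine Finset.sum_eq_zero fun t _ => ?_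
    rw [smul_smul, sub_eq_zero]
    refine congrArg (· • _) ?_
    refine Eq.trans ?_ (ha t).symm
    rw [Algebra.smul_def]
    refine congrArg (· * _) ?_
    exact (map_pow (X.presheaf.map (homOfLE (X.basicOpen_le f)).op).hom f e).symm
  obtain ⟨k, hk⟩ := hM.eq_zero_of f _ h1
  refine ⟨f ^ (k + e + 1), by rwa [X.basicOpen_pow f (n := k + e + 1) (Nat.succ_pos _)], ?_⟩
  rw [smul_sub, sub_eq_zero] at hk
  rw [pow_succ', mul_smul, pow_add, mul_smul, hk]
  exact Submodule.smul_mem _ _ (Submodule.smul_mem _ _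
    (Submodule.sum_mem _ fun t _ => Submodule.smul_mem _ _ (Submodule.subset_span ⟨t, rfl⟩)))

/-- Membership in a finitely generated submodule of vectors of functions is local. -/
theorem mem_span_vec_of_near (hV : IsAffineOpen V) {κ ι : Type*} [Finite κ] [Finite ι]
    (n : κ → ι → Γ(X, V)) (m : ι → Γ(X, V))
    (h : ∀ x ∈ V, ∃ (W : X.Opens) (hW : W ≤ V), x ∈ W ∧
      (fun i => resO X hW (m i)) ∈ Submodule.span Γ(X, W) (Set.range fun t i => resO X hW (n t i))) :
    m ∈ Submodule.span Γ(X, V) (Set.range n) := by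
  have := Fintype.ofFinite κ
  refine mem_of_local_smul hV _ m fun x hx => ?_
  obtain ⟨W, hW, hxW, hm⟩ := h x hx
  obtain ⟨f, hfW, hxf⟩ := exists_basicOpen_affine hV hx hxW
  obtain ⟨b, hb⟩ := (Submodule.mem_span_range_iff_exists_fun _).1 hm
  have := hV.isLocalization_basicOpen f
  obtain ⟨⟨_, e, rfl⟩, he⟩ := IsLocalization.exist_integer_multiples_of_finite
    (Submonoid.powers f) (S := Γ(X, X.basicOpen f)) (fun t => resO X hfW (b t))
  choose a ha using he
  have h1 : ∀ i, algebraMap Γ(X, V) Γ(X, X.basicOpen f) (f ^ e * m i) =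
      algebraMap Γ(X, V) Γ(X, X.basicOpen f) (∑ t, a t * n t i) := by
    intro i
    have h2 := congrArg (fun v : ι → Γ(X, W) => resO X hfW (v i)) hb
    simp only [Finset.sum_apply, Pi.smul_apply, smul_eq_mul, map_sum, map_mul] at h2
    rw [resO_resO] at h2
    rw [map_mul, map_sum]
    change _ * resO X (X.basicOpen_le f) (m i) = _
    rw [← h2, Finset.mul_sum]
    refine Finset.sum_congr rfl fun t _ => ?_
    rw [← mul_assoc, map_mul (algebraMap Γ(X, V) Γ(X, X.basicOpen f))]
    refine congrArg₂ (· * ·) ?_ (resO_resO hW hfW _)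
    rw [ha t, Algebra.smul_def]
  choose c hc using fun i => IsLocalization.exists_of_eq (M := Submonoid.powers f) (h1 i)
  have : Fintype ι := Fintype.ofFinite ι
  obtain ⟨k, hk⟩ : ∃ k, ((∏ i, c i : Submonoid.powers f) : Γ(X, V)) = f ^ k := by
    obtain ⟨k, hk⟩ := (∏ i, c i : Submonoid.powers f).2
    exact ⟨k, hk.symm⟩
  have hall : f ^ k • (f ^ e • m) = f ^ k • ∑ t, a t • n t := funext fun i => by
    simp only [Pi.smul_apply, Finset.sum_apply, smul_eq_mul]
    classical
    rw [← hk, Submonoid.coe_finsetProd, ← Finset.prod_erase_mul _ _ (Finset.mem_univ i),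
      mul_assoc, hc i, ← mul_assoc]
  refine ⟨f ^ (k + e + 1), by rwa [X.basicOpen_pow f (n := k + e + 1) (Nat.succ_pos _)], ?_⟩
  rw [pow_succ', mul_smul, pow_add, mul_smul, hall]
  exact Submodule.smul_mem _ _ (Submodule.smul_mem _ _
    (Submodule.sum_mem _ fun t _ => Submodule.smul_mem _ _ (Submodule.subset_span ⟨t, rfl⟩)))

section Restrict

variable (M : X.Modules) [M.IsQuasicoherent] (hU : IsAffineOpen U) (hVU : V ≤ U)
  {ι : Type*} [Finite ι]

include hU in
/-- Generators of the sections restrict to generators. -/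
theorem span_res_eq_top (hV : IsAffineOpen V) (g : ι → Γ(M, U))
    (hg : Submodule.span Γ(X, U) (Set.range g) = ⊤) :
    Submodule.span Γ(X, V) (Set.range fun i => res M hVU (g i)) = ⊤ := by
  have := Fintype.ofFinite ι
  refine eq_top_iff.2 fun m _ => mem_span_of_near M hV _ m fun x hx => ?_
  obtain ⟨f, hfV, hxf⟩ := exists_basicOpen_affine hU (hVU hx) hx
  refine ⟨X.basicOpen f, hfV, hxf, ?_⟩
  obtain ⟨e, t, ht⟩ := (isLocAt_of_isQuasicoherent M hU).exists_of f (res M hfV m)
  obtain ⟨b, hb⟩ := (Submodule.mem_span_range_iff_exists_fun _).1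
    (hg ▸ trivial : t ∈ Submodule.span Γ(X, U) (Set.range g))
  have hmem : res M (X.basicOpen_le f) t ∈ Submodule.span Γ(X, X.basicOpen f)
      (Set.range fun i => res M hfV (res M hVU (g i))) := by
    rw [← hb, show res M (X.basicOpen_le f) (∑ i, b i • g i) =
      ∑ i, resO X (X.basicOpen_le f) (b i) • res M (X.basicOpen_le f) (g i) from
        (map_sum (M.presheaf.map (homOfLE (X.basicOpen_le f)).op).hom _ _).trans
          (Finset.sum_congr rfl fun t _ => res_smul _ _ _)]
    refine Submodule.sum_mem _ fun i _ => Submodule.smul_mem _ _ (Submodule.subset_span ⟨i, ?_⟩)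
    exact res_res hVU hfV _
  rw [ht] at hmem
  exact (Submodule.smul_mem_iff_of_isUnit _
    ((RingedSpace.isUnit_res_basicOpen _ f).pow e)).1 hmem

include hU in
/-- Relations between generators restrict to relations. -/
theorem mem_span_rel_res (hV : IsAffineOpen V) (g : ι → Γ(M, U)) {κ : Type*} [Finite κ]
    (r : κ → ι → Γ(X, U)) [Fintype ι]
    (hr : ∀ c : ι → Γ(X, U), ∑ i, c i • g i = 0 → c ∈ Submodule.span Γ(X, U) (Set.range r))
    (c : ι → Γ(X, V)) (hc : ∑ i, c i • res M hVU (g i) = 0) :
    c ∈ Submodule.span Γ(X, V) (Set.range fun t i => resO X hVU (r t i)) := by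
  refine mem_span_vec_of_near hV _ c fun x hx => ?_
  obtain ⟨f, hfV, hxf⟩ := exists_basicOpen_affine hU (hVU hx) hx
  refine ⟨X.basicOpen f, hfV, hxf, ?_⟩
  have := hU.isLocalization_basicOpen f
  obtain ⟨⟨_, e, rfl⟩, he⟩ := IsLocalization.exist_integer_multiples_of_finite
    (Submonoid.powers f) (S := Γ(X, X.basicOpen f)) (fun i => resO X hfV (c i))
  choose w hw using he
  have h0 : res M (X.basicOpen_le f) (∑ i, w i • g i) = 0 := by
    rw [show res M (X.basicOpen_le f) (∑ i, w i • g i) =
      ∑ i, resO X (X.basicOpen_le f) (w i) • res M (X.basicOpen_le f) (g i) from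
        (map_sum (M.presheaf.map (homOfLE (X.basicOpen_le f)).op).hom _ _).trans
          (Finset.sum_congr rfl fun t _ => res_smul _ _ _)]
    have h2 := congrArg (fun y => resO X (X.basicOpen_le f) (f ^ e) • res M hfV y) hc
    simp only [res_zero, smul_zero] at h2
    rw [show res M hfV (∑ i, c i • res M hVU (g i)) =
      ∑ i, resO X hfV (c i) • res M (X.basicOpen_le f) (g i) from
        (map_sum (M.presheaf.map (homOfLE hfV).op).hom _ _).trans
          (Finset.sum_congr rfl fun t _ => (res_smul _ _ _).trans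
            (congrArg (_ • ·) (res_res hVU hfV _))), Finset.smul_sum] at h2
    refine Eq.trans (Finset.sum_congr rfl fun i _ => ?_) h2
    rw [smul_smul]
    refine congrArg (· • _) ((hw i).trans ?_)
    rw [Algebra.smul_def]
    rfl
  obtain ⟨k, hk⟩ := (isLocAt_of_isQuasicoherent M hU).eq_zero_of f _ h0
  have hkc := hr (fun i => f ^ k * w i) (by rw [← hk, Finset.smul_sum]; simp only [mul_smul])
  have hunit : IsUnit (resO X (X.basicOpen_le f) (f ^ (k + e))) := by
    rw [resO_pow]
    exact (RingedSpace.isUnit_res_basicOpen _ f).pow _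
  refine (Submodule.smul_mem_iff_of_isUnit _ hunit).1 ?_
  have hsemi : ∀ v ∈ Submodule.span Γ(X, U) (Set.range r),
      (fun i => resO X (X.basicOpen_le f) (v i)) ∈ Submodule.span Γ(X, X.basicOpen f)
        (Set.range fun t i => resO X hfV (resO X hVU (r t i))) := by
    intro v hv
    induction hv using Submodule.span_induction with
    | mem _ hv =>
      obtain ⟨t, rfl⟩ := hv
      exact Submodule.subset_span ⟨t, funext fun i => resO_resO hVU hfV _⟩
    | zero => simp only [Pi.zero_apply, map_zero]; exact Submodule.zero_mem _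
    | add a b _ _ ha hb =>
      simp only [Pi.add_apply, map_add]
      exact Submodule.add_mem _ ha hb
    | smul s a _ ha =>
      simp only [Pi.smul_apply, smul_eq_mul, map_mul]
      exact Submodule.smul_mem _ (resO X (X.basicOpen_le f) s) ha
  convert hsemi _ hkc using 1
  funext i
  simp only [Pi.smul_apply, smul_eq_mul, map_mul]
  rw [pow_add, show resO X (X.basicOpen_le f) (f ^ k * f ^ e) = resO X (X.basicOpen_le f) (f ^ k) *
    resO X (X.basicOpen_le f) (f ^ e) from map_mul _ _ _, mul_assoc]
  refine congrArg (_ * ·) (Eq.trans ?_ (hw i).symm)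
  rw [Algebra.smul_def]
  rfl

end Restrict

end Groth.Agent.FCompl13
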