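import Groth.Agent.FBlow13.Sections
import Groth.Agent.Mod48.SheafifyTensor
import Mathlib.Algebra.Category.ModuleCat.Presheaf.Limits
import Mathlib.Algebra.Category.ModuleCat.Sheaf.Limits

/-!
Sections of the module on a formal scheme attached to a system of modules on the levels.
-/

set_option autoImplicit false
set_option backward.isDefEq.respectTransparency false

noncomputable section

universe u

open CategoryTheory CategoryTheory.Limits AlgebraicGeometry TopologicalSpace Opposite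

namespace Groth.Agent.FCompl13

open _root_.FSch

variable {𝔛 : Sys.{u}} {h : 𝔛.IsFormal} {G : ∀ k, (𝔛.X k).Modules}
  {t : ∀ k, G (k + 1) ⟶ (Scheme.Modules.pushforward (𝔛.ι k)).obj (G k)}

/-- Sections over an open, as sets. -/
abbrev evSet (h : 𝔛.IsFormal) (U : (𝔛.X 0).Opens) : ModF 𝔛 h ⥤ Type u :=
  SheafOfModules.forget _ ⋙ PresheafOfModules.evaluation _ (op U) ⋙ forget _

instance (U : (𝔛.X 0).Opens) : PreservesLimitsOfShape ℕᵒᵖ (evSet h U) := by
  have h1 : PreservesLimitsOfShape ℕᵒᵖ (SheafOfModules.forget (ModSite.ringSh (𝔛.Osh h))) := inferInstance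
  have h2 : PreservesLimitsOfShape ℕᵒᵖ (PresheafOfModules.evaluation
    (ModSite.ringSh (𝔛.Osh h)).obj (op U)) := inferInstance
  have h3 : PreservesLimitsOfShape ℕᵒᵖ (forget (ModuleCat.{u} ((ModSite.ringSh (𝔛.Osh h)).obj.obj (op U)))) :=
    inferInstance
  infer_instance

/-- The projection of sections to a level. -/
def mproj (h : 𝔛.IsFormal) (G : ∀ k, (𝔛.X k).Modules)
    (t : ∀ k, G (k + 1) ⟶ (Scheme.Modules.pushforward (𝔛.ι k)).obj (G k)) (U : (𝔛.X 0).Opens) (k : ℕ) :
    (Mod48.pre (realLim 𝔛 h G t)).obj (op U) →+ Γ(G k, 𝔛.lvU h k U) :=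
  ((realProj 𝔛 h G t k).val.app (op U)).hom.toAddMonoidHom

theorem mproj_smul (U : (𝔛.X 0).Opens) (k : ℕ) (s : FBlow13.Sec 𝔛 h U)
    (x : (Mod48.pre (realLim 𝔛 h G t)).obj (op U)) :
    mproj h G t U k (s • x) = FBlow13.proj 𝔛 h U k s • mproj h G t U k x :=
  ((realProj 𝔛 h G t k).val.app (op U)).hom.map_smul s x

theorem mproj_res {U V : (𝔛.X 0).Opens} (i : V ≤ U) (k : ℕ)
    (x : (Mod48.pre (realLim 𝔛 h G t)).obj (op U)) :
    mproj h G t V k (Mod48.res (Mod48.pre (realLim 𝔛 h G t)) (homOfLE i).op x) =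
      (G k).presheaf.map (homOfLE (FBlow.lvU_mono 𝔛 h k i)).op (mproj h G t U k x) :=
  PresheafOfModules.naturality_apply (realProj 𝔛 h G t k).val (homOfLE i).op x

/-- The transition map on sections over an open. -/
def mtrans (h : 𝔛.IsFormal) (G : ∀ k, (𝔛.X k).Modules)
    (t : ∀ k, G (k + 1) ⟶ (Scheme.Modules.pushforward (𝔛.ι k)).obj (G k)) (U : (𝔛.X 0).Opens) (k : ℕ) :
    Γ(G (k + 1), 𝔛.lvU h (k + 1) U) →+ Γ(G k, 𝔛.lvU h k U) :=
  ((G k).presheaf.map (homOfLE (𝔛.lvU_le h k U)).op).hom.comp ((t k).app (𝔛.lvU h (k + 1) U)).hom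

theorem levelSysOf_app (U : (𝔛.X 0).Opens) (k : ℕ) (y : Γ(G (k + 1), 𝔛.lvU h (k + 1) U)) :
    (evSet h U).map ((levelSysOf 𝔛 h G t).map (homOfLE (Nat.le_add_right k 1)).op) y =
      mtrans h G t U k y := by
  rw [levelSysOf_map_succ]
  rfl

theorem mproj_succ (U : (𝔛.X 0).Opens) (k : ℕ) (x : (Mod48.pre (realLim 𝔛 h G t)).obj (op U)) :
    mtrans h G t U k (mproj h G t U (k + 1) x) = mproj h G t U k x := by
  rw [← levelSysOf_app]
  exact ConcreteCategory.congr_hom ((congrArg (evSet h U).map (limit.w (levelSysOf 𝔛 h G t)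
    (homOfLE (Nat.le_add_right k 1)).op))) x

theorem msec_ext {U : (𝔛.X 0).Opens} {x y : (Mod48.pre (realLim 𝔛 h G t)).obj (op U)}
    (e : ∀ k, mproj h G t U k x = mproj h G t U k y) : x = y :=
  (Types.isLimitEquivSections
    (isLimitOfPreserves (evSet h U) (limit.isLimit (levelSysOf 𝔛 h G t)))).injective
      (Subtype.ext (funext fun j => e j.unop))

theorem exists_msec (U : (𝔛.X 0).Opens) (y : ∀ k, Γ(G k, 𝔛.lvU h k U))
    (hy : ∀ k, mtrans h G t U k (y (k + 1)) = y k) :
    ∃ x : (Mod48.pre (realLim 𝔛 h G t)).obj (op U), ∀ k, mproj h G t U k x = y k := by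
  have hsec : ∀ {n m : ℕ} (le : n ≤ m),
      (evSet h U).map ((levelSysOf 𝔛 h G t).map (homOfLE le).op) (y m) = y n := by
    intro n m le
    induction m, le using Nat.le_induction with
    | base =>
      rw [show (homOfLE (le_refl n)).op = 𝟙 (op n) from rfl, CategoryTheory.Functor.map_id]
      rfl
    | succ m le ih =>
      rw [show (homOfLE (le.trans (Nat.le_succ m))).op =
        (homOfLE (Nat.le_add_right m 1)).op ≫ (homOfLE le).op from rfl, Functor.map_comp]
      change (evSet h U).map ((levelSysOf 𝔛 h G t).map (homOfLE le).op)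
        ((evSet h U).map ((levelSysOf 𝔛 h G t).map (homOfLE (Nat.le_add_right m 1)).op) (y (m + 1))) = y n
      rw [levelSysOf_app, hy, ih]
  let e := Types.isLimitEquivSections
    (isLimitOfPreserves (evSet h U) (limit.isLimit (levelSysOf 𝔛 h G t)))
  let z : (levelSysOf 𝔛 h G t ⋙ evSet h U).sections := ⟨fun j => y j.unop, fun {i j} g => by
    rw [show g = (homOfLE (leOfHom g.unop)).op from Subsingleton.elim _ _]
    exact hsec _⟩
  exact ⟨e.symm z, fun k => congrFun (congrArg Subtype.val (e.apply_symm_apply z)) (op k)⟩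

end Groth.Agent.FCompl13
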