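import Groth.Agent.FBlow13.Adic
import Groth.Agent.AdicC27.Thicken
import Groth.Agent.An92.FSch.Thick

/-!
Sections of the structure sheaf of a locally Noetherian formal scheme over an affine open.
-/

set_option autoImplicit false
set_option backward.isDefEq.respectTransparency false

universe u

open CategoryTheory CategoryTheory.Limits AlgebraicGeometry TopologicalSpace Opposite

namespace Groth.Agent.FCompl13

open _root_.FSch

variable (𝔛 : Sys.{u}) (h : 𝔛.IsFormal)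

/-- The restriction of a level to the smallest one. -/
noncomputable abbrev toZero (U : (𝔛.X 0).Opens) (n : ℕ) :
    Γ(𝔛.X n, 𝔛.lvU h n U) ⟶ Γ(𝔛.X 0, 𝔛.lvU h 0 U) :=
  (𝔛.toX n).appLE (𝔛.lvU h n U) (𝔛.lvU h 0 U)
    ((FBlow13.lvU_zero (h := h) U).trans (FBlow13.toX_preimage_lvU (h := h) n U).symm).le

/-- The ideal of definition of the sections over an open. -/
noncomputable abbrev secIdeal (U : (𝔛.X 0).Opens) : Ideal (FBlow13.Sec 𝔛 h U) :=
  RingHom.ker (FBlow13.proj 𝔛 h U 0).hom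

variable {𝔛}

theorem secRing (h𝔛 : 𝔛.IsLocNoethFormal) {U : (𝔛.X 0).Opens} (hU : IsAffineOpen U) :
    IsNoetherianRing (FBlow13.Sec 𝔛 h𝔛.1 U) ∧
      IsAdicComplete (secIdeal 𝔛 h𝔛.1 U) (FBlow13.Sec 𝔛 h𝔛.1 U) ∧
      (∀ n, Function.Surjective (FBlow13.proj 𝔛 h𝔛.1 U n) ∧
        RingHom.ker (FBlow13.proj 𝔛 h𝔛.1 U n).hom = secIdeal 𝔛 h𝔛.1 U ^ (n + 1)) := by
  obtain ⟨hF, hA, hN⟩ := h𝔛
  have haff := fun n => FBlow13.isAffineOpen_lvU (h := hF) hU n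
  have hnoeth : ∀ n, IsNoetherianRing Γ(𝔛.X n, 𝔛.lvU hF n U) := fun n => by
    have := hN n
    exact IsLocallyNoetherian.component_noetherian ⟨_, haff n⟩
  have hv0 : toZero 𝔛 hF U 0 = 𝟙 _ := by
    change Scheme.Hom.appLE (𝟙 (𝔛.X 0)) _ _ _ = _
    simp [Scheme.Hom.appLE]
    exact (𝔛.X 0).presheaf.map_id _
  have hv : ∀ n, (𝔛.ι n).appLE (𝔛.lvU hF (n + 1) U) (𝔛.lvU hF n U) (𝔛.lvU_le hF n U) ≫
      toZero 𝔛 hF U n = toZero 𝔛 hF U (n + 1) := fun n =>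
    appLE_comp_appLE_of_eq _ _ _ rfl _ _ _ _ _ _
  have hker : ∀ n, RingHom.ker ((𝔛.ι n).appLE (𝔛.lvU hF (n + 1) U) (𝔛.lvU hF n U)
      (𝔛.lvU_le hF n U)).hom = RingHom.ker (toZero 𝔛 hF U (n + 1)).hom ^ (n + 1) := by
    intro n
    have := (hF n).1
    have := 𝔛.toX_isClosedImmersion hF (n + 1)
    have h1 := congrArg (fun K => K.ideal ⟨_, haff (n + 1)⟩) (hA n)
    simp only [Scheme.IdealSheafData.ideal_pow, Pi.pow_apply, Scheme.Hom.ker_apply] at h1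
    rw [(FBlow13.appLE_of_eq (𝔛.ι n) (𝔛.lvU_succ hF n U).symm (𝔛.lvU_le hF n U)).2, h1]
    rw [(FBlow13.appLE_of_eq (𝔛.toX (n + 1))
      ((FBlow13.lvU_zero (h := hF) U).trans (FBlow13.toX_preimage_lvU (h := hF) (n + 1) U).symm) _).2]
  have := hnoeth 1
  obtain ⟨hC, hk, hJ⟩ := AdicC27.thickening_limit (fun n => Γ(𝔛.X n, 𝔛.lvU hF n U))
    (fun n => ((𝔛.ι n).appLE (𝔛.lvU hF (n + 1) U) (𝔛.lvU hF n U) (𝔛.lvU_le hF n U)).hom)
    (fun n => FBlow13.appLE_ι_surjective hU n) (fun n => (toZero 𝔛 hF U n).hom)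
    (by rw [hv0]; rfl) (fun n => (CommRingCat.hom_comp _ _).symm.trans (congrArg CommRingCat.Hom.hom (hv n)))
    hker (IsNoetherian.noetherian _) (FBlow13.Sec 𝔛 hF U) (fun n => (FBlow13.proj 𝔛 hF U n).hom)
    (fun n => RingHom.ext fun s => FBlow13.proj_succ_apply U n s)
    (fun x hx => FBlow13.sec_ext fun n => (hx n).trans (map_zero (FBlow13.proj 𝔛 hF U n).hom).symm)
    (fun y hy => FBlow13.exists_sec U y hy)
  refine ⟨?_, hC, hk⟩
  have := hnoeth 0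
  have : IsNoetherianRing (FBlow13.Sec 𝔛 hF U ⧸ secIdeal 𝔛 hF U) :=
    isNoetherianRing_of_ringEquiv _ (RingHom.quotientKerEquivOfSurjective (hk 0).1).symm
  exact AdicC27.isNoetherianRing_of_isAdicComplete (I := secIdeal 𝔛 hF U) hJ

end Groth.Agent.FCompl13
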