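import Groth.Agent.DCK91.PullStalk
import Groth.Agent.FlatMor68.PullbackDescent
import Groth.Agent.FlatMor68.FlatInfNbhd
import Groth.Agent.S10857
import Mathlib.LinearAlgebra.TensorProduct.Quotient
import Mathlib.RingTheory.Filtration

/-!
Morphisms of modules killed by, or surjective on, thickenings: the statements on stalks, and
spreading out to neighbourhoods.
-/

set_option autoImplicit false
set_option backward.isDefEq.respectTransparency.types false
set_option linter.style.haveILetI false

noncomputable section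

universe u

open CategoryTheory Limits AlgebraicGeometry TopologicalSpace Opposite TensorProduct
open Groth.Agent.QC70

namespace Groth.Agent.FCompl13

section Alg

variable {R S : Type u} [CommRing R] [CommRing S] [Algebra R S] {M P : Type u} [AddCommGroup M]
  [Module R M] [AddCommGroup P] [Module R P] [Module S P] [IsScalarTower R S P]

/-- Along a surjection of rings the unit of base change has kernel `K • M` and is surjective. -/
theorem mem_smul_of_isBaseChange_eq_zero (hS : Function.Surjective (algebraMap R S))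
    {f : M →ₗ[R] P} (hf : IsBaseChange S f) {t : M} (ht : f t = 0) :
    t ∈ RingHom.ker (algebraMap R S) • (⊤ : Submodule R M) := by
  let K : Ideal R := RingHom.ker (algebraMap R S)
  let e' : (R ⧸ K) ≃ₗ[R] S := (Algebra.linearMap R S).quotKerEquivOfSurjective hS
  have h1 : ((1 : S) ⊗ₜ[R] t) = 0 := by
    apply hf.equiv.injective
    rw [hf.equiv_tmul, map_zero, ht, smul_zero]
  have h2 : ((1 : R ⧸ K) ⊗ₜ[R] t) = 0 := by
    apply (TensorProduct.congr e' (LinearEquiv.refl R M)).injective
    rw [map_zero, TensorProduct.congr_tmul]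
    have : e' (1 : R ⧸ K) = 1 := map_one (algebraMap R S)
    rw [this]
    exact h1
  have h3 := congrArg (quotTensorEquivQuotSMul M K) h2
  rw [map_zero] at h3
  rw [← Submodule.Quotient.mk_eq_zero]
  refine Eq.trans ?_ h3
  exact ((quotTensorEquivQuotSMul_mk_tmul K (1 : R) t).trans (congrArg _ (one_smul R t))).symm

theorem surjective_of_isBaseChange (hS : Function.Surjective (algebraMap R S))
    {f : M →ₗ[R] P} (hf : IsBaseChange S f) : Function.Surjective f := by
  intro p
  induction p using hf.inductionOn with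
  | zero => exact ⟨0, map_zero f⟩
  | tmul m => exact ⟨m, rfl⟩
  | smul s n hn =>
    obtain ⟨m, rfl⟩ := hn
    obtain ⟨r, rfl⟩ := hS s
    exact ⟨r • m, by rw [map_smul, algebraMap_smul]⟩
  | add n₁ n₂ h₁ h₂ =>
    obtain ⟨a, rfl⟩ := h₁
    obtain ⟨b, rfl⟩ := h₂
    exact ⟨a + b, map_add f a b⟩

end Alg

variable {X Z : Scheme.{u}}

theorem pullη_stalkMapM (i : Z ⟶ X) {F G : X.Modules} (u : F ⟶ G) (z : Z)
    (e : F.presheaf.stalk (i z)) :
    DCK91.pullη i G z (stalkMapM u (i z) e) =
      stalkMapM ((Scheme.Modules.pullback i).map u) z (DCK91.pullη i F z e) := by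
  obtain ⟨W, hW, t, rfl⟩ := germM_exist e
  rw [stalkMapM_germ, DCK91.pullη_germ, DCK91.pullη_germ, stalkMapM_germ]
  congr 1
  exact congr(($((Scheme.Modules.pullbackPushforwardAdjunction i).unit.naturality u)).app W t)

/-- A morphism killed by a closed immersion has stalks in the ideal times the target. -/
theorem mem_smul_of_pullback_map_eq_zero (i : Z ⟶ X) [IsClosedImmersion i] {F G : X.Modules}
    (u : F ⟶ G) (h : (Scheme.Modules.pullback i).map u = 0) (z : Z)
    (e : F.presheaf.stalk (i z)) :
    stalkMapM u (i z) e ∈ RingHom.ker (i.stalkMap z).hom •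
      (⊤ : Submodule (X.presheaf.stalk (i z)) (G.presheaf.stalk (i z))) := by
  letI := (i.stalkMap z).hom.toAlgebra
  letI := Module.compHom (((Scheme.Modules.pullback i).obj G).presheaf.stalk z) (i.stalkMap z).hom
  haveI : IsScalarTower (X.presheaf.stalk (i z)) (Z.presheaf.stalk z)
      (((Scheme.Modules.pullback i).obj G).presheaf.stalk z) :=
    IsScalarTower.of_algebraMap_smul fun r e => rfl
  refine mem_smul_of_isBaseChange_eq_zero (S := Z.presheaf.stalk z) (i.stalkMap_surjective z)
    (DCK91.isBaseChange_pullη i G z) ?_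
  rw [pullη_stalkMapM, h]
  exact (FlatMor68.PullbackDescent.zero_iff _).1 rfl z _

/-- Stalks of quotients of the structure sheaf: killed by all thickenings implies zero. -/
theorem stalkMapM_eq_zero [IsLocallyNoetherian X] {F G : X.Modules} (hG : Coh.IsCoh G)
    (u : F ⟶ G) (J : X.IdealSheafData)
    (h : ∀ n : ℕ, (Scheme.Modules.pullback (J ^ (n + 1)).subschemeι).map u = 0)
    (x : X) (hx : x ∈ J.support) (e : F.presheaf.stalk x) : stalkMapM u x e = 0 := by
  haveI := hG.1
  haveI := hG.2
  haveI := QC70.finite_stalk G x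
  have hkey : ∀ n : ℕ, stalkMapM u x e ∈ Div89.stalkIdeal J x ^ (n + 1) •
      (⊤ : Submodule (X.presheaf.stalk x) (G.presheaf.stalk x)) := by
    intro n
    obtain ⟨z, rfl⟩ : x ∈ Set.range (J ^ (n + 1)).subschemeι := by
      rw [Scheme.IdealSheafData.range_subschemeι, Scheme.IdealSheafData.support_pow_succ]
      exact hx
    have h1 := mem_smul_of_pullback_map_eq_zero _ u (h n) z e
    rwa [FlatMor68.FlatInfNbhd.ker_stalkMap_closedImmersion, Scheme.IdealSheafData.ker_subschemeι,
      Div89.stalkIdeal_pow] at h1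
  have hne : Div89.stalkIdeal J x ≠ ⊤ := by
    obtain ⟨z, rfl⟩ : x ∈ Set.range J.subschemeι := by
      rw [Scheme.IdealSheafData.range_subschemeι]
      exact hx
    rw [show Div89.stalkIdeal J (J.subschemeι z) = RingHom.ker (J.subschemeι.stalkMap z).hom by
      rw [FlatMor68.FlatInfNbhd.ker_stalkMap_closedImmersion, Scheme.IdealSheafData.ker_subschemeι]]
    exact RingHom.ker_ne_top _
  have h0 : stalkMapM u x e ∈ ⨅ n : ℕ, Div89.stalkIdeal J x ^ n •
      (⊤ : Submodule (X.presheaf.stalk x) (G.presheaf.stalk x)) := by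
    refine Submodule.mem_iInf _ |>.2 fun n => ?_
    exact Submodule.smul_mono_left (Ideal.pow_le_pow_right (Nat.le_succ n)) (hkey n)
  rwa [Ideal.iInf_pow_smul_eq_bot_of_isLocalRing _ hne, Submodule.mem_bot] at h0

/-- Surjectivity on a thickening gives surjectivity. -/
theorem surjective_stalkMapM_of_pullback (i : Z ⟶ X) [IsClosedImmersion i] {F G : X.Modules}
    [G.IsQuasicoherent] [G.IsFiniteType] (u : F ⟶ G)
    [Epi ((Scheme.Modules.pullback i).map u)] (z : Z) :
    Function.Surjective (stalkMapM u (i z)) := by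
  letI := (i.stalkMap z).hom.toAlgebra
  letI := Module.compHom (((Scheme.Modules.pullback i).obj F).presheaf.stalk z) (i.stalkMap z).hom
  letI := Module.compHom (((Scheme.Modules.pullback i).obj G).presheaf.stalk z) (i.stalkMap z).hom
  haveI : IsScalarTower (X.presheaf.stalk (i z)) (Z.presheaf.stalk z)
      (((Scheme.Modules.pullback i).obj F).presheaf.stalk z) :=
    IsScalarTower.of_algebraMap_smul fun r e => rfl
  haveI : IsScalarTower (X.presheaf.stalk (i z)) (Z.presheaf.stalk z)
      (((Scheme.Modules.pullback i).obj G).presheaf.stalk z) :=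
    IsScalarTower.of_algebraMap_smul fun r e => rfl
  haveI : Module.Finite (X.presheaf.stalk (i z)) (G.presheaf.stalk (i z)) :=
    S10857.finite_stalk G (i z)
  let K := RingHom.ker (i.stalkMap z).hom
  have hK : K ≤ (⊥ : Ideal (X.presheaf.stalk (i z))).jacobson := by
    rw [IsLocalRing.jacobson_eq_maximalIdeal _ bot_ne_top]
    exact IsLocalRing.le_maximalIdeal (RingHom.ker_ne_top _)
  have hle : (⊤ : Submodule (X.presheaf.stalk (i z)) (G.presheaf.stalk (i z))) ≤
      LinearMap.range (stalkLinear u (i z)) ⊔ K • ⊤ := by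
    intro g _
    obtain ⟨p, hp⟩ := surjective_stalkMapM_of_epi ((Scheme.Modules.pullback i).map u) z
      (DCK91.pullη i G z g)
    obtain ⟨f, rfl⟩ := surjective_of_isBaseChange (i.stalkMap_surjective z)
      (DCK91.isBaseChange_pullη i F z) p
    rw [← pullη_stalkMapM] at hp
    refine Submodule.mem_sup.2 ⟨stalkLinear u (i z) f, LinearMap.mem_range_self _ f,
      g - stalkLinear u (i z) f, ?_, add_sub_cancel _ _⟩
    refine mem_smul_of_isBaseChange_eq_zero (i.stalkMap_surjective z)
      (DCK91.isBaseChange_pullη i G z) ?_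
    rw [map_sub, sub_eq_zero]
    exact hp.symm
  have := Submodule.le_of_le_smul_of_le_jacobson_bot Module.Finite.fg_top hK hle
  intro g
  obtain ⟨f, hf⟩ := LinearMap.mem_range.1 (this (Submodule.mem_top : g ∈ ⊤))
  exact ⟨f, hf⟩

/-- A morphism out of a finite type quasi-coherent module vanishing at a stalk vanishes nearby. -/
theorem exists_nhd_stalkMapM_eq_zero {F G : X.Modules} [F.IsQuasicoherent] [F.IsFiniteType]
    (u : F ⟶ G) (x : X) (h : ∀ e, stalkMapM u x e = 0) :
    ∃ W : X.Opens, x ∈ W ∧ ∀ y ∈ W, ∀ e, stalkMapM u y e = 0 := by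
  classical
  obtain ⟨_, ⟨V, hV, rfl⟩, hxV, -⟩ :=
    X.isBasis_affineOpens.exists_subset_of_mem_open (Set.mem_univ x) isOpen_univ
  obtain ⟨S, hS⟩ := (finite_sections_of_isFiniteType F hV).fg_top
  have h0 : ∀ s : Γ(F, V), germM G V x hxV (u.app V s) = 0 := fun s =>
    (stalkMapM_germ u hxV s).symm.trans (h _)
  choose W hWV hxW hW using fun s : Γ(F, V) => germM_eq_zero (h0 s)
  refine ⟨S.inf W ⊓ V, ⟨?_, hxV⟩, fun y hy e => ?_⟩
  · have : ∀ T : Finset Γ(F, V), x ∈ T.inf W := fun T => by
      induction T using Finset.induction with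
      | empty => exact Opens.mem_top x
      | insert a s _ ih => rw [Finset.inf_insert]; exact ⟨hxW a, ih⟩
    exact this S
  · obtain ⟨f, t, hyf, ht⟩ := stalk_exists_smul (isLocAt_of_isQuasicoherent F hV) hV hy.2 e
    obtain ⟨v, hv⟩ := isUnit_germ hyf
    have he : e = (↑v⁻¹ : X.presheaf.stalk y) • germM F V y hy.2 t := by
      rw [← ht, ← hv, smul_smul, Units.inv_mul, one_smul]
    have hgen : ∀ s ∈ S, stalkLinear u y (germM F V y hy.2 s) = 0 := by
      intro s hs
      refine (stalkMapM_germ u hy.2 s).trans ?_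
      have hys : y ∈ W s := (Finset.inf_le hs : S.inf W ≤ W s) hy.1
      rw [← germM_res (hWV s) hys, hW s]
      exact germM_zero hys
    have hspan : t ∈ Submodule.span Γ(X, V) (S : Set Γ(F, V)) := hS ▸ trivial
    show stalkLinear u y e = 0
    rw [he, map_smul]
    suffices stalkLinear u y (germM F V y hy.2 t) = 0 by rw [this, smul_zero]
    clear he ht
    induction hspan using Submodule.span_induction with
    | mem s hs => exact hgen s hs
    | zero => rw [germM_zero]; exact map_zero _
    | add a b _ _ ha hb => rw [germM_add, map_add, ha, hb, add_zero]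
    | smul c a _ ha => rw [germM_smul, map_smul, ha, smul_zero]

/-- Vanishing on an open, from stalks. -/
theorem restrict_map_eq_zero {F G : X.Modules} (u : F ⟶ G) (U : X.Opens)
    (h : ∀ y ∈ U, ∀ e, stalkMapM u y e = 0) :
    (Scheme.Modules.restrictFunctor U.ι).map u = 0 := by
  refine Scheme.Modules.hom_ext _ _ fun W => ?_
  ext s
  show u.app (U.ι ''ᵁ W) s = 0
  refine section_ext G _ _ fun p hp => ?_
  have hpU : p ∈ U := by
    obtain ⟨q, -, rfl⟩ := hp
    exact q.2
  have h1 := h p hpU (germM F (U.ι ''ᵁ W) p hp s)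
  rw [stalkMapM_germ] at h1
  obtain ⟨W', hW', hpW', h2⟩ := germM_eq_zero h1
  exact ⟨W', hW', hpW', h2.trans (map_zero (G.presheaf.map (homOfLE hW').op).hom).symm⟩

/-- A morphism killed by all thickenings vanishes near the support. -/
theorem exists_nhd_restrict_eq_zero [IsLocallyNoetherian X] {F G : X.Modules} (hF : Coh.IsCoh F)
    (hG : Coh.IsCoh G) (u : F ⟶ G) (J : X.IdealSheafData)
    (h : ∀ n : ℕ, (Scheme.Modules.pullback (J ^ (n + 1)).subschemeι).map u = 0) :
    ∃ U : X.Opens, (J.support : Set X) ⊆ U ∧ (Scheme.Modules.restrictFunctor U.ι).map u = 0 := by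
  haveI := hF.1
  haveI := hF.2
  choose W hxW hW using fun x : J.support =>
    exists_nhd_stalkMapM_eq_zero u x.1 (stalkMapM_eq_zero hG u J h x.1 x.2)
  refine ⟨⨆ x, W x, fun x hx => Opens.mem_iSup.2 ⟨⟨x, hx⟩, hxW ⟨x, hx⟩⟩,
    restrict_map_eq_zero u _ fun y hy e => ?_⟩
  obtain ⟨x, hyx⟩ := Opens.mem_iSup.1 hy
  exact hW x y hyx e

end Groth.Agent.FCompl13
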