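import Groth.Agent.DCK91.PullStalk
import Groth.Agent.CartMod7.Affine
import Groth.Agent.QCPull72.Sections
import Groth.Agent.FlatMor68.FlatInfNbhd
import Groth.Agent.FCompl13.AffLoc
import Groth.Agent.FCompl13.StalkZero

/-!
The unit of pullback along a thickening on sections over an affine open: surjective, with kernel
the ideal times the module.
-/

set_option autoImplicit false
set_option backward.isDefEq.respectTransparency.types false
set_option linter.style.haveILetI false

noncomputable section

universe u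

open CategoryTheory Limits AlgebraicGeometry TopologicalSpace Opposite
open Groth.Agent.QC70

namespace Groth.Agent.FCompl13

variable {X Z : Scheme.{u}} (i : Z ⟶ X) [IsClosedImmersion i] [Surjective i] (G : X.Modules)

/-- The unit on sections. -/
abbrev unitApp (V : X.Opens) : Γ(G, V) → Γ((Scheme.Modules.pullback i).obj G, i ⁻¹ᵁ V) :=
  ((Scheme.Modules.pullbackPushforwardAdjunction i).unit.app G).app V

theorem epi_unit [G.IsQuasicoherent] :
    Epi ((Scheme.Modules.pullbackPushforwardAdjunction i).unit.app G) := by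
  refine epi_of_surjective_stalkMapM _ fun x => ?_
  obtain ⟨z, rfl⟩ := i.surjective x
  letI := (i.stalkMap z).hom.toAlgebra
  letI := Module.compHom (((Scheme.Modules.pullback i).obj G).presheaf.stalk z) (i.stalkMap z).hom
  haveI : IsScalarTower (X.presheaf.stalk (i z)) (Z.presheaf.stalk z)
      (((Scheme.Modules.pullback i).obj G).presheaf.stalk z) :=
    IsScalarTower.of_algebraMap_smul fun r e => rfl
  intro e
  obtain ⟨g, hg⟩ := surjective_of_isBaseChange (i.stalkMap_surjective z)
    (DCK91.isBaseChange_pullη i G z) (DCK91.pushStalk i z _ e)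
  refine ⟨g, ?_⟩
  have hiso := TopCat.Presheaf.stalkPushforward.stalkPushforward_iso_of_isInducing
    (C := AddCommGrpCat.{u}) i.isClosedEmbedding.isInducing
    ((Scheme.Modules.pullback i).obj G).presheaf z
  exact (ConcreteCategory.bijective_of_isIso
    (((Scheme.Modules.pullback i).obj G).presheaf.stalkPushforward _ i.base z)).1 hg

theorem unitApp_surjective [G.IsQuasicoherent] {V : X.Opens} (hV : IsAffineOpen V) :
    Function.Surjective (unitApp i G V) := by
  haveI := QCPull72.isQuasicoherent_pullback i G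
  haveI : ((Scheme.Modules.pushforward i).obj ((Scheme.Modules.pullback i).obj G)).IsQuasicoherent :=
    QCqs72.isQuasicoherent_pushforward _ i
  haveI : ((𝟭 X.Modules).obj G).IsQuasicoherent := ‹G.IsQuasicoherent›
  haveI := epi_unit i G
  haveI : ((Scheme.Modules.pullback i ⋙ Scheme.Modules.pushforward i).obj G).IsQuasicoherent :=
    ‹((Scheme.Modules.pushforward i).obj ((Scheme.Modules.pullback i).obj G)).IsQuasicoherent›
  exact CartMod7.app_surjective_of_epi _ hV

omit [IsClosedImmersion i] [Surjective i] in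
theorem unitApp_smul {V : X.Opens} (a : Γ(X, V)) (m : Γ(G, V)) :
    unitApp i G V (a • m) = (i.app V).hom a • unitApp i G V m :=
  (Scheme.Modules.Hom.app_smul _ _ _).trans (QCqs72.pushforward_smul _ i a _)

theorem unitApp_eq_zero_iff [G.IsQuasicoherent] {V : X.Opens} (hV : IsAffineOpen V) (m : Γ(G, V)) :
    unitApp i G V m = 0 ↔ m ∈ i.ker.ideal ⟨V, hV⟩ • (⊤ : Submodule Γ(X, V) Γ(G, V)) := by
  refine ⟨fun hm => ?_, fun hm => ?_⟩
  swap
  · refine Submodule.smul_induction_on (p := fun t => unitApp i G V t = 0) hm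
      (fun a ha n _ => ?_) (fun a b ha hb => ?_)
    · rw [unitApp_smul]
      rw [Scheme.Hom.ker_apply, RingHom.mem_ker] at ha
      rw [ha, zero_smul]
    · exact (map_add (((Scheme.Modules.pullbackPushforwardAdjunction i).unit.app G).app V).hom a b).trans
        ((congrArg₂ (· + ·) ha hb).trans (add_zero _))
  refine mem_of_local_smul hV _ m fun x hx => ?_
  obtain ⟨z, rfl⟩ := i.surjective x
  have hG := isLocAt_of_isQuasicoherent G hV
  letI := (i.stalkMap z).hom.toAlgebra
  letI := Module.compHom (((Scheme.Modules.pullback i).obj G).presheaf.stalk z) (i.stalkMap z).hom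
  haveI : IsScalarTower (X.presheaf.stalk (i z)) (Z.presheaf.stalk z)
      (((Scheme.Modules.pullback i).obj G).presheaf.stalk z) :=
    IsScalarTower.of_algebraMap_smul fun r e => rfl
  have h1 : germM G V (i z) hx m ∈ RingHom.ker (i.stalkMap z).hom •
      (⊤ : Submodule (X.presheaf.stalk (i z)) (G.presheaf.stalk (i z))) := by
    refine mem_smul_of_isBaseChange_eq_zero (i.stalkMap_surjective z)
      (DCK91.isBaseChange_pullη i G z) ?_
    rw [DCK91.pullη_germ]
    exact (congrArg (germM ((Scheme.Modules.pullback i).obj G) (i ⁻¹ᵁ V) z hx) hm).trans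
      (germM_zero (M := (Scheme.Modules.pullback i).obj G) hx)
  rw [FlatMor68.FlatInfNbhd.ker_stalkMap_closedImmersion,
    Div89.stalkIdeal_eq _ ⟨V, hV⟩ _ hx] at h1
  let P : G.presheaf.stalk (i z) → Prop := fun e => ∃ (f : Γ(X, V)) (y : Γ(G, V)),
    (i z) ∈ X.basicOpen f ∧ y ∈ i.ker.ideal ⟨V, hV⟩ • (⊤ : Submodule Γ(X, V) Γ(G, V)) ∧
      X.presheaf.germ V (i z) hx f • e = germM G V (i z) hx y
  have hone : (i z) ∈ X.basicOpen (1 : Γ(X, V)) := by
    rw [Scheme.basicOpen_of_isUnit _ isUnit_one]; exact hx
  have hadd : ∀ a b, P a → P b → P (a + b) := by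
    rintro a b ⟨f, y, hf, hy, e⟩ ⟨f', y', hf', hy', e'⟩
    refine ⟨f * f', f' • y + f • y', by rw [Scheme.basicOpen_mul]; exact ⟨hf, hf'⟩,
      Submodule.add_mem _ (Submodule.smul_mem _ _ hy) (Submodule.smul_mem _ _ hy'), ?_⟩
    rw [germM_add, germM_smul, germM_smul, ← e, ← e', smul_smul, smul_smul, map_mul, smul_add,
      mul_comm (X.presheaf.germ V (i z) hx f')]
  have hall : ∀ e, e ∈ (i.ker.ideal ⟨V, hV⟩).map (X.presheaf.germ V (i z) hx).hom •
      (⊤ : Submodule (X.presheaf.stalk (i z)) (G.presheaf.stalk (i z))) → P e := by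
    intro e he
    refine Submodule.smul_induction_on (p := P) he (fun r hr e _ => ?_) hadd
    · suffices h : ∀ e : G.presheaf.stalk (i z), P (r • e) from h e
      refine Submodule.span_induction (p := fun r _ => ∀ e : G.presheaf.stalk (i z), P (r • e))
        ?_ ?_ ?_ ?_ hr
      · rintro _ ⟨a, ha, rfl⟩ e
        obtain ⟨f, t, hf, ht⟩ := stalk_exists_smul hG hV hx e
        refine ⟨f, a • t, hf, Submodule.smul_mem_smul ha trivial, ?_⟩
        rw [germM_smul, ← ht, smul_smul, smul_smul, mul_comm]
      · intro e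
        exact ⟨1, 0, hone, Submodule.zero_mem _, by
          rw [zero_smul, smul_zero, germM_zero]⟩
      · intro a b _ _ ha hb e
        rw [add_smul]
        exact hadd _ _ (ha e) (hb e)
      · intro c a _ ha e
        rw [smul_eq_mul, mul_comm, mul_smul]
        exact ha (c • e)
  obtain ⟨f, y, hf, hy, e⟩ := hall _ h1
  rw [← germM_smul] at e
  obtain ⟨f', hf', h0⟩ := stalk_exists_smul_eq_zero hG hV hx (f • m - y) (by
    refine (map_sub (G.presheaf.germ V (i z) hx).hom _ _).trans ?_
    exact sub_eq_zero.2 e)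
  refine ⟨f' * f, by rw [Scheme.basicOpen_mul]; exact ⟨hf', hf⟩, ?_⟩
  rw [smul_sub, sub_eq_zero] at h0
  rw [mul_smul, h0]
  exact Submodule.smul_mem _ _ hy

end Groth.Agent.FCompl13
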