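import Groth.Prelude.Def_FSch5
import Groth.Agent.FCompl13.ModSec
import Groth.Agent.FCompl13.SecRing
import Groth.Agent.FCompl13.Transition
import Groth.Agent.QC70.Stalk
import Groth.Agent.AdicC27.Limit
import Groth.Agent.QC70.FiniteType

/-!
Sections over affine opens of the module attached to a coherent system: finite, complete, with the
expected kernels of the projections to the levels.
-/

set_option autoImplicit false
set_option backward.isDefEq.respectTransparency false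
set_option linter.style.haveILetI false

noncomputable section

universe u

open CategoryTheory CategoryTheory.Limits AlgebraicGeometry TopologicalSpace Opposite

namespace Groth.Agent.FCompl13

open _root_.FSch

variable {𝔛 : Sys.{u}} {h : 𝔛.IsFormal} (𝔐 : ModSys 𝔛)

/-- The sections of the attached module. -/
abbrev MSec (h : 𝔛.IsFormal) (U : (𝔛.X 0).Opens) : Type u :=
  (Mod48.pre (realLim 𝔛 h 𝔐.F 𝔐.toPush)).obj (op U)

/-- Sections of a level as a module over sections of `O_𝔛`. -/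
abbrev lvlMod (h : 𝔛.IsFormal) (U : (𝔛.X 0).Opens) (k : ℕ) :
    Module (FBlow13.Sec 𝔛 h U) Γ(𝔐.F k, 𝔛.lvU h k U) :=
  Module.compHom _ (FBlow13.proj 𝔛 h U k).hom

theorem toPush_eq (k : ℕ) :
    𝔐.toPush k = (Scheme.Modules.pullbackPushforwardAdjunction (𝔛.ι k)).unit.app (𝔐.F (k + 1)) ≫
      (Scheme.Modules.pushforward (𝔛.ι k)).map (𝔐.e k).hom :=
  Adjunction.homEquiv_unit ..

/-- The transition map is the unit followed by bijective maps. -/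
theorem mtrans_eq (U : (𝔛.X 0).Opens) (k : ℕ) (m : Γ(𝔐.F (k + 1), 𝔛.lvU h (k + 1) U)) :
    mtrans h 𝔐.F 𝔐.toPush U k m =
      (𝔐.F k).presheaf.map (homOfLE (𝔛.lvU_le h k U)).op
        ((𝔐.e k).hom.app _ (unitApp (𝔛.ι k) (𝔐.F (k + 1)) (𝔛.lvU h (k + 1) U) m)) := by
  unfold mtrans
  rw [toPush_eq]
  rfl

theorem bijective_comparison (U : (𝔛.X 0).Opens) (k : ℕ) :
    Function.Bijective fun y : Γ((Scheme.Modules.pullback (𝔛.ι k)).obj (𝔐.F (k + 1)),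
        (𝔛.ι k) ⁻¹ᵁ 𝔛.lvU h (k + 1) U) =>
      (𝔐.F k).presheaf.map (homOfLE (𝔛.lvU_le h k U)).op ((𝔐.e k).hom.app _ y) := by
  have h1 : IsIso ((𝔐.F k).presheaf.map (homOfLE (𝔛.lvU_le h k U)).op) := by
    have : IsIso (homOfLE (𝔛.lvU_le h k U)) :=
      ⟨homOfLE (𝔛.lvU_succ h k U).le, Subsingleton.elim _ _, Subsingleton.elim _ _⟩
    infer_instance
  have h2 : IsIso ((𝔐.e k).hom.app ((𝔛.ι k) ⁻¹ᵁ 𝔛.lvU h (k + 1) U)) := inferInstance
  exact (ConcreteCategory.bijective_of_isIso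
    ((𝔐.F k).presheaf.map (homOfLE (𝔛.lvU_le h k U)).op)).comp
    (ConcreteCategory.bijective_of_isIso ((𝔐.e k).hom.app ((𝔛.ι k) ⁻¹ᵁ 𝔛.lvU h (k + 1) U)))

theorem mtrans_smul (U : (𝔛.X 0).Opens) (k : ℕ) (a : Γ(𝔛.X (k + 1), 𝔛.lvU h (k + 1) U))
    (m : Γ(𝔐.F (k + 1), 𝔛.lvU h (k + 1) U)) :
    mtrans h 𝔐.F 𝔐.toPush U k (a • m) =
      ((𝔛.ι k).appLE (𝔛.lvU h (k + 1) U) (𝔛.lvU h k U) (𝔛.lvU_le h k U)).hom a •
        mtrans h 𝔐.F 𝔐.toPush U k m := by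
  rw [mtrans_eq, mtrans_eq, unitApp_smul, Scheme.Modules.Hom.app_smul, Scheme.Modules.map_smul]
  rfl

theorem mtrans_smul_sec (U : (𝔛.X 0).Opens) (k : ℕ) (s : FBlow13.Sec 𝔛 h U)
    (m : Γ(𝔐.F (k + 1), 𝔛.lvU h (k + 1) U)) :
    mtrans h 𝔐.F 𝔐.toPush U k (FBlow13.proj 𝔛 h U (k + 1) s • m) =
      FBlow13.proj 𝔛 h U k s • mtrans h 𝔐.F 𝔐.toPush U k m := by
  rw [mtrans_smul]
  exact congrArg (· • _) (FBlow13.proj_succ_apply U k s)

/-- The coherence needed at each level. -/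
theorem isQuasicoherent_of_isCoh (h𝔐 : 𝔐.IsCoh) (k : ℕ) : (𝔐.F k).IsQuasicoherent := (h𝔐 k).1

theorem mtrans_surjective (h𝔐 : 𝔐.IsCoh) {U : (𝔛.X 0).Opens} (hU : IsAffineOpen U) (k : ℕ) :
    Function.Surjective (mtrans h 𝔐.F 𝔐.toPush U k) := fun y => by
  have := (h k).1
  have : Surjective (𝔛.ι k) := ⟨(h k).2⟩
  have := (h𝔐 (k + 1)).1
  obtain ⟨z, hz⟩ := (bijective_comparison 𝔐 (h := h) U k).2 y
  obtain ⟨m, hm⟩ := unitApp_surjective (𝔛.ι k) (𝔐.F (k + 1))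
    (FBlow13.isAffineOpen_lvU (h := h) hU (k + 1)) z
  exact ⟨m, by rw [mtrans_eq, hm]; exact hz⟩

theorem mtrans_eq_zero_iff (h𝔐 : 𝔐.IsCoh) {U : (𝔛.X 0).Opens} (hU : IsAffineOpen U) (k : ℕ)
    (m : Γ(𝔐.F (k + 1), 𝔛.lvU h (k + 1) U)) :
    mtrans h 𝔐.F 𝔐.toPush U k m = 0 ↔
      m ∈ RingHom.ker ((𝔛.ι k).appLE (𝔛.lvU h (k + 1) U) (𝔛.lvU h k U) (𝔛.lvU_le h k U)).hom •
        (⊤ : Submodule Γ(𝔛.X (k + 1), 𝔛.lvU h (k + 1) U) Γ(𝔐.F (k + 1), 𝔛.lvU h (k + 1) U)) := by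
  have := (h k).1
  have : Surjective (𝔛.ι k) := ⟨(h k).2⟩
  have := (h𝔐 (k + 1)).1
  rw [mtrans_eq, (FBlow13.appLE_of_eq (𝔛.ι k) (𝔛.lvU_succ h k U).symm (𝔛.lvU_le h k U)).2,
    ← Scheme.Hom.ker_apply (f := 𝔛.ι k) ⟨_, FBlow13.isAffineOpen_lvU (h := h) hU (k + 1)⟩,
    ← unitApp_eq_zero_iff]
  refine ⟨fun e => (bijective_comparison 𝔐 (h := h) U k).1 (e.trans ?_), fun e => ?_⟩
  · change (0 : Γ(𝔐.F k, 𝔛.lvU h k U)) = (𝔐.F k).presheaf.map _ ((𝔐.e k).hom.app _ 0)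
    rw [map_zero, map_zero]
  · rw [e, map_zero, map_zero]

variable (h)

theorem mem_map_smul_top {A B M : Type*} [CommRing A] [CommRing B] [AddCommGroup M] [Module B M]
    (p : A →+* B) (K : Ideal A) :
    letI := Module.compHom M p
    ∀ m : M, m ∈ K.map p • (⊤ : Submodule B M) ↔ m ∈ K • (⊤ : Submodule A M) := by
  letI := Module.compHom M p
  intro m
  constructor
  · intro hm
    refine Submodule.smul_induction_on (p := fun t => t ∈ K • (⊤ : Submodule A M)) hm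
      (fun b hb n _ => ?_) (fun a b => Submodule.add_mem _)
    suffices hh : ∀ n : M, b • n ∈ K • (⊤ : Submodule A M) from hh n
    refine Submodule.span_induction (p := fun b _ => ∀ n : M, b • n ∈ K • (⊤ : Submodule A M))
      ?_ ?_ ?_ ?_ hb
    · rintro _ ⟨a, ha, rfl⟩ n
      exact Submodule.smul_mem_smul (show a ∈ K from ha) (trivial : n ∈ (⊤ : Submodule A M))
    · intro n; rw [zero_smul]; exact zero_mem _
    · intro a b _ _ ha hb n; rw [add_smul]; exact Submodule.add_mem _ (ha n) (hb n)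
    · intro c a _ ha n; rw [smul_eq_mul, mul_comm, mul_smul]; exact ha (c • n)
  · intro hm
    refine Submodule.smul_induction_on (p := fun t => t ∈ K.map p • (⊤ : Submodule B M)) hm
      (fun a ha n _ => ?_) (fun a b => Submodule.add_mem _)
    change p a • n ∈ _
    exact Submodule.smul_mem_smul (Ideal.mem_map_of_mem p ha) trivial

/-- The structure of the sections over an affine open. -/
theorem modSec (h𝔛 : 𝔛.IsLocNoethFormal) (h𝔐 : 𝔐.IsCoh) {U : (𝔛.X 0).Opens} (hU : IsAffineOpen U) :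
    Module.Finite (FBlow13.Sec 𝔛 h𝔛.1 U) (MSec 𝔐 h𝔛.1 U) ∧
      IsAdicComplete (secIdeal 𝔛 h𝔛.1 U) (MSec 𝔐 h𝔛.1 U) ∧
      ∀ k, Function.Surjective (mproj h𝔛.1 𝔐.F 𝔐.toPush U k) ∧
        ∀ x, mproj h𝔛.1 𝔐.F 𝔐.toPush U k x = 0 ↔
          x ∈ secIdeal 𝔛 h𝔛.1 U ^ (k + 1) • (⊤ : Submodule (FBlow13.Sec 𝔛 h𝔛.1 U) (MSec 𝔐 h𝔛.1 U)) := by
  have hF := h𝔛.1
  obtain ⟨-, hC, hp⟩ := secRing h𝔛 hU
  letI := lvlMod 𝔐 h𝔛.1 U
  let J := secIdeal 𝔛 h𝔛.1 U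
  have hker : ∀ k, RingHom.ker ((𝔛.ι k).appLE (𝔛.lvU h𝔛.1 (k + 1) U) (𝔛.lvU h𝔛.1 k U)
      (𝔛.lvU_le h𝔛.1 k U)).hom = (J ^ (k + 1)).map (FBlow13.proj 𝔛 h𝔛.1 U (k + 1)).hom := fun k => by
    rw [← (hp k).2, ← Ideal.map_comap_of_surjective _ (hp (k + 1)).1 (RingHom.ker _)]
    refine congrArg _ ?_
    rw [RingHom.comap_ker, ← CommRingCat.hom_comp, FBlow13.proj_succ]
  let S : AdicC27.LimSys J (fun k => Γ(𝔐.F k, 𝔛.lvU h𝔛.1 k U)) (MSec 𝔐 h𝔛.1 U) :=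
    { f := fun k =>
        { toFun := mtrans h𝔛.1 𝔐.F 𝔐.toPush U k
          map_add' := map_add _
          map_smul' := fun s m => mtrans_smul_sec 𝔐 U k s m }
      surj := fun k => mtrans_surjective 𝔐 h𝔐 hU k
      ker := fun k => by
        ext m
        rw [LinearMap.mem_ker]
        refine (mtrans_eq_zero_iff 𝔐 h𝔐 hU k m).trans ?_
        rw [hker]
        exact mem_map_smul_top _ _ m
      π := fun k =>
        { toFun := mproj h𝔛.1 𝔐.F 𝔐.toPush U k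
          map_add' := map_add _
          map_smul' := fun s x => mproj_smul U k s x }
      comp := fun k => LinearMap.ext fun x => mproj_succ U k x
      inj := fun x hx => msec_ext fun k => (hx k).trans (map_zero _).symm
      lift := fun y hy => exists_msec U y hy }
  have : IsPrecomplete J (FBlow13.Sec 𝔛 h𝔛.1 U) := hC.toIsPrecomplete
  have h0 : Module.Finite (FBlow13.Sec 𝔛 h𝔛.1 U) Γ(𝔐.F 0, 𝔛.lvU h𝔛.1 0 U) := by
    have := (h𝔐 0).1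
    have := (h𝔐 0).2
    have := QC70.finite_sections_of_isFiniteType (𝔐.F 0) (FBlow13.isAffineOpen_lvU (h := h𝔛.1) hU 0)
    letI := (FBlow13.proj 𝔛 h𝔛.1 U 0).hom.toAlgebra
    have : IsScalarTower (FBlow13.Sec 𝔛 h𝔛.1 U) Γ(𝔛.X 0, 𝔛.lvU h𝔛.1 0 U)
        Γ(𝔐.F 0, 𝔛.lvU h𝔛.1 0 U) := IsScalarTower.of_algebraMap_smul fun r e => rfl
    have : Module.Finite (FBlow13.Sec 𝔛 h𝔛.1 U) Γ(𝔛.X 0, 𝔛.lvU h𝔛.1 0 U) :=
      Module.Finite.of_surjective (Algebra.linearMap _ _) (hp 0).1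
    exact Module.Finite.trans Γ(𝔛.X 0, 𝔛.lvU h𝔛.1 0 U) _
  obtain ⟨h1, h2, h3⟩ := S.finite_and_isAdicComplete h0
  exact ⟨h1, h2, fun k => ⟨S.π_surjective k, fun x => SetLike.ext_iff.1 (h3 k) x⟩⟩

end Groth.Agent.FCompl13
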