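import Groth.Agent.FCompl13.AffVal
import Groth.Agent.FCompl13.ModStr

/-!
Systems of modules over an affine adic base: `M ↦ M^Δ` is fully faithful and essentially surjective.
-/

set_option autoImplicit false
set_option backward.isDefEq.respectTransparency false

noncomputable section

universe u

open CategoryTheory CategoryTheory.Limits AlgebraicGeometry TopologicalSpace Opposite
open Groth.Agent.QC70

namespace Groth.Agent.FCompl13

open _root_.FSch

theorem exists_limit_seq {A N : Type*} [CommRing A] [AddCommGroup N] [Module A N] (J : Ideal A)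
    [IsPrecomplete J N] (f : ℕ → N) (hf : ∀ n, f (n + 1) - f n ∈ J ^ (n + 1) • (⊤ : Submodule A N)) :
    ∃ L, ∀ n, L - f n ∈ J ^ (n + 1) • (⊤ : Submodule A N) := by
  have h : ∀ {m n : ℕ}, m ≤ n → f n - f m ∈ J ^ (m + 1) • (⊤ : Submodule A N) := fun {m n} hmn => by
    induction n, hmn using Nat.le_induction with
    | base => simp
    | succ n hn ih =>
      rw [show f (n + 1) - f m = (f (n + 1) - f n) + (f n - f m) by abel]
      exact add_mem (Submodule.smul_mono_left (Ideal.pow_le_pow_right (Nat.succ_le_succ hn)) (hf n)) ih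
  obtain ⟨L, hL⟩ := IsPrecomplete.prec (inferInstance : IsPrecomplete J N) (f := f) fun {m n} hmn => by
    rw [SModEq.sub_mem, ← neg_sub]
    exact Submodule.neg_mem _ (Submodule.smul_mono_left (Ideal.pow_le_pow_right m.le_succ) (h hmn))
  refine ⟨L, fun n => ?_⟩
  have h1 := SModEq.sub_mem.1 (hL (n + 1))
  rw [show L - f n = (f (n + 1) - f n) - (f (n + 1) - L) by abel]
  exact sub_mem (hf n) h1

variable {R : CommRingCat.{u}} (J : Ideal R) {𝔛 : Sys.{u}} (p : ∀ n, 𝔛.X n ⟶ Spec R)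
  (hp : ∀ n, 𝔛.ι n ≫ p (n + 1) = p n)

/-- The levels are the subschemes of the powers of `J`. -/
def LevKer : Prop := ∀ (n : ℕ) (a : R), (p n).appTop (specScal a) = 0 ↔ a ∈ J ^ (n + 1)

/-- The transition map on global sections. -/
def etr (𝔐 : ModSys 𝔛) (n : ℕ) (y : Γ(𝔐.F (n + 1), ⊤)) : Γ(𝔐.F n, ⊤) :=
  (𝔐.e n).hom.app ⊤ (pl (𝔛.ι n) (𝔐.F (n + 1)) (V := ⊤) (le_refl (⊤ : (𝔛.X n).Opens)) y)

theorem etr_add (𝔐 : ModSys 𝔛) (n : ℕ) (y y' : Γ(𝔐.F (n + 1), ⊤)) :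
    etr 𝔐 n (y + y') = etr 𝔐 n y + etr 𝔐 n y' :=
  (congrArg ((𝔐.e n).hom.app ⊤) (pl_add (f := 𝔛.ι n) _ _ y y')).trans (map_add ((𝔐.e n).hom.app ⊤).hom _ _)

theorem etr_hom {𝔐 𝔑 : ModSys 𝔛} (φ : 𝔐 ⟶ 𝔑) (n : ℕ) (y : Γ(𝔐.F (n + 1), ⊤)) :
    etr 𝔑 n ((φ.app (n + 1)).app ⊤ y) = (φ.app n).app ⊤ (etr 𝔐 n y) := by
  rw [etr, etr, ← pl_naturality]
  exact congr(($(φ.comm n)).app ⊤ (pl (𝔛.ι n) (𝔐.F (n + 1)) (V := ⊤) (le_refl (⊤ : (𝔛.X n).Opens)) y))

theorem etr_val (M : ModuleCat.{u} R) (n : ℕ) (m : M) :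
    etr (schSys 𝔛 p hp (tilde M)) n (val (p (n + 1)) M m) = val (p n) M m :=
  comp_congr_pl (𝔛.ι n) (p (n + 1)) (hp n) (tilde M) (U := ⊤) (W' := ⊤) (W := ⊤) le_rfl le_rfl le_rfl _

variable {J p} [∀ n, IsClosedImmersion (p n)]

theorem val_zero_iff (hJ : LevKer J p) (M : ModuleCat.{u} R) (n : ℕ) (m : M) :
    val (p n) M m = 0 ↔ m ∈ J ^ (n + 1) • (⊤ : Submodule R M) :=
  val_eq_zero_iff (p n) M _ (hJ n) m

theorem val_sub (M : ModuleCat.{u} R) (n : ℕ) (m m' : M) :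
    val (p n) M (m - m') = val (p n) M m - val (p n) M m' :=
  (AddMonoidHom.mk' (val (p n) M) (val_add _ M)).map_sub m m'

theorem eq_of_val_eq (hJ : LevKer J p) (M : ModuleCat.{u} R) [IsHausdorff J M] {m m' : M}
    (h : ∀ n, val (p n) M m = val (p n) M m') : m = m' := by
  refine sub_eq_zero.1 (IsHausdorff.haus (inferInstance : IsHausdorff J M) _ fun n => ?_)
  rw [SModEq.zero]
  refine Submodule.smul_mono_left (Ideal.pow_le_pow_right n.le_succ) ((val_zero_iff hJ M n _).1 ?_)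
  rw [val_sub, h n, sub_self]

theorem exists_val_eq (hJ : LevKer J p) (M : ModuleCat.{u} R) [IsPrecomplete J M]
    (z : ∀ n, Γ((schSys 𝔛 p hp (tilde M)).F n, ⊤))
    (hz : ∀ n, etr (schSys 𝔛 p hp (tilde M)) n (z (n + 1)) = z n) : ∃ m : M, ∀ n, val (p n) M m = z n := by
  choose f hf using fun n => val_surjective (p n) M (z n)
  obtain ⟨L, hL⟩ := exists_limit_seq J f fun n => (val_zero_iff hJ M n _).1 (by
    rw [val_sub, hf n, ← etr_val p hp M n (f (n + 1)), hf (n + 1), sub_eq_zero]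
    exact hz n)
  refine ⟨L, fun n => ?_⟩
  have := (val_zero_iff hJ M n _).2 (hL n)
  rw [val_sub, sub_eq_zero] at this
  exact this.trans (hf n)

theorem schSysMap_bijective (hJ : LevKer J p) (M N : ModuleCat.{u} R) [IsAdicComplete J N] :
    Function.Bijective (fun u : M ⟶ N => schSysMap 𝔛 p hp ((tilde.functor R).map u)) := by
  refine ⟨fun u v huv => ?_, fun φ => ?_⟩
  · ext m
    refine eq_of_val_eq hJ N fun n => ?_
    rw [← map_tilde_val (p n) M u m, ← map_tilde_val (p n) M v m]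
    exact congr(($(congrFun (congrArg ModSys.Hom.app huv) n)).app ⊤ (val (p n) M m))
  have hex : ∀ m : M, ∃ y : N, ∀ n, val (p n) N y = (φ.app n).app ⊤ (val (p n) M m) := fun m =>
    exists_val_eq hp hJ N _ fun n => (etr_hom φ n _).trans (congrArg _ (etr_val p hp M n m))
  choose y hy using hex
  have hadd : ∀ m m', y (m + m') = y m + y m' := fun m m' => eq_of_val_eq hJ N fun n => by
    rw [val_add, hy, hy, hy, val_add]; exact map_add ((φ.app n).app ⊤).hom _ _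
  have hsmul : ∀ (a : R) m, y (a • m) = a • y m := fun a m => eq_of_val_eq hJ N fun n => by
    rw [val_smul, hy, hy, val_smul]; exact Scheme.Modules.Hom.app_smul _ _ _
  refine ⟨ModuleCat.ofHom { toFun := y, map_add' := hadd, map_smul' := hsmul }, ?_⟩
  refine ModSys.Hom.ext (funext fun n => pullback_hom_ext (p n) M fun m => ?_)
  exact (map_tilde_val (p n) M _ m).trans (hy m n)

theorem exists_iso_schSys (hJ : LevKer J p) (h𝔛 : 𝔛.IsLocNoethFormal) [IsPrecomplete J R]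
    (𝔐 : ModSys 𝔛) (h𝔐 : 𝔐.IsCoh) :
    ∃ M : ModuleCat.{u} R, Module.Finite R M ∧ Nonempty (𝔐 ≅ schSys 𝔛 p hp (tilde M)) := by
  let W : (𝔛.X 0).Opens := ⊤
  have hW : IsAffineOpen W := (isAffineOpen_top (Spec R)).preimage (p 0)
  obtain ⟨-, -, hk⟩ := secRing h𝔛 hW
  obtain ⟨hfin, -, hm⟩ := modSec 𝔐 h𝔛 h𝔐 hW
  let ψ : R →+* FBlow13.Sec 𝔛 h𝔛.1 W :=
    ((schSharp 𝔛 h𝔛.1 p hp).hom.app (op ⊤)).hom.comp (Scheme.ΓSpecIso R).inv.hom
  have hψ : ∀ (n : ℕ) (a : R), FBlow13.proj 𝔛 h𝔛.1 W n (ψ a) = (p n).appTop (specScal a) := fun n a =>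
    (schSharp_proj_apply 𝔛 h𝔛 p hp ⊤ n (specScal a)).trans
      (congr($(Scheme.Hom.app_eq_appLE (p n) (U := ⊤)) (specScal a))).symm
  have hsurj : ∀ n (y : Γ(𝔛.X n, 𝔛.lvU h𝔛.1 n W)), ∃ a : R, FBlow13.proj 𝔛 h𝔛.1 W n (ψ a) = y := fun n y => by
    obtain ⟨r, hr⟩ := (p n).app_surjective ⊤ (isAffineOpen_top _) y
    obtain ⟨a, rfl⟩ := (Scheme.ΓSpecIso R).commRingCatIsoToRingEquiv.symm.surjective r
    exact ⟨a, (hψ n a).trans hr⟩
  have hψsurj : Function.Surjective ψ := fun s => by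
    choose f hf using fun n => hsurj n (FBlow13.proj 𝔛 h𝔛.1 W n s)
    have hstep : ∀ n, f (n + 1) - f n ∈ J ^ (n + 1) • (⊤ : Submodule R R) := fun n => by
      rw [smul_eq_mul, Ideal.mul_top, ← hJ n, ← hψ n, map_sub, map_sub, hf n, ← FBlow13.proj_succ_apply W n (ψ (f (n + 1))),
        hf (n + 1), FBlow13.proj_succ_apply, sub_self]
    obtain ⟨L, hL⟩ := exists_limit_seq J f hstep
    refine ⟨L, FBlow13.sec_ext fun n => ?_⟩
    have h0 := hL n
    rw [smul_eq_mul, Ideal.mul_top, ← hJ n, ← hψ n, map_sub, map_sub, sub_eq_zero] at h0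
    exact h0.trans (hf n)
  letI : Module R (MSec 𝔐 h𝔛.1 W) := Module.compHom _ ψ
  letI := ψ.toAlgebra
  have : IsScalarTower R (FBlow13.Sec 𝔛 h𝔛.1 W) (MSec 𝔐 h𝔛.1 W) :=
    IsScalarTower.of_algebraMap_smul fun r e => rfl
  have : Module.Finite R (FBlow13.Sec 𝔛 h𝔛.1 W) := Module.Finite.of_surjective (Algebra.linearMap _ _) hψsurj
  have hfinR : Module.Finite R (MSec 𝔐 h𝔛.1 W) := Module.Finite.trans (FBlow13.Sec 𝔛 h𝔛.1 W) _
  let M : ModuleCat.{u} R := ModuleCat.of R (MSec 𝔐 h𝔛.1 W)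
  let pr : ∀ n, MSec 𝔐 h𝔛.1 W → Γ(𝔐.F n, ⊤) := fun n x => mproj h𝔛.1 𝔐.F 𝔐.toPush W n x
  let lin : ∀ n, M →ₗ[R] Γ((Scheme.Modules.pushforward (p n)).obj (𝔐.F n), ⊤) := fun n =>
    { toFun := pr n
      map_add' := fun x y => map_add (mproj h𝔛.1 𝔐.F 𝔐.toPush W n) x y
      map_smul' := fun a x => by
        refine ((mproj_smul W n (ψ a) x).trans ?_).trans
          ((smul_top_eq ((Scheme.Modules.pushforward (p n)).obj (𝔐.F n)) a (pr n x)).trans
            (QCqs72.pushforward_smul (𝔐.F n) (p n) (specScal a) (pr n x))).symm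
        exact congrArg (· • _) (hψ n a) }
  let α : ∀ n, (Scheme.Modules.pullback (p n)).obj (tilde M) ⟶ 𝔐.F n := fun n =>
    ((Scheme.Modules.pullbackPushforwardAdjunction (p n)).homEquiv _ _).symm (tildeLift M (lin n))
  have hα : ∀ n m, (α n).app ⊤ (val (p n) M m) = pr n m := fun n m =>
    (adjunct_app (p n) M _ m).trans (tildeLift_app M (lin n) m)
  have hker : ∀ n (x : MSec 𝔐 h𝔛.1 W), pr n x = 0 → x ∈ J ^ (n + 1) • (⊤ : Submodule R M) := fun n x hx => by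
    refine Submodule.smul_induction_on (p := fun t => t ∈ J ^ (n + 1) • (⊤ : Submodule R M)) (((hm n).2 x).1 hx)
      (fun s hs y _ => ?_) (fun a b ha hb => add_mem ha hb)
    obtain ⟨a, rfl⟩ := hψsurj s
    refine Submodule.smul_mem_smul (M := M) (r := a) (n := y) ((hJ n a).1 ?_) trivial
    rw [← hψ n a]
    rwa [← (hk n).2, RingHom.mem_ker] at hs
  have hiso : ∀ n, IsIso (α n) := fun n => by
    have := QCPull72.isQuasicoherent_pullback (p n) (tilde M)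
    have := (h𝔐 n).1
    refine EGA73.isIso_of_bijective_cover (α n) (fun _ : PUnit.{u + 1} => ⊤)
      (fun _ => (isAffineOpen_top (Spec R)).preimage (p n)) (fun x => ⟨⟨⟩, trivial⟩)
      fun _ => ⟨(injective_iff_map_eq_zero _).2 fun z hz => ?_, fun y => ?_⟩
    · obtain ⟨m, rfl⟩ := val_surjective (p n) M z
      exact (val_zero_iff hJ M n m).2 (hker n m ((hα n m).symm.trans hz))
    · obtain ⟨m, hm'⟩ := (hm n).1 y
      exact ⟨val (p n) M m, (hα n m).trans hm'⟩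
  let β : schSys 𝔛 p hp (tilde M) ⟶ 𝔐 := ⟨α, fun n => by
    rw [← cancel_epi ((schSys 𝔛 p hp (tilde M)).e n).inv]
    conv_rhs => rw [Iso.inv_hom_id_assoc]
    refine pullback_hom_ext (p n) M fun m => ?_
    have e1 : ((schSys 𝔛 p hp (tilde M)).e n).inv.app ⊤ (val (p n) M m) =
        pl (𝔛.ι n) _ (V := ⊤) (le_refl (⊤ : (𝔛.X n).Opens)) (val (p (n + 1)) M m) :=
      (congrArg (((schSys 𝔛 p hp (tilde M)).e n).inv.app ⊤) (etr_val p hp M n m).symm).trans
        (congr(($(((schSys 𝔛 p hp (tilde M)).e n).hom_inv_id)).app ⊤ _))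
    rw [Scheme.Modules.Hom.comp_app, Scheme.Modules.Hom.comp_app]
    refine (congrArg (fun y => (𝔐.e n).hom.app ⊤ (((Scheme.Modules.pullback (𝔛.ι n)).map (α (n + 1))).app ⊤ y)) e1).trans ?_
    refine (congrArg ((𝔐.e n).hom.app ⊤) ((pl_naturality (f := 𝔛.ι n) _ _ _).trans
      (congrArg (pl (𝔛.ι n) _ (V := ⊤) (le_refl (⊤ : (𝔛.X n).Opens))) (hα (n + 1) m)))).trans ?_
    exact ((mtrans_eq_pl 𝔛 h𝔛.1 𝔐 n W _).symm.trans (mproj_succ W n m)).trans (hα n m).symm⟩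
  have : IsIso β := ⟨⟨fun n => inv (α n), fun n => by
      rw [Functor.map_inv, IsIso.inv_comp_eq, ← Category.assoc, β.comm n, Category.assoc, IsIso.hom_inv_id]
      exact (Category.comp_id _).symm⟩,
    ModSys.Hom.ext (funext fun n => IsIso.hom_inv_id (α n)), ModSys.Hom.ext (funext fun n => IsIso.inv_hom_id (α n))⟩
  exact ⟨M, hfinR, ⟨(asIso β).symm⟩⟩

end Groth.Agent.FCompl13
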