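import Groth.Agent.FCompl13.SecRing
import Groth.Agent.CAlg1.FlatComplete
import Groth.Agent.SiteMod.FlatRinged

/-!
The completion of a locally Noetherian scheme is flat over it.
-/

set_option autoImplicit false
set_option backward.isDefEq.respectTransparency false

noncomputable section

universe u

open CategoryTheory CategoryTheory.Limits AlgebraicGeometry TopologicalSpace Opposite

namespace Groth.Agent.FCompl13

open _root_.FSch

theorem flat_of_adic_quotients {B S : Type u} [CommRing B] [IsNoetherianRing B] [CommRing S] [Algebra B S]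
    (I : Ideal B) (J : Ideal S) [IsAdicComplete J S] (hJ : J.FG)
    (hsurj : ∀ (n : ℕ) (s : S), ∃ b : B, s - algebraMap B S b ∈ J ^ (n + 1))
    (hker : ∀ (n : ℕ) (b : B), algebraMap B S b ∈ J ^ (n + 1) ↔ b ∈ I ^ (n + 1)) : Module.Flat B S := by
  have hle : I.map (algebraMap B S) ≤ J := Ideal.map_le_iff_le_comap.2 fun b hb => by
    have := (hker 0 b).2 (by simpa using hb)
    simpa using this
  have hJI : J = I.map (algebraMap B S) := by
    refine le_antisymm ?_ hle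
    refine Submodule.le_of_le_smul_of_le_jacobson_bot hJ (IsAdicComplete.le_jacobson_bot J) fun x hx => ?_
    obtain ⟨b, hb⟩ := hsurj 1 x
    have hb' : algebraMap B S b ∈ J ^ (0 + 1) := by
      rw [zero_add, pow_one]
      have := J.sub_mem hx (Ideal.pow_le_self two_ne_zero hb)
      rwa [sub_sub_cancel] at this
    have hbI : b ∈ I := by simpa using (hker 0 b).1 hb'
    rw [show x = algebraMap B S b + (x - algebraMap B S b) by ring]
    refine Submodule.add_mem_sup (Ideal.mem_map_of_mem _ hbI) ?_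
    simpa [smul_eq_mul, pow_two] using hb
  have hpow : ∀ N, (I ^ N • ⊤ : Submodule B S) = Submodule.restrictScalars B (J ^ N) := fun N => by
    rw [hJI]; exact AdicC27.pow_smul_top_eq_restrictScalars I N
  have hmem : ∀ N (x : S), x ∈ (I ^ N • ⊤ : Submodule B S) ↔ x ∈ J ^ N := fun N x => by rw [hpow]; rfl
  have : IsAdicComplete I S := by
    have e := fun N (x y : S) => show (x ≡ y [SMOD (I ^ N • ⊤ : Submodule B S)]) ↔
        (x ≡ y [SMOD (J ^ N • ⊤ : Submodule S S)]) by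
      rw [SModEq.sub_mem, SModEq.sub_mem, hmem, smul_eq_mul, Ideal.mul_top]
    exact { haus' := fun x hx => IsHausdorff.haus (inferInstance : IsHausdorff J S) x fun N => (e N x 0).1 (hx N)
            prec' := fun f hf => by
              obtain ⟨L, hL⟩ := IsPrecomplete.prec (inferInstance : IsPrecomplete J S) (f := f)
                fun {m n} hmn => (e m _ _).1 (hf hmn)
              exact ⟨L, fun n => (e n _ _).2 (hL n)⟩ }
  refine CAlg1.FlatCpl.flat_of_flat_mods I fun N => ?_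
  let ψ : (B ⧸ I ^ N) →ₗ[B ⧸ I ^ N] (S ⧸ (I ^ N • ⊤ : Submodule B S)) :=
    LinearMap.toSpanSingleton _ _ (Submodule.Quotient.mk 1)
  refine Module.Flat.of_linearEquiv (LinearEquiv.ofBijective ψ ⟨?_, ?_⟩).symm
  · rw [injective_iff_map_eq_zero]
    intro b hb
    obtain ⟨b, rfl⟩ := Ideal.Quotient.mk_surjective b
    rw [Ideal.Quotient.eq_zero_iff_mem]
    change Submodule.Quotient.mk (b • (1 : S)) = 0 at hb
    rw [Submodule.Quotient.mk_eq_zero, hmem, Algebra.smul_def, mul_one] at hb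
    cases N with
    | zero => simp
    | succ n => exact (hker n b).1 hb
  · intro y
    obtain ⟨s, rfl⟩ := Submodule.Quotient.mk_surjective _ y
    obtain ⟨b, hb⟩ := hsurj N s
    refine ⟨Ideal.Quotient.mk _ b, ?_⟩
    change Submodule.Quotient.mk (b • (1 : S)) = _
    rw [Submodule.Quotient.eq, hmem, Algebra.smul_def, mul_one]
    have := (J ^ N).neg_mem (Ideal.pow_le_pow_right N.le_succ hb)
    rwa [neg_sub] at this

variable (𝔛 : Sys.{u}) (h𝔛 : 𝔛.IsLocNoethFormal) {Y : Scheme.{u}} (p : ∀ n, 𝔛.X n ⟶ Y)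
  (hp : ∀ n, 𝔛.ι n ≫ p (n + 1) = p n)

theorem schSharp_proj_apply (V : Y.Opens) (n : ℕ) (b : Γ(Y, V)) :
    FBlow13.proj 𝔛 h𝔛.1 (p 0 ⁻¹ᵁ V) n ((schSharp 𝔛 h𝔛.1 p hp).hom.app (op V) b) =
      (p n).appLE V (𝔛.lvU h𝔛.1 n (p 0 ⁻¹ᵁ V)) (lvU_p 𝔛 h𝔛.1 p hp n V).ge b :=
  congr($(schSharp_proj 𝔛 h𝔛.1 p hp n).hom.app (op V) b)

theorem flat_schSharp_app [IsLocallyNoetherian Y] (𝓘 : Y.IdealSheafData)
    [∀ n, IsClosedImmersion (p n)] (hker : ∀ n, (p n).ker = 𝓘 ^ (n + 1)) (V : Y.affineOpens) :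
    ((schSharp 𝔛 h𝔛.1 p hp).hom.app (op V.1)).hom.Flat := by
  have hW : IsAffineOpen (p 0 ⁻¹ᵁ V.1) := V.2.preimage (p 0)
  obtain ⟨hS, hC, hk⟩ := secRing h𝔛 hW
  have : IsNoetherianRing Γ(Y, V.1) := IsLocallyNoetherian.component_noetherian V
  let f : Γ(Y, V.1) →+* FBlow13.Sec 𝔛 h𝔛.1 (p 0 ⁻¹ᵁ V.1) := ((schSharp 𝔛 h𝔛.1 p hp).hom.app (op V.1)).hom
  have e := fun n => lvU_p 𝔛 h𝔛.1 p hp n V.1
  let : Algebra Γ(Y, V.1) (FBlow13.Sec 𝔛 h𝔛.1 (p 0 ⁻¹ᵁ V.1)) := f.toAlgebra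
  change Module.Flat Γ(Y, V.1) (FBlow13.Sec 𝔛 h𝔛.1 (p 0 ⁻¹ᵁ V.1))
  refine flat_of_adic_quotients (𝓘.ideal V) (secIdeal 𝔛 h𝔛.1 (p 0 ⁻¹ᵁ V.1)) (IsNoetherian.noetherian _)
    (fun n s => ?_) fun n b => ?_
  · obtain ⟨b, hb⟩ := (FBlow13.appLE_of_eq (p n) (e n).symm (e n).ge).1
      (FBlow13.proj 𝔛 h𝔛.1 (p 0 ⁻¹ᵁ V.1) n s) ((p n).app_surjective V.1 V.2)
    refine ⟨b, ?_⟩
    rw [← (hk n).2, RingHom.mem_ker, map_sub, sub_eq_zero]
    exact hb.symm.trans (schSharp_proj_apply 𝔛 h𝔛 p hp V.1 n b).symm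
  · have h1 : RingHom.ker ((p n).appLE V.1 (𝔛.lvU h𝔛.1 n (p 0 ⁻¹ᵁ V.1)) (e n).ge).hom = 𝓘.ideal V ^ (n + 1) := by
      rw [(FBlow13.appLE_of_eq (p n) (e n).symm (e n).ge).2, ← Scheme.Hom.ker_apply, hker n,
        Scheme.IdealSheafData.ideal_pow, Pi.pow_apply]
    rw [← (hk n).2, ← h1, RingHom.mem_ker, RingHom.mem_ker]
    exact Eq.congr_left (schSharp_proj_apply 𝔛 h𝔛 p hp V.1 n b)

theorem isTrivialRelation_map {R S R' S' : Type u} [CommRing R] [CommRing S] [CommRing R'] [CommRing S']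
    [Algebra R S] [Algebra R' S'] (β : R →+* R') (γ : S →+* S')
    (h : ∀ r, algebraMap R' S' (β r) = γ (algebraMap R S r)) {ι : Type*} [Fintype ι] {a : ι → R} {s : ι → S}
    (hr : Module.IsTrivialRelation a s) : Module.IsTrivialRelation (fun i => β (a i)) (fun i => γ (s i)) := by
  obtain ⟨k, c, z, hz, hc⟩ := hr
  refine ⟨k, fun i j => β (c i j), fun j => γ (z j), fun i => ?_, fun j => ?_⟩
  · simp only [hz i, map_sum, Algebra.smul_def, map_mul, h]
  · simpa only [map_sum, map_mul, map_zero, smul_eq_mul] using congrArg β (hc j)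

open SiteMod in
/-- The stalk maps are flat if the maps on sections are flat for enough opens. -/
theorem flat_stalkα_of_basis {X' Y' : TopCat.{u}} {f : X' ⟶ Y'} {O_X : TopCat.Sheaf CommRingCat.{u} X'}
    {O_Y : TopCat.Sheaf CommRingCat.{u} Y'}
    (c : O_Y ⟶ ((Opens.map f).sheafPushforwardContinuous CommRingCat.{u}
      (Opens.grothendieckTopology Y') (Opens.grothendieckTopology X')).obj O_X)
    (x : X') (hnb : ∀ (W : Opens X'), x ∈ W → ∀ U : Opens Y', f x ∈ U →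
      ∃ V : Opens Y', f x ∈ V ∧ V ≤ U ∧ (Opens.map f).obj V ≤ W ∧ (c.hom.app (op V)).hom.Flat) :
    (stalkα c x).Flat := by
  let F : TopCat.Presheaf CommRingCat.{u} Y' := O_Y.presheaf
  let G : TopCat.Presheaf CommRingCat.{u} X' := O_X.presheaf
  let α : F.stalk (f x) →+* G.stalk x := stalkα c x
  change α.Flat
  algebraize [α]
  change Module.Flat (F.stalk (f x)) (G.stalk x)
  refine Module.Flat.of_forall_isTrivialRelation fun {l} {a} {s} hrel => ?_
  obtain ⟨U, -, hU, aU, haU⟩ := exists_lift_germs F (W := ⊤) (y := f x) trivial a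
  obtain ⟨W, -, hW, sW, hsW⟩ := exists_lift_germs G (W := ⊤) (y := x) trivial s
  obtain ⟨V₁, hV₁, hV₁U, hV₁W, -⟩ := hnb W hW U hU
  let f₁ : ∀ V : Opens Y', F.obj (op V) →+* G.obj (op ((Opens.map f).obj V)) := fun V => (c.hom.app (op V)).hom
  let a₁ := fun i => F.map (homOfLE hV₁U).op (aU i)
  let s₁ := fun i => G.map (homOfLE hV₁W).op (sW i)
  have hgerm : ∀ (V : Opens Y') (hV : f x ∈ V) (b : F.obj (op V)),
      α (F.germ V _ hV b) = G.germ ((Opens.map f).obj V) x hV (f₁ V b) := fun V hV b => by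
    refine (germ_sig c (x := x) (𝟙 _) hV b).symm.trans (congrArg _ ?_)
    change G.map (𝟙 _) (f₁ V b) = _
    rw [G.map_id]; rfl
  have hV₁' : x ∈ (Opens.map f).obj V₁ := hV₁
  have hsum : G.germ ((Opens.map f).obj V₁) x hV₁' (∑ i, f₁ V₁ (a₁ i) * s₁ i) = 0 := by
    rw [map_sum, ← hrel]
    refine Finset.sum_congr rfl fun i _ => ?_
    rw [map_mul, ← hgerm V₁ hV₁, TopCat.Presheaf.germ_res_apply, TopCat.Presheaf.germ_res_apply, haU, hsW]
    exact (Algebra.smul_def _ _).symm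
  obtain ⟨W', hW', i₁, i₂, he⟩ := G.germ_eq x hV₁' hV₁' _ 0 (hsum.trans (map_zero _).symm)
  obtain ⟨V, hV, hVV₁, hVW', hflat⟩ := hnb W' hW' V₁ hV₁
  have hVV : (Opens.map f).obj V ≤ (Opens.map f).obj V₁ := fun z hz => hVV₁ hz
  let a₂ := fun i => F.map (homOfLE hVV₁).op (a₁ i)
  let s₂ := fun i => G.map (homOfLE hVV).op (s₁ i)
  let φ : F.obj (op V) →+* G.obj (op ((Opens.map f).obj V)) := f₁ V
  have hflat' : φ.Flat := hflat
  algebraize [φ]
  have h0 : ∑ i, a₂ i • s₂ i = 0 := by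
    have he' := congrArg (G.map (homOfLE hVW').op) he
    rw [map_zero, map_zero, ← CategoryTheory.comp_apply, ← G.map_comp, map_sum] at he'
    refine Eq.trans (Finset.sum_congr rfl fun i _ => ?_) he'
    rw [Algebra.smul_def, map_mul]
    exact congrArg₂ (· * ·) (congr($(c.hom.naturality (homOfLE hVV₁).op) (a₁ i))) rfl
  have htr : Module.IsTrivialRelation a₂ s₂ :=
    haveI : Module.Flat (F.obj (op V)) (G.obj (op ((Opens.map f).obj V))) := hflat'
    Module.Flat.isTrivialRelation_of_sum_smul_eq_zero h0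
  have hV' : x ∈ (Opens.map f).obj V := hV
  have e1 : (fun i => (F.germ V _ hV).hom (a₂ i)) = a := funext fun i =>
    (TopCat.Presheaf.germ_res_apply F _ _ hV (a₁ i)).trans
      ((TopCat.Presheaf.germ_res_apply F _ _ hV₁ (aU i)).trans (haU i))
  have e2 : (fun i => (G.germ ((Opens.map f).obj V) x hV').hom (s₂ i)) = s := funext fun i =>
    (TopCat.Presheaf.germ_res_apply G _ x hV' (s₁ i)).trans
      ((TopCat.Presheaf.germ_res_apply G _ x hV₁' (sW i)).trans (hsW i))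
  rw [← e1, ← e2]
  exact isTrivialRelation_map (F.germ V _ hV).hom (G.germ ((Opens.map f).obj V) x hV').hom
    (fun r => hgerm V hV r) htr

theorem flat_stalk [IsLocallyNoetherian Y] (𝓘 : Y.IdealSheafData)
    [∀ n, IsClosedImmersion (p n)] (hker : ∀ n, (p n).ker = 𝓘 ^ (n + 1)) (x : 𝔛.X 0) :
    (SiteMod.stalkα (f := (p 0).base) (schSharp 𝔛 h𝔛.1 p hp) x).Flat := by
  refine flat_stalkα_of_basis _ x fun W hxW U hxU => ?_
  obtain ⟨O, hO, hOW⟩ := (p 0).isClosedEmbedding.isInducing.isOpen_iff.1 W.2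
  have hx : (p 0).base x ∈ U ⊓ ⟨O, hO⟩ := ⟨hxU, show x ∈ (p 0).base ⁻¹' O from hOW.ge hxW⟩
  obtain ⟨_, ⟨V, hV, rfl⟩, hxV, hVle⟩ :=
    Y.isBasis_affineOpens.exists_subset_of_mem_open hx (U ⊓ ⟨O, hO⟩).2
  exact ⟨V, hxV, fun z hz => (hVle hz).1, fun z hz => hOW.le (hVle hz).2,
    flat_schSharp_app 𝔛 h𝔛 p hp 𝓘 hker ⟨V, hV⟩⟩

theorem isFlat_toSchemeMor [IsLocallyNoetherian Y] (𝓘 : Y.IdealSheafData)
    [∀ n, IsClosedImmersion (p n)] (hker : ∀ n, (p n).ker = 𝓘 ^ (n + 1)) :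
    ModSite.RMor.IsFlat (toSchemeMor 𝔛 h𝔛.1 p hp) :=
  SiteMod.isFlat_ringedMap (f := (p 0).base) (schSharp 𝔛 h𝔛.1 p hp) (flat_stalk 𝔛 h𝔛 p hp 𝓘 hker)

end Groth.Agent.FCompl13
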