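import Groth.Agent.FCompl13.ComplNat
import Groth.Agent.FCompl13.FlatCompl
import Groth.Agent.QCPull72.Closed
import Groth.Agent.EGA73.GammaStarIso

/-!
Modules on the levels of a system over an affine scheme: values of inverse images of `M~` on global sections.
-/

set_option autoImplicit false
set_option backward.isDefEq.respectTransparency false

noncomputable section

universe u

open CategoryTheory CategoryTheory.Limits AlgebraicGeometry TopologicalSpace Opposite
open Groth.Agent.QC70

namespace Groth.Agent.FCompl13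

open _root_.FSch

variable {R : CommRingCat.{u}}

/-- A scalar as a global section of the spectrum. -/
abbrev specScal (a : R) : Γ(Spec R, ⊤) := (Scheme.ΓSpecIso R).inv a

theorem smul_top_eq (M : (Spec R).Modules) (a : R) (x : Γ(M, ⊤)) :
    a • x = specScal a • x := by
  rw [Scheme.Modules.smul_Spec_def]
  congr 1

variable {X : Scheme.{u}} (f : X ⟶ Spec R) (M : ModuleCat.{u} R)

/-- An element of `M` as a global section of `f^* M~`. -/
def val (m : M) : Γ((Scheme.Modules.pullback f).obj (tilde M), ⊤) :=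
  pl f (tilde M) (V := ⊤) (le_refl (⊤ : X.Opens)) (tilde.toOpen M ⊤ m)

theorem val_add (m m' : M) : val f M (m + m') = val f M m + val f M m' :=
  (congrArg (pl f (tilde M) (V := ⊤) (le_refl (⊤ : X.Opens))) (map_add (tilde.toOpen M ⊤).hom m m')).trans (pl_add (f := f) _ _ _ _)

theorem val_smul (a : R) (m : M) : val f M (a • m) = f.appTop (specScal a) • val f M m := by
  let y : Γ(tilde M, ⊤) := tilde.toOpen M ⊤ m
  have h1 : (show Γ(tilde M, ⊤) from tilde.toOpen M ⊤ (a • m)) = specScal a • y :=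
    ((tilde.toOpen M ⊤).hom.map_smul a m).trans (smul_top_eq (tilde M) a y)
  refine (congrArg (pl f (tilde M) (V := ⊤) (le_refl (⊤ : X.Opens))) h1).trans ((pl_smul (f := f) _ _ _ _).trans ?_)
  exact congrArg (fun r : Γ(X, ⊤) => r • val f M m) (congr($(Scheme.Hom.app_eq_appLE f (U := ⊤)) (specScal a))).symm

theorem pl_top (F : (Spec R).Modules) (x : Γ(F, ⊤)) :
    pl f F (V := ⊤) (le_refl (⊤ : X.Opens)) x = (QCPull72.pullUnit f F).app ⊤ x :=
  res_self _

theorem adjunct_app {N : X.Modules} (g : tilde M ⟶ (Scheme.Modules.pushforward f).obj N) (m : M) :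
    (((Scheme.Modules.pullbackPushforwardAdjunction f).homEquiv _ _).symm g).app ⊤ (val f M m) =
      g.app ⊤ (tilde.toOpen M ⊤ m) := by
  conv_rhs => rw [← Equiv.apply_symm_apply ((Scheme.Modules.pullbackPushforwardAdjunction f).homEquiv _ _) g,
    Adjunction.homEquiv_unit]
  rw [val, pl_top]
  rfl

theorem tilde_hom_ext {G : (Spec R).Modules} {a b : tilde M ⟶ G}
    (h : ∀ m : M, a.app ⊤ (tilde.toOpen M ⊤ m) = b.app ⊤ (tilde.toOpen M ⊤ m)) : a = b := by
  apply (tilde.adjunction.homEquiv _ _).injective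
  ext m
  exact h m

/-- The map out of `M~` with given values. -/
def tildeLift {G : (Spec R).Modules} (l : M →ₗ[R] Γ(G, ⊤)) : tilde M ⟶ G :=
  ((tilde.adjunction (R := R)).homEquiv M G).symm (ModuleCat.ofHom l : ModuleCat.of R M ⟶ ModuleCat.of R Γ(G, ⊤))

theorem tildeLift_app {G : (Spec R).Modules} (l : M →ₗ[R] Γ(G, ⊤)) (m : M) :
    (tildeLift M l).app ⊤ (tilde.toOpen M ⊤ m) = l m :=
  congr($(((tilde.adjunction (R := R)).homEquiv M G).apply_symm_apply (ModuleCat.ofHom l : ModuleCat.of R M ⟶ ModuleCat.of R Γ(G, ⊤))) m)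

theorem pullback_hom_ext {N : X.Modules} {a b : (Scheme.Modules.pullback f).obj (tilde M) ⟶ N}
    (h : ∀ m : M, a.app ⊤ (val f M m) = b.app ⊤ (val f M m)) : a = b := by
  apply ((Scheme.Modules.pullbackPushforwardAdjunction f).homEquiv _ _).injective
  refine tilde_hom_ext M fun m => ?_
  rw [← adjunct_app, ← adjunct_app, Equiv.symm_apply_apply, Equiv.symm_apply_apply]
  exact h m

theorem map_tilde_val {N : ModuleCat.{u} R} (u : M ⟶ N) (m : M) :
    ((Scheme.Modules.pullback f).map ((tilde.functor R).map u)).app ⊤ (val f M m) = val f N (u m) := by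
  refine (pl_naturality (f := f) _ _ _).trans (congrArg (pl f (tilde N) (V := ⊤) (le_refl (⊤ : X.Opens))) ?_)
  exact congr($(tilde.toOpen_map_app (R := R) u ⊤) m)

variable [IsClosedImmersion f]

theorem val_surjective : Function.Surjective (val f M) := fun z => by
  obtain ⟨x, hx⟩ := QCPull72.pullUnit_app_surjective f (tilde M) (U := ⊤) (isAffineOpen_top _) z
  obtain ⟨m, rfl⟩ := (ConcreteCategory.bijective_of_isIso (tilde.toOpen M ⊤)).2 x
  exact ⟨m, (pl_top f _ _).trans hx⟩

variable (K : Ideal R) (hK : ∀ a : R, f.appTop (specScal a) = 0 ↔ a ∈ K)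

include hK in
theorem val_eq_zero_iff (m : M) : val f M m = 0 ↔ m ∈ K • (⊤ : Submodule R M) := by
  let v : M →+ Γ((Scheme.Modules.pullback f).obj (tilde M), ⊤) := AddMonoidHom.mk' (val f M) (val_add f M)
  refine ⟨fun hm => ?_, fun hm => ?_⟩
  swap
  · refine Submodule.smul_induction_on (p := fun t => v t = 0) hm (fun a ha n _ => ?_)
      (fun a b ha hb => by rw [map_add, ha, hb, add_zero])
    exact (val_smul f M a n).trans ((congrArg (· • val f M n) ((hK a).2 ha)).trans (zero_smul _ _))
  have h0 := QCPull72.pullUnit_app_eq_zero f (tilde M) (U := ⟨⊤, isAffineOpen_top _⟩)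
    (x := tilde.toOpen M ⊤ m) ((pl_top f _ _).symm.trans hm)
  obtain ⟨e, he⟩ : ∃ e : M ≃ₗ[R] Γ(tilde M, ⊤), ∀ x, e x = tilde.toOpen M ⊤ x :=
    ⟨LinearEquiv.ofBijective (tilde.toOpen M ⊤).hom (ConcreteCategory.bijective_of_isIso (tilde.toOpen M ⊤)),
      fun x => rfl⟩
  have key : ∀ x ∈ f.ker.ideal ⟨⊤, isAffineOpen_top _⟩ • (⊤ : Submodule Γ(Spec R, ⊤) Γ(tilde M, ⊤)),
      e.symm x ∈ K • (⊤ : Submodule R M) := by
    intro x hx
    refine Submodule.smul_induction_on (p := fun t => e.symm t ∈ K • (⊤ : Submodule R M)) hx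
      (fun r hr y _ => ?_) (fun a b ha hb => by rw [map_add]; exact add_mem ha hb)
    obtain ⟨a, rfl⟩ := (Scheme.ΓSpecIso R).commRingCatIsoToRingEquiv.symm.surjective r
    rw [Scheme.Hom.ker_apply, RingHom.mem_ker] at hr
    rw [show (Scheme.ΓSpecIso R).commRingCatIsoToRingEquiv.symm a • y = a • y from
      (smul_top_eq (tilde M) a y).symm, map_smul]
    exact Submodule.smul_mem_smul ((hK a).1 hr) trivial
  simpa [← he] using key _ h0

end Groth.Agent.FCompl13
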