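import Groth.Agent.FCompl13.ComplFull
import Groth.Prelude.Def_FSch6

/-!
The base-change map of a square over a morphism of schemes, on sections.
-/

set_option autoImplicit false
set_option backward.isDefEq.respectTransparency false

noncomputable section

universe u

open CategoryTheory CategoryTheory.Limits AlgebraicGeometry TopologicalSpace Opposite
open Groth.Agent.QC70

namespace Groth.Agent.FCompl13

open _root_.FSch
open SiteMod (ap)

section Square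

open ModSite (RMor)

variable {A : Type u} [SmallCategory A] {JA : GrothendieckTopology A}
  {B : Type u} [SmallCategory B] {JB : GrothendieckTopology B}
  {C : Type u} [SmallCategory C] {JC : GrothendieckTopology C}
  {D : Type u} [SmallCategory D] {JD : GrothendieckTopology D}
  {OA : Sheaf JA CommRingCat.{u}} {OB : Sheaf JB CommRingCat.{u}}
  {OC : Sheaf JC CommRingCat.{u}} {OD : Sheaf JD CommRingCat.{u}}
  {a : RMor OA OB} {b : RMor OB OD} {c : RMor OA OC} {d : RMor OC OD}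
  {e : b.fn ⋙ a.fn ≅ d.fn ⋙ c.fn}

/-- The base-change map of a square on sections coming from below. -/
theorem ap_bcMap (h : RMor.SharpSq a b c d e) (M : ModSite.Mod OB) (U : D)
    (m : (Mod48.pre (b.push.obj M)).obj (op U)) :
    ap (RMor.bcMap h M) (ap (d.adj.unit.app (b.push.obj M)) m) =
      Mod48.res (Mod48.pre (a.pull.obj M)) (e.inv.app U).op (ap (a.adj.unit.app M) (W := b.fn.obj U) m) := by
  have h1 := RMor.bcMap_transpose h M
  rw [Adjunction.homEquiv_unit] at h1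
  exact congrArg (fun ψ => ap ψ m) h1

end Square

section Unit

variable (𝔛 : Sys.{u}) (h : 𝔛.IsFormal) {Y : Scheme.{u}} (p : ∀ n, 𝔛.X n ⟶ Y)
  (hp : ∀ n, 𝔛.ι n ≫ p (n + 1) = p n)

/-- A section pulled back to the formal scheme. -/
def uSec {M : Y.Modules} {V : Y.Opens} (m : Γ(M, V)) :
    (Mod48.pre ((toSchemeMor 𝔛 h p hp).pull.obj M)).obj (op (p 0 ⁻¹ᵁ V)) :=
  ap ((toSchemeMor 𝔛 h p hp).adj.unit.app M) (W := V) m

theorem ap_homEquiv {M : Y.Modules} {N : ModF 𝔛 h} (β : (toSchemeMor 𝔛 h p hp).pull.obj M ⟶ N) {V : Y.Opens}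
    (m : Γ(M, V)) :
    ap ((toSchemeMor 𝔛 h p hp).adj.homEquiv _ _ β) (W := V) m = ap β (uSec 𝔛 h p hp m) := by
  rw [Adjunction.homEquiv_unit]
  rfl

theorem ap_pull_iso {M : Y.Modules} (e : (toSchemeMor 𝔛 h p hp).pull.obj M ⟶ (schSys 𝔛 p hp M).realMod h)
    (he : ∀ k, ((toSchemeMor 𝔛 h p hp).adj.homEquiv _ _ e) ≫
          (toSchemeMor 𝔛 h p hp).push.map (realProj 𝔛 h (schSys 𝔛 p hp M).F (schSys 𝔛 p hp M).toPush k) =
        (Scheme.Modules.pullbackPushforwardAdjunction (p k)).unit.app M ≫ (schPushCompare 𝔛 h p hp k).app _)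
    {V : Y.Opens} (m : Γ(M, V)) : ap e (uSec 𝔛 h p hp m) = toSec h p hp M m := by
  refine msec_ext fun k => ?_
  rw [mproj_toSec, ← ap_homEquiv 𝔛 h p hp e m]
  exact congrArg (fun ψ => ap ψ (W := V) m) (he k)

end Unit

variable {𝔛 𝔜 : Sys.{u}} (φ : 𝔛 ⟶ 𝔜) (h𝔛 : 𝔛.IsFormal) (h𝔜 : 𝔜.IsFormal) {X Y : Scheme.{u}} (f : X ⟶ Y)
  (p : ∀ n, 𝔛.X n ⟶ X) (hp : ∀ n, 𝔛.ι n ≫ p (n + 1) = p n)
  (r : ∀ n, 𝔜.X n ⟶ Y) (hr : ∀ n, 𝔜.ι n ≫ r (n + 1) = r n)
  (hsq : ∀ n, p n ≫ f = (φ : Hom 𝔛 𝔜).app n ≫ r n)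

theorem ap_schBcMap (G : X.Modules) {V : Y.Opens}
    (m : Γ((Scheme.Modules.pushforward f).obj G, V)) :
    ap (schBcMap φ h𝔛 h𝔜 f p hp r hr hsq G) (uSec 𝔜 h𝔜 r hr m) =
      Mod48.res (Mod48.pre ((toSchemeMor 𝔛 h𝔛 p hp).pull.obj G))
        (eqToHom (sch_sq_preimage φ f p r hsq V).symm).op
        (uSec 𝔛 h𝔛 p hp (M := G) (V := f ⁻¹ᵁ V) m) := by
  exact (ap_bcMap (schSharp_sq φ h𝔛 h𝔜 f p hp r hr hsq) G V m).trans
    (congrArg (fun t => Mod48.res (Mod48.pre ((toSchemeMor 𝔛 h𝔛 p hp).pull.obj G)) t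
      (uSec 𝔛 h𝔛 p hp (M := G) (V := f ⁻¹ᵁ V) m)) (Subsingleton.elim _ _))

end Groth.Agent.FCompl13
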