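import Groth.Agent.FCompl13.ProperLv
import Groth.Agent.FCompl13.BcSec
import Groth.Agent.SiteMod.LocSurj

/-!
The base-change map of a proper morphism to the completions is an isomorphism.
-/

set_option autoImplicit false
set_option maxSynthPendingDepth 6
set_option backward.isDefEq.respectTransparency false

noncomputable section

universe u

open CategoryTheory CategoryTheory.Limits AlgebraicGeometry TopologicalSpace Opposite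
open Groth.Agent.QC70

namespace Groth.Agent.FCompl13

open _root_.FSch
open SiteMod (ap)

variable {𝔛 𝔜 : Sys.{u}} (φ : 𝔛 ⟶ 𝔜) (h𝔛 : 𝔛.IsFormal) (h𝔜 : 𝔜.IsFormal) {X Y : Scheme.{u}} (f : X ⟶ Y)
  (p : ∀ n, 𝔛.X n ⟶ X) (hp : ∀ n, 𝔛.ι n ≫ p (n + 1) = p n)
  (r : ∀ n, 𝔜.X n ⟶ Y) (hr : ∀ n, 𝔜.ι n ≫ r (n + 1) = r n)
  (hsq : ∀ n, p n ≫ f = (φ : Hom 𝔛 𝔜).app n ≫ r n) (F : X.Modules)

/-- The attached module of the direct image. -/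
abbrev srcMod : ModF 𝔜 h𝔜 := (schSys 𝔜 r hr ((Scheme.Modules.pushforward f).obj F)).realMod h𝔜

/-- The direct image of the attached module. -/
abbrev tgtMod : ModF 𝔜 h𝔜 := (pushF φ h𝔛 h𝔜).obj ((schSys 𝔛 p hp F).realMod h𝔛)

/-- A section over the other description of an inverse image. -/
abbrev toTgt {V : Y.Opens} (y : MSec (schSys 𝔛 p hp F) h𝔛 (p 0 ⁻¹ᵁ (f ⁻¹ᵁ V))) :
    MSec (schSys 𝔛 p hp F) h𝔛 ((φ : Hom 𝔛 𝔜).app 0 ⁻¹ᵁ (r 0 ⁻¹ᵁ V)) :=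
  Mod48.res (Mod48.pre (realLim 𝔛 h𝔛 (schSys 𝔛 p hp F).F (schSys 𝔛 p hp F).toPush))
    (homOfLE (sch_sq_preimage φ f p r hsq V).ge).op y

theorem proj_sharp (n : ℕ) {U : (𝔜.X 0).Opens} (s : FBlow13.Sec 𝔜 h𝔜 U)
    (hs : FBlow13.proj 𝔜 h𝔜 U n s = 0) :
    FBlow13.proj 𝔛 h𝔛 ((φ : Hom 𝔛 𝔜).app 0 ⁻¹ᵁ U) n ((Hom.sharp φ h𝔛 h𝔜).hom.app (op U) s) = 0 := by
  refine (congrArg (fun ψ => ψ.hom.app (op U) s) (Hom.sharp_proj φ h𝔛 h𝔜 n)).trans ?_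
  change (Hom.levelPush φ h𝔛 h𝔜 n).hom.app (op U) (FBlow13.proj 𝔜 h𝔜 U n s) = 0
  rw [hs]
  exact map_zero ((Hom.levelPush φ h𝔛 h𝔜 n).hom.app (op U)).hom

variable [∀ n, IsClosedImmersion (p n)] [∀ n, IsClosedImmersion (r n)]
  [IsProper f] [IsLocallyNoetherian Y] (𝓘 : Y.IdealSheafData) (hkr : ∀ n, (r n).ker = 𝓘 ^ (n + 1))
  (hkp : ∀ n, (p n).ker = (𝓘.comap f) ^ (n + 1)) (hF : Coh.IsCoh F)
  [((Scheme.Modules.pushforward f).obj F).IsQuasicoherent]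
  (θ : srcMod h𝔜 f r hr F ⟶ tgtMod φ h𝔛 h𝔜 p hp F)
  (hθ : ∀ (V : Y.Opens) (m : Γ((Scheme.Modules.pushforward f).obj F, V)),
    ap θ (toSec h𝔜 r hr ((Scheme.Modules.pushforward f).obj F) m) =
      toTgt φ h𝔛 f p hp r hsq F (toSec h𝔛 p hp F (V := f ⁻¹ᵁ V) m))

include hkr hθ in
theorem mproj_theta {V : Y.Opens} (hV : IsAffineOpen V) (n : ℕ)
    (s : MSec (schSys 𝔜 r hr ((Scheme.Modules.pushforward f).obj F)) h𝔜 (r 0 ⁻¹ᵁ V))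
    (m : Γ((Scheme.Modules.pushforward f).obj F, V))
    (hm : mproj h𝔜 (schSys 𝔜 r hr ((Scheme.Modules.pushforward f).obj F)).F
      (schSys 𝔜 r hr ((Scheme.Modules.pushforward f).obj F)).toPush (r 0 ⁻¹ᵁ V) n s =
        lv h𝔜 r hr ((Scheme.Modules.pushforward f).obj F) n m) :
    mproj h𝔛 (schSys 𝔛 p hp F).F (schSys 𝔛 p hp F).toPush ((φ : Hom 𝔛 𝔜).app 0 ⁻¹ᵁ (r 0 ⁻¹ᵁ V)) n (ap θ s) =
      res ((schSys 𝔛 p hp F).F n) (FBlow.lvU_mono 𝔛 h𝔛 n (sch_sq_preimage φ f p r hsq V).ge)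
        (lv h𝔛 p hp F n (V := f ⁻¹ᵁ V) m) := by
  let G := (Scheme.Modules.pushforward f).obj F
  let μ : MSec (schSys 𝔜 r hr G) h𝔜 (r 0 ⁻¹ᵁ V) →+
      Γ((schSys 𝔛 p hp F).F n, 𝔛.lvU h𝔛 n ((φ : Hom 𝔛 𝔜).app 0 ⁻¹ᵁ (r 0 ⁻¹ᵁ V))) :=
    (mproj h𝔛 (schSys 𝔛 p hp F).F (schSys 𝔛 p hp F).toPush _ n).comp
      ((Mod48.fgt.map θ).app (op (r 0 ⁻¹ᵁ V))).hom.toAddMonoidHom
  have hfg : (𝓘.ideal ⟨V, hV⟩).FG :=
    haveI : IsNoetherianRing Γ(Y, V) := IsLocallyNoetherian.component_noetherian ⟨V, hV⟩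
    IsNoetherian.noetherian _
  have h0 : s - toSec h𝔜 r hr G m ∈ μ.ker := by
    refine mproj_eq_zero_mem h𝔜 r hr G hV 𝓘 hkr hfg n (fun b hb y => ?_) ?_
    · change μ (sg h𝔜 r hr V b • y) = 0
      have hb0 : FBlow13.proj 𝔜 h𝔜 (r 0 ⁻¹ᵁ V) n (sg h𝔜 r hr V b) = 0 := by
        rw [proj_sg, (FBlow13.appLE_of_eq (r n) (lvU_p 𝔜 h𝔜 r hr n V).symm (lvU_p 𝔜 h𝔜 r hr n V).ge).2
          |> fun e => RingHom.mem_ker.1 (e.ge (show b ∈ RingHom.ker ((r n).app V).hom by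
            rw [← Scheme.Hom.ker_apply (r n) ⟨V, hV⟩, hkr n, Scheme.IdealSheafData.ideal_pow]; exact hb))]
      change mproj h𝔛 _ _ _ n (((Mod48.fgt.map θ).app (op (r 0 ⁻¹ᵁ V))).hom (sg h𝔜 r hr V b • y)) = 0
      rw [map_smul]
      refine (mproj_smul (h := h𝔛) _ n ((Hom.sharp φ h𝔛 h𝔜).hom.app (op (r 0 ⁻¹ᵁ V)) (sg h𝔜 r hr V b))
        (ap θ y)).trans ?_
      rw [proj_sharp φ h𝔛 h𝔜 n _ hb0, zero_smul]
    · rw [map_sub, hm, mproj_toSec, sub_self]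
  rw [AddMonoidHom.mem_ker, map_sub, sub_eq_zero] at h0
  refine h0.trans ?_
  change mproj h𝔛 _ _ _ n (ap θ (toSec h𝔜 r hr G m)) = _
  rw [hθ]
  refine (mproj_res (h := h𝔛) (sch_sq_preimage φ f p r hsq V).ge n _).trans ?_
  rw [mproj_toSec]

omit [∀ n, IsClosedImmersion (r n)] in
theorem mproj_eq_lv_of_le {V : Y.Opens} (G : Y.Modules)
    (s : MSec (schSys 𝔜 r hr G) h𝔜 (r 0 ⁻¹ᵁ V)) (m : Γ(G, V)) {j k : ℕ} (hjk : j ≤ k)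
    (e : mproj h𝔜 (schSys 𝔜 r hr G).F (schSys 𝔜 r hr G).toPush (r 0 ⁻¹ᵁ V) k s = lv h𝔜 r hr G k m) :
    mproj h𝔜 (schSys 𝔜 r hr G).F (schSys 𝔜 r hr G).toPush (r 0 ⁻¹ᵁ V) j s = lv h𝔜 r hr G j m := by
  induction k, hjk using Nat.le_induction with
  | base => exact e
  | succ k _ ih => exact ih (by rw [← mproj_succ, e, mtrans_lv])

include hkr hkp hF hθ in
theorem theta_injective {V : Y.Opens} (hV : IsAffineOpen V)
    (s : MSec (schSys 𝔜 r hr ((Scheme.Modules.pushforward f).obj F)) h𝔜 (r 0 ⁻¹ᵁ V))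
    (hs : ap θ s = 0) : s = 0 := by
  let G := (Scheme.Modules.pushforward f).obj F
  haveI := hF.1
  obtain ⟨d, hd⟩ := exists_degree_lv f hV 𝓘 F hF h𝔛 p hp hkp
  refine msec_ext fun n => ?_
  rw [map_zero]
  obtain ⟨m, hm⟩ := lv_surjective h𝔜 r hr G hV (n + d)
    (mproj h𝔜 (schSys 𝔜 r hr G).F (schSys 𝔜 r hr G).toPush (r 0 ⁻¹ᵁ V) (n + d) s)
  have h1 := mproj_theta φ h𝔛 h𝔜 f p hp r hr hsq F 𝓘 hkr θ hθ hV (n + d) s m hm.symm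
  rw [hs, map_zero] at h1
  have h2 : lv h𝔛 p hp F (n + d) (V := f ⁻¹ᵁ V) m = 0 := by
    refine (res_self _).symm.trans ((res_res (FBlow.lvU_mono 𝔛 h𝔛 (n + d) (sch_sq_preimage φ f p r hsq V).ge)
      (FBlow.lvU_mono 𝔛 h𝔛 (n + d) (sch_sq_preimage φ f p r hsq V).le) _).symm.trans ?_)
    rw [← h1, res_zero]
  have h3 := hd _ _ h2
  rw [show n + d + 1 - d = n + 1 by omega] at h3
  refine (mproj_eq_lv_of_le h𝔜 r hr G s m (Nat.le_add_right n d) hm.symm).trans ?_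
  exact (lv_eq_zero_iff h𝔜 r hr G hV 𝓘 hkr n m).2 h3

include hkr hkp hF hθ in
theorem theta_surjective {V : Y.Opens} (hV : IsAffineOpen V)
    (t : MSec (schSys 𝔛 p hp F) h𝔛 ((φ : Hom 𝔛 𝔜).app 0 ⁻¹ᵁ (r 0 ⁻¹ᵁ V))) :
    ∃ s : MSec (schSys 𝔜 r hr ((Scheme.Modules.pushforward f).obj F)) h𝔜 (r 0 ⁻¹ᵁ V), ap θ s = t := by
  let G := (Scheme.Modules.pushforward f).obj F
  haveI := hF.1
  let t' : MSec (schSys 𝔛 p hp F) h𝔛 (p 0 ⁻¹ᵁ (f ⁻¹ᵁ V)) :=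
    Mod48.res (Mod48.pre (realLim 𝔛 h𝔛 (schSys 𝔛 p hp F).F (schSys 𝔛 p hp F).toPush))
      (homOfLE (sch_sq_preimage φ f p r hsq V).le).op t
  obtain ⟨d, hd⟩ := exists_degree_lv f hV 𝓘 F hF h𝔛 p hp hkp
  choose x hx using exists_lv_eq f hV 𝓘 F hF h𝔛 p hp hkp
    (fun k => mproj h𝔛 (schSys 𝔛 p hp F).F (schSys 𝔛 p hp F).toPush (p 0 ⁻¹ᵁ (f ⁻¹ᵁ V)) k t')
    (fun k => mproj_succ _ k t')
  have hback : ∀ {j k : ℕ}, j ≤ k → lv h𝔛 p hp F j (x k) = lv h𝔛 p hp F j (x j) := fun {j k} hjk => by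
    rw [hx j]
    induction hjk' : k - j generalizing j with
    | zero => rw [show k = j by omega, hx]
    | succ i ih =>
      rw [← mtrans_lv h𝔛 p hp F j (x k), ih (by omega) (by omega), mproj_succ]
  obtain ⟨s, hs⟩ := exists_msec (h := h𝔜) (r 0 ⁻¹ᵁ V)
    (G := (schSys 𝔜 r hr G).F) (t := (schSys 𝔜 r hr G).toPush)
    (fun n => lv h𝔜 r hr G n (x (n + d))) fun n => by
      refine (mtrans_lv h𝔜 r hr G n _).trans ?_
      rw [← sub_eq_zero, ← lv_sub, lv_eq_zero_iff h𝔜 r hr G hV 𝓘 hkr n]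
      have h0 := hd (n + d) (x (n + 1 + d) - x (n + d)) (by
        rw [lv_sub, sub_eq_zero]; exact hback (by omega))
      rw [show n + d + 1 - d = n + 1 by omega] at h0
      exact h0
  refine ⟨s, msec_ext (h := h𝔛) (G := (schSys 𝔛 p hp F).F) (t := (schSys 𝔛 p hp F).toPush)
    (U := (φ : Hom 𝔛 𝔜).app 0 ⁻¹ᵁ (r 0 ⁻¹ᵁ V)) (x := ap θ s) (y := t) fun n => ?_⟩
  rw [mproj_theta φ h𝔛 h𝔜 f p hp r hr hsq F 𝓘 hkr θ hθ hV n s _ (hs n)]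
  rw [show lv h𝔛 p hp F n (V := f ⁻¹ᵁ V) (x (n + d)) = _ from (hback (Nat.le_add_right n d)).trans (hx n)]
  refine (congrArg (res _ _) (mproj_res (h := h𝔛) (sch_sq_preimage φ f p r hsq V).le n t)).trans ?_
  exact (res_res _ _ _).trans (res_self _)

omit [IsProper f] [IsLocallyNoetherian Y] in
theorem exists_affine_preimage_le {W : (𝔜.X 0).Opens} {x : 𝔜.X 0} (hx : x ∈ W) :
    ∃ V : Y.Opens, IsAffineOpen V ∧ x ∈ r 0 ⁻¹ᵁ V ∧ r 0 ⁻¹ᵁ V ≤ W := by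
  obtain ⟨O, hO, hOW⟩ := (r 0).isClosedEmbedding.isInducing.isOpen_iff.1 W.2
  have hxO : (r 0).base x ∈ (⟨O, hO⟩ : Y.Opens) := show x ∈ (r 0).base ⁻¹' O from hOW.ge hx
  obtain ⟨V, hV, hxV, hVO⟩ := exists_isAffineOpen_mem_and_subset hxO
  exact ⟨V, hV, hxV, fun z hz => hOW.le (hVO hz)⟩

include hr hsq hkr hkp hF hθ in
theorem isIso_theta : IsIso θ := by
  have hepi : Epi θ := (SiteMod.epi_iff_locSurj _).2 fun W z => by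
    let S : Sieve W :=
      { arrows := fun U v => ∃ y : (Mod48.pre (srcMod h𝔜 f r hr F)).obj (op U),
          ap θ y = Mod48.res (Mod48.pre (tgtMod φ h𝔛 h𝔜 p hp F)) v.op z
        downward_closed := by
          rintro U U' v ⟨y, hy⟩ w
          exact ⟨Mod48.res _ w.op y, by rw [← SiteMod.res_ap, hy, Mod48.res_res, ← op_comp]⟩ }
    refine ⟨S, fun x hx => ?_, fun U v hv => hv⟩
    obtain ⟨V, hV, hxV, hVW⟩ := exists_affine_preimage_le r hx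
    exact ⟨_, homOfLE hVW, theta_surjective φ h𝔛 h𝔜 f p hp r hr hsq F 𝓘 hkr hkp hF θ hθ hV _, hxV⟩
  have hmono : Mono θ := SiteMod.mono_of_ap_injective _ fun W z hz => by
    let S : Sieve W :=
      { arrows := fun U v => Mod48.res (Mod48.pre (srcMod h𝔜 f r hr F)) v.op z = 0
        downward_closed := by
          intro U U' v hv w
          rw [op_comp, ← Mod48.res_res, hv, SiteMod.res_zero] }
    refine SiteMod.eq_zero_of_locally (S := S) (fun x hx => ?_) fun U v hv => hv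
    obtain ⟨V, hV, hxV, hVW⟩ := exists_affine_preimage_le r hx
    refine ⟨_, homOfLE hVW, theta_injective φ h𝔛 h𝔜 f p hp r hr hsq F 𝓘 hkr hkp hF θ hθ hV _ ?_, hxV⟩
    rw [← SiteMod.res_ap, hz, SiteMod.res_zero]
  exact isIso_of_mono_of_epi _

include hr hsq hkr hkp hF in
omit θ hθ in
theorem isIso_schBcMap (h𝔛' : 𝔛.IsLocNoethFormal) (h𝔜' : 𝔜.IsLocNoethFormal) [F.IsFinitePresentation]
    [((Scheme.Modules.pushforward f).obj F).IsFinitePresentation] :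
    IsIso (schBcMap φ h𝔛 h𝔜 f p hp r hr hsq F) := by
  let G := (Scheme.Modules.pushforward f).obj F
  obtain ⟨eX, heX⟩ := exists_pull_iso_schSys 𝔛 h𝔛 p hp h𝔛' F
  obtain ⟨eY, heY⟩ := exists_pull_iso_schSys 𝔜 h𝔜 r hr h𝔜' G
  let α := schBcMap φ h𝔛 h𝔜 f p hp r hr hsq F
  let θ : srcMod h𝔜 f r hr F ⟶ tgtMod φ h𝔛 h𝔜 p hp F := eY.inv ≫ α ≫ (pushF φ h𝔛 h𝔜).map eX.hom
  have hθ : ∀ (V : Y.Opens) (m : Γ(G, V)), ap θ (toSec h𝔜 r hr G m) =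
      toTgt φ h𝔛 f p hp r hsq F (toSec h𝔛 p hp F (V := f ⁻¹ᵁ V) m) := fun V m => by
    rw [← ap_pull_iso 𝔜 h𝔜 r hr eY.hom heY m]
    change ap eX.hom (ap α (ap (eY.hom ≫ eY.inv) (uSec 𝔜 h𝔜 r hr m))) = _
    rw [eY.hom_inv_id]
    refine (congrArg (ap eX.hom) (ap_schBcMap φ h𝔛 h𝔜 f p hp r hr hsq F m)).trans ?_
    refine ((SiteMod.res_ap eX.hom _ (uSec 𝔛 h𝔛 p hp (M := F) (V := f ⁻¹ᵁ V) m)).symm).trans ?_
    rw [ap_pull_iso 𝔛 h𝔛 p hp eX.hom heX]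
    exact congrArg (fun t => Mod48.res (Mod48.pre (realLim 𝔛 h𝔛 (schSys 𝔛 p hp F).F (schSys 𝔛 p hp F).toPush)) t
      (toSec h𝔛 p hp F (V := f ⁻¹ᵁ V) m)) (Subsingleton.elim _ _)
  have := isIso_theta φ h𝔛 h𝔜 f p hp r hr hsq F 𝓘 hkr hkp hF θ hθ
  have e : α = eY.hom ≫ θ ≫ inv ((pushF φ h𝔛 h𝔜).map eX.hom) := by simp [θ]
  suffices h0 : IsIso α from h0
  rw [e]
  infer_instance

end Groth.Agent.FCompl13
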