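import Groth.Agent.FCompl13.FreeCoord
import Groth.Agent.SiteMod.FinType

/-!
Presentations by arbitrary families of sections over an object of a site.
-/

set_option autoImplicit false
set_option linter.unusedSectionVars false
set_option backward.isDefEq.respectTransparency false

noncomputable section

universe u

open CategoryTheory Limits Opposite

namespace Groth.Agent.FCompl13

open Groth.Agent.SiteMod Groth.Agent.Mod48

section FreeSum

variable {C : Type u} [SmallCategory C] {J : GrothendieckTopology C} {O : Sheaf J CommRingCat.{u}}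
  {T : C} (hT : IsTerminal T) {G : ModSite.Mod O} {I : Type u}

theorem ap_freeTo_inF (v : I → (pre G).obj (op T)) (k : I) {W : C} (c : O.obj.obj (op W)) :
    ap (freeTo hT (G := G) v) (ap (inF (O := O) k) (toU c)) = c • res (pre G) (hT.from W).op (v k) := by
  rw [← ap_comp, inF_freeTo, ap_uTo]

theorem ap_freeTo_sum (v : I → (pre G).obj (op T)) {W : C} (S : Finset I) (c : I → O.obj.obj (op W)) :
    ap (freeTo hT (G := G) v) (∑ k ∈ S, ap (inF (O := O) k) (toU (c k))) =
      ∑ k ∈ S, c k • res (pre G) (hT.from W).op (v k) := by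
  refine (map_sum ((fgt.map (freeTo hT (G := G) v)).app (op W)).hom _ S).trans ?_
  exact Finset.sum_congr rfl fun k _ => ap_freeTo_inF hT v k (c k)

theorem res_inF_sum {W V : C} (g : V ⟶ W) (S : Finset I) (c : I → O.obj.obj (op W)) :
    res (pre (freeM (O := O) I)) g.op (∑ k ∈ S, ap (inF (O := O) k) (toU (c k))) =
      ∑ k ∈ S, ap (inF (O := O) k) (toU (O.obj.map g.op (c k))) := by
  refine (map_sum ((pre (freeM (O := O) I)).map g.op).hom _ S).trans (Finset.sum_congr rfl fun k _ => ?_)
  exact res_ap (inF (O := O) k) g (toU (c k))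

theorem coord_comb [DecidableEq I] [HasWeakSheafify J AddCommGrpCat.{u}]
    [J.WEqualsLocallyBijective AddCommGrpCat.{u}] {W : C} {K : Type u} (R : Finset K)
    (d : K → O.obj.obj (op W)) (S : K → Finset I) (c : K → I → O.obj.obj (op W)) (j : I) :
    ofU (ap (coord (O := O) j) (∑ k ∈ R, d k • ∑ i ∈ S k, ap (inF (O := O) i) (toU (c k i)))) =
      ∑ k ∈ R, d k * (if j ∈ S k then c k j else 0) := by
  refine (map_sum ((fgt.map (coord (O := O) j)).app (op W)).hom _ R).trans
    (Finset.sum_congr rfl fun k _ => ?_)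
  refine (map_smul ((fgt.map (coord (O := O) j)).app (op W)).hom (d k) _).trans ?_
  exact congrArg (d k * ·) (ap_coord_sum_inF j (S k) (c k))

end FreeSum

variable {C : Type u} [SmallCategory C] {J : GrothendieckTopology C} {O : Sheaf J CommRingCat.{u}}

/-- A presentation by arbitrary families of sections over `Y`. -/
structure BigPres (F : ModSite.Mod O) (Y : C) where
  /-- The generators. -/
  I : Type u
  /-- The relations. -/
  K : Type u
  /-- The generating sections. -/
  a : I → (pre F).obj (op Y)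
  /-- The generators occurring in a relation. -/
  S : K → Finset I
  /-- The coefficients of the relations. -/
  r : K → I → O.obj.obj (op Y)
  rel : ∀ k, ∑ i ∈ S k, r k i • a i = 0
  gen : ∀ (W : C) (g : W ⟶ Y) (x : (pre F).obj (op W)), ∃ T ∈ J W, ∀ ⦃V : C⦄ (v : V ⟶ W), T v →
    ∃ (R : Finset I) (c : I → O.obj.obj (op V)), res (pre F) v.op x = ∑ i ∈ R, c i • res (pre F) (v ≫ g).op (a i)
  kerr : ∀ (W : C) (g : W ⟶ Y) (R : Finset I) (c : I → O.obj.obj (op W)),
    ∑ i ∈ R, c i • res (pre F) g.op (a i) = 0 → ∃ T ∈ J W, ∀ ⦃V : C⦄ (v : V ⟶ W), T v →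
      ∃ (Q : Finset K) (d : K → O.obj.obj (op V)), ∀ [DecidableEq I] (i : I),
        (if i ∈ R then O.obj.map v.op (c i) else 0) =
          ∑ k ∈ Q, d k * (if i ∈ S k then O.obj.map (v ≫ g).op (r k i) else 0)

variable [∀ X : C, HasWeakSheafify (J.over X) AddCommGrpCat.{u}]
  [∀ X : C, (J.over X).WEqualsLocallyBijective AddCommGrpCat.{u}]
  {F : ModSite.Mod O} {Y : C} (d : BigPres F Y)

/-- The map from the free module on the relations. -/
def BigPres.relMap : freeM (O := O.over Y) d.K ⟶ freeM (O := O.over Y) d.I :=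
  freeTo (topO.isTerminal Y) fun k => ∑ i ∈ d.S k, ap (inF i) (toU (O := O.over Y) (W := topO Y) (d.r k i))

/-- The map to the module. -/
def BigPres.genMap : freeM (O := O.over Y) d.I ⟶ (ModSite.restr O Y).obj F :=
  freeTo (topO.isTerminal Y) (G := (ModSite.restr O Y).obj F) d.a

theorem BigPres.ap_genMap_sum {W : Over Y} (R : Finset d.I) (c : d.I → (O.over Y).obj.obj (op W)) :
    ap d.genMap (∑ i ∈ R, ap (inF (O := O.over Y) i) (toU (c i))) =
      ∑ i ∈ R, c i • (show (pre ((ModSite.restr O Y).obj F)).obj (op W) from res (pre F) W.hom.op (d.a i)) :=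
  (ap_freeTo_sum (topO.isTerminal Y) (G := (ModSite.restr O Y).obj F) d.a R c).trans
    (Finset.sum_congr rfl fun i _ => congrArg (c i • ·) (res_top F (d.a i) W))

theorem BigPres.relMap_genMap : d.relMap ≫ d.genMap = 0 := by
  refine free_hom_ext (topO.isTerminal Y) fun k => ?_
  rw [ap_comp, BigPres.relMap, ap_freeTo_gen₀]
  refine (d.ap_genMap_sum (W := topO Y) (d.S k) fun i => d.r k i).trans ?_
  refine Eq.trans (Finset.sum_congr rfl fun i _ => ?_) (d.rel k)
  exact congrArg (fun z : (pre ((ModSite.restr O Y).obj F)).obj (op (topO Y)) =>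
    toO (W := topO Y) (d.r k i) • z) (congr($((pre F).map_id (op Y)) (d.a i)))

theorem BigPres.epi_genMap : Epi d.genMap := by
  rw [epi_iff_locSurj, locSurj_over_iff]
  intro W x
  obtain ⟨T, hT, hc⟩ := d.gen W.left W.hom x
  refine ⟨T, hT, fun V v hv => ?_⟩
  obtain ⟨R, c, hc⟩ := hc v hv
  refine ⟨∑ i ∈ R, ap (inF (O := O.over Y) i) (toU (O := O.over Y) (W := Over.mk (v ≫ W.hom)) (c i)), ?_⟩
  exact (d.ap_genMap_sum (W := Over.mk (v ≫ W.hom)) R c).trans hc.symm

theorem BigPres.exact : (ShortComplex.mk d.relMap d.genMap d.relMap_genMap).Exact := by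
  classical
  refine exact_of_local _ fun W x hx => ?_
  obtain ⟨T, hT, hloc⟩ := exists_local_sum_free (O := O.over Y) x
  have key : ∀ ⦃V : Over Y⦄ (v : V ⟶ W), T v → ∃ T' ∈ (J.over Y) V, ∀ ⦃V' : Over Y⦄ (v' : V' ⟶ V), T' v' →
      ∃ y : (pre (freeM (O := O.over Y) d.K)).obj (op V'),
        ap d.relMap y = res (pre (freeM (O := O.over Y) d.I)) (v' ≫ v).op x := by
    intro V v hv
    obtain ⟨R, c, hx'⟩ := hloc v hv
    have h0 : ∑ i ∈ R, c i • (show (pre ((ModSite.restr O Y).obj F)).obj (op V) from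
        res (pre F) V.hom.op (d.a i)) = 0 := by
      rw [← d.ap_genMap_sum, ← hx', ← res_ap]
      exact (congrArg (res (pre ((ModSite.restr O Y).obj F)) v.op) hx).trans (SiteMod.res_zero _ _)
    obtain ⟨T', hT', hd⟩ := d.kerr V.left V.hom R c h0
    refine ⟨(Sieve.overEquiv V).symm T', by rw [J.mem_over_iff]; simpa using hT', fun V' v' hv' => ?_⟩
    obtain ⟨Q, e, he⟩ := hd v'.left hv'
    refine ⟨∑ k ∈ Q, ap (inF (O := O.over Y) k) (toU (O := O.over Y) (W := V') (e k)), ?_⟩
    refine (ap_freeTo_sum (O := O.over Y) (topO.isTerminal Y) _ (W := V') Q fun k => toO (W := V') (e k)).trans ?_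
    rw [op_comp, ← res_res, hx', res_inF_sum]
    refine sub_eq_zero.1 (eq_zero_of_coord _ fun j => ?_)
    refine (map_sub ((fgt.map (coord (O := O.over Y) j)).app (op V')).hom _ _).trans (sub_eq_zero.2 ?_)
    simp only [res_inF_sum]
    change ofU (ap (coord (O := O.over Y) j) _) = ofU (ap (coord (O := O.over Y) j) _)
    refine (coord_comb (O := O.over Y) (W := V') Q (fun k => toO (W := V') (e k)) d.S
      (fun k i => (O.over Y).obj.map ((topO.isTerminal Y).from V').op (d.r k i)) j).trans ?_
    refine Eq.trans ?_ (ap_coord_sum_inF j R _).symm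
    refine Eq.trans ?_ (he j).symm
    refine Finset.sum_congr rfl fun k _ => congrArg (e k * ·) ?_
    split_ifs
    · change O.obj.map ((topO.isTerminal Y).from V').left.op (d.r k j) = _
      rw [topO.from_left, Over.w v']
      rfl
    · rfl
  choose T' hT' hy using key
  refine ⟨Sieve.bind T.arrows fun V v hv => T' v hv, (J.over Y).bind_covering hT fun V v hv => hT' v hv, ?_⟩
  rintro V' _ ⟨V, v', v, hv, hv', rfl⟩
  exact hy v hv v' hv'

/-- The presentation of the restriction. -/
def BigPres.presentation : ((ModSite.restr O Y).obj F).Presentation :=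
  have := d.epi_genMap
  SheafOfModules.presentationOfIsCokernelFree d.relMap d.genMap d.relMap_genMap d.exact.gIsCokernel

theorem isQuasicoherent_of_bigPres (F : ModSite.Mod O)
    (h : ∀ X : C, ∃ S ∈ J X, ∀ ⦃Y : C⦄ (g : Y ⟶ X), S g → ∃ (Z : C) (_ : Y ⟶ Z), Nonempty (BigPres F Z)) :
    SheafOfModules.IsQuasicoherent.{u} F := by
  let I : Type u := {Y : C // Nonempty (BigPres F Y)}
  have hcov : J.CoversTop (fun i : I => i.1) := fun X => by
    obtain ⟨S, hS, hg⟩ := h X
    refine J.superset_covering (fun Y g hgS => ?_) hS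
    obtain ⟨Z, k, hZ⟩ := hg g hgS
    exact (Sieve.mem_ofObjects_iff ..).mpr ⟨⟨Z, hZ⟩, ⟨k⟩⟩
  exact (SheafOfModules.QuasicoherentData.mk.{u, u, u, u} (M := F) I (fun i : I => i.1) hcov
    fun i : I => i.2.some.presentation).isQuasicoherent

end Groth.Agent.FCompl13
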