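import Groth.Agent.FCompl13.CohSys
import Groth.Agent.SiteMod.OpensMod

/-!
Every coherent module on a locally Noetherian formal scheme is the module of a coherent system.
-/

set_option autoImplicit false
set_option backward.isDefEq.respectTransparency false

noncomputable section

universe u

open CategoryTheory CategoryTheory.Limits AlgebraicGeometry TopologicalSpace Opposite

namespace Groth.Agent.FCompl13

open _root_.FSch
open SiteMod (ap)

variable {𝔛 : Sys.{u}}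

/-- A module of finite presentation is presented on small affine opens. -/
theorem exists_affine_locPres {h : 𝔛.IsFormal} (𝔊 : ModF 𝔛 h) [𝔊.IsFinitePresentation]
    {W : (𝔛.X 0).Opens} {x : 𝔛.X 0} (hx : x ∈ W) :
    ∃ (V : (𝔛.X 0).Opens), IsAffineOpen V ∧ x ∈ V ∧ V ≤ W ∧ Nonempty (SiteMod.LocPres (Mod48.pre 𝔊) V) := by
  obtain ⟨S, hS, hd⟩ := SiteMod.exists_locPres_cover 𝔊 W
  obtain ⟨Y, v, hv, hxY⟩ := hS x hx
  obtain ⟨d⟩ := hd v hv
  obtain ⟨V, hV, hxV, hVY⟩ := exists_isAffineOpen_mem_and_subset hxY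
  exact ⟨V, hV, hxV, le_trans hVY (leOfHom v), ⟨d.pullback (homOfLE hVY)⟩⟩

variable (h𝔛 : 𝔛.IsLocNoethFormal) (𝔊 : ModF 𝔛 h𝔛.1) [𝔊.IsFinitePresentation]

theorem epi_toReal : Epi (toReal h𝔛.1 𝔊) := by
  refine (SiteMod.epi_iff_locSurj _).2 fun W x => ?_
  let S : Sieve W :=
    { arrows := fun V v => ∃ y : (Mod48.pre 𝔊).obj (op V),
        ap (toReal h𝔛.1 𝔊) y = Mod48.res (Mod48.pre ((sysOf h𝔛.1 𝔊).realMod h𝔛.1)) v.op x
      downward_closed := by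
        rintro V V' v ⟨y, hy⟩ w
        exact ⟨Mod48.res _ w.op y, by rw [← SiteMod.res_ap, hy, Mod48.res_res, ← op_comp]⟩ }
  refine ⟨S, fun z hz => ?_, fun V v hv => hv⟩
  obtain ⟨V, hV, hzV, hVW, ⟨d⟩⟩ := exists_affine_locPres 𝔊 hz
  obtain ⟨c, hc⟩ := (Submodule.mem_span_range_iff_exists_fun _).1
    ((span_toReal_eq_top h𝔛 𝔊 hV d).ge (Submodule.mem_top (x :=
      (show MSec (sysOf h𝔛.1 𝔊) h𝔛.1 V from
        Mod48.res (Mod48.pre ((sysOf h𝔛.1 𝔊).realMod h𝔛.1)) (homOfLE hVW).op x))))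
  exact ⟨V, homOfLE hVW, ⟨∑ i, c i • d.a i,
    (SiteMod.ap_lincomb (O := 𝔛.Osh h𝔛.1) (toReal h𝔛.1 𝔊) c d.a).trans hc⟩, hzV⟩

theorem mono_toReal : Mono (toReal h𝔛.1 𝔊) := by
  refine SiteMod.mono_of_ap_injective _ fun W z hz => ?_
  let S : Sieve W :=
    { arrows := fun V v => Mod48.res (Mod48.pre 𝔊) v.op z = 0
      downward_closed := by
        intro V V' v hv w
        rw [op_comp, ← Mod48.res_res, hv, SiteMod.res_zero] }
  refine SiteMod.eq_zero_of_locally (S := S) (fun x hx => ?_) fun V v hv => hv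
  obtain ⟨U, hU, hxU, hUW, ⟨d⟩⟩ := exists_affine_locPres 𝔊 hx
  obtain ⟨T, hT, hc⟩ := d.gen U (𝟙 U) (Mod48.res (Mod48.pre 𝔊) (homOfLE hUW).op z)
  obtain ⟨Y, p, hp, hxY⟩ := hT x hxU
  obtain ⟨c, hc⟩ := hc p hp
  obtain ⟨V, hV, hxV, hVY⟩ := exists_isAffineOpen_mem_and_subset hxY
  let q : V ⟶ Y := homOfLE hVY
  let d' := d.pullback (q ≫ p)
  let c' : d'.ι → FBlow13.Sec 𝔛 h𝔛.1 V := fun i => SiteMod.rres (O := 𝔛.Osh h𝔛.1) q.op (c i)
  have hzV : Mod48.res (Mod48.pre 𝔊) (homOfLE (le_trans hVY ((leOfHom p).trans hUW))).op z =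
      ∑ i, c' i • d'.a i := by
    have h1 := congrArg (Mod48.res (Mod48.pre 𝔊) q.op) hc
    rw [SiteMod.res_lincomb, Mod48.res_res, Mod48.res_res] at h1
    refine (congrArg (fun t => Mod48.res (Mod48.pre 𝔊) t z) (Subsingleton.elim _ _)).trans
      (h1.trans (Finset.sum_congr rfl fun i _ => congrArg (c' i • ·) ?_))
    change _ = Mod48.res (Mod48.pre 𝔊) (q ≫ p).op (d.a i)
    rw [Mod48.res_res]
    exact congrArg (fun t => Mod48.res (Mod48.pre 𝔊) t (d.a i)) (Subsingleton.elim _ _)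
  refine ⟨V, homOfLE (le_trans hVY ((leOfHom p).trans hUW)), ?_, hxV⟩
  change Mod48.res (Mod48.pre 𝔊) _ z = 0
  refine hzV.trans ?_
  have hrel : ∑ i, c' i • toRealSec h𝔛.1 𝔊 (d'.a i) = 0 :=
    (SiteMod.ap_lincomb (O := 𝔛.Osh h𝔛.1) (toReal h𝔛.1 𝔊) c' d'.a).symm.trans
      ((congrArg (ap (toReal h𝔛.1 𝔊)) hzV.symm).trans
        ((SiteMod.res_ap (toReal h𝔛.1 𝔊) _ z).symm.trans (by rw [hz, SiteMod.res_zero])))
  obtain ⟨e, he⟩ := (Submodule.mem_span_range_iff_exists_fun _).1 (rel_toReal h𝔛 𝔊 hV d' c' hrel)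
  rw [← he]
  simp only [Finset.sum_apply, Pi.smul_apply, smul_eq_mul, Finset.sum_smul, mul_smul]
  rw [Finset.sum_comm]
  refine Finset.sum_eq_zero fun t _ => ?_
  rw [← Finset.smul_sum, d'.rel t, smul_zero]

theorem isIso_toReal : IsIso (toReal h𝔛.1 𝔊) := by
  have := epi_toReal h𝔛 𝔊
  have := mono_toReal h𝔛 𝔊
  exact isIso_of_mono_of_epi _

end Groth.Agent.FCompl13
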