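import Groth.Agent.SiteMod.FlatRinged
import Groth.Agent.SiteMod.FinType

/-!
Inverse images along a morphism of ringed spaces of modules presented by finitely many sections.
-/

universe u

open CategoryTheory CategoryTheory.Limits Opposite TopologicalSpace

namespace Groth.Agent.FCompl13

open SiteMod Mod48

set_option backward.isDefEq.respectTransparency false

variable {X Y : TopCat.{u}} {f : X ⟶ Y} {O_X : TopCat.Sheaf CommRingCat.{u} X}
  {O_Y : TopCat.Sheaf CommRingCat.{u} Y}
  (c : O_Y ⟶ ((Opens.map f).sheafPushforwardContinuous CommRingCat.{u}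
    (Opens.grothendieckTopology Y) (Opens.grothendieckTopology X)).obj O_X)
  {M : ModSite.Mod O_Y} {U : Opens Y} (d : LocPres (pre M) U)

/-- The image of a section in the inverse image. -/
noncomputable abbrev pullSect {W : Opens Y} (m : (pre M).obj (op W)) :
    (pre ((ringedMap c).pull.obj M)).obj (op ((Opens.map f).obj W)) :=
  ofPush (ringedMap c) _ (ap ((ringedMap c).adj.unit.app M) m)

lemma res_pullSect {W W' : Opens Y} (g : W' ⟶ W) (m : (pre M).obj (op W)) :
    res (pre ((ringedMap c).pull.obj M)) ((Opens.map f).map g).op (pullSect c m) =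
      pullSect c (res (pre M) g.op m) :=
  (res_ofPush (ringedMap c) ((ringedMap c).pull.obj M) g _).symm.trans
    (congrArg (ofPush (ringedMap c) _) (res_ap ((ringedMap c).adj.unit.app M) g m))

lemma pullSect_lincomb {W : Opens Y} {ι : Type*} [Fintype ι] (s : ι → O_Y.presheaf.obj (op W))
    (m : ι → (pre M).obj (op W)) :
    pullSect c (∑ i, s i • m i) = ∑ i, shp (ringedMap c) W (s i) • pullSect c (m i) :=
  (congrArg (ofPush (ringedMap c) _) (ap_lincomb ((ringedMap c).adj.unit.app M) s m)).trans rfl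

/-- The sieve of the opens where a section is a combination of the generators. -/
noncomputable def combSieve {W : Opens X} (g : W ⟶ (Opens.map f).obj U)
    (z : (pre ((ringedMap c).pull.obj M)).obj (op W)) : Sieve W where
  arrows V v := ∃ e : d.ι → O_X.presheaf.obj (op V),
    res (pre ((ringedMap c).pull.obj M)) v.op z =
      ∑ i, e i • res (pre ((ringedMap c).pull.obj M)) (v ≫ g).op (pullSect c (d.a i))
  downward_closed := by
    rintro V V' v ⟨e, he⟩ w
    refine ⟨fun i => rres w.op (e i), ?_⟩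
    rw [op_comp, ← res_res, he, res_lincomb]
    refine Finset.sum_congr rfl fun i _ => congrArg (_ • ·) ?_
    rw [res_res, ← op_comp, Category.assoc]

lemma near_gen {W : Opens X} (g : W ⟶ (Opens.map f).obj U) {x : X} (hx : x ∈ W)
    (ξ : Sums (ringedMap c) (pre M) W) :
    ∃ (V : Opens X) (v : V ⟶ W), x ∈ V ∧ combSieve c d g
      (Finsupp.linearCombination (O_X.presheaf.obj (op W))
        (tripVal (ringedMap c) M _ (fgt.map ((ringedMap c).adj.unit.app M))) ξ) v := by
  induction ξ using Finsupp.induction_linear with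
  | zero => exact ⟨W, 𝟙 W, hx, 0, by simp [SiteMod.res_zero]⟩
  | add a b ha hb =>
    obtain ⟨V₁, v₁, h₁, e₁⟩ := ha
    obtain ⟨V₂, v₂, h₂, e₂⟩ := hb
    obtain ⟨e₁, he₁⟩ := (combSieve c d g _).downward_closed e₁ (homOfLE inf_le_left : V₁ ⊓ V₂ ⟶ V₁)
    obtain ⟨e₂, he₂⟩ := (combSieve c d g _).downward_closed e₂ (homOfLE inf_le_right : V₁ ⊓ V₂ ⟶ V₂)
    refine ⟨V₁ ⊓ V₂, homOfLE inf_le_left ≫ v₁, ⟨h₁, h₂⟩, e₁ + e₂, ?_⟩
    rw [map_add, res_add, he₁]
    conv_lhs => rw [show homOfLE inf_le_left ≫ v₁ = (homOfLE inf_le_right : V₁ ⊓ V₂ ⟶ V₂) ≫ v₂ from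
      Subsingleton.elim _ _, he₂]
    rw [show homOfLE inf_le_left ≫ v₁ = (homOfLE inf_le_right : V₁ ⊓ V₂ ⟶ V₂) ≫ v₂ from
      Subsingleton.elim _ _]
    simp only [Pi.add_apply, add_smul, Finset.sum_add_distrib]
  | single t b =>
    obtain ⟨S, hS, hc⟩ := d.gen (t.X ⊓ U) (homOfLE inf_le_right)
      (res (pre M) (homOfLE inf_le_left).op t.m)
    obtain ⟨Y', p, hp, hy⟩ := hS (f x) ⟨leOfHom t.g hx, leOfHom g hx⟩
    obtain ⟨e, he⟩ := hc p hp
    let V := W ⊓ (Opens.map f).obj Y'
    let v : V ⟶ W := homOfLE inf_le_left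
    let q : V ⟶ (Opens.map f).obj Y' := homOfLE inf_le_right
    refine ⟨V, v, ⟨hx, hy⟩, fun i => rres v.op b * rres q.op (shp (ringedMap c) Y' (e i)), ?_⟩
    rw [Finsupp.linearCombination_single, res_smul]
    have h1 : res (pre ((ringedMap c).pull.obj M)) v.op
        (tripVal (ringedMap c) M _ (fgt.map ((ringedMap c).adj.unit.app M)) t) =
      ∑ i, rres q.op (shp (ringedMap c) Y' (e i)) •
        res (pre ((ringedMap c).pull.obj M)) (v ≫ g).op (pullSect c (d.a i)) := by
      change res _ v.op (res _ t.g.op (pullSect c t.m)) = _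
      have h2 := congrArg (pullSect c) he
      rw [res_res (pre M) (homOfLE inf_le_left).op p.op t.m, ← op_comp, ← res_pullSect,
        pullSect_lincomb] at h2
      rw [res_res, ← op_comp, show v ≫ t.g = q ≫ (Opens.map f).map (p ≫ homOfLE inf_le_left) from
        Subsingleton.elim _ _, op_comp, ← res_res, h2, res_lincomb]
      refine Finset.sum_congr rfl fun i _ => congrArg (_ • ·) ?_
      rw [← res_pullSect, res_res]
      exact congrArg (fun z => res (pre ((ringedMap c).pull.obj M)) z _) (Subsingleton.elim _ _)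
    rw [h1, Finset.smul_sum]
    exact Finset.sum_congr rfl fun i _ => smul_smul _ _ _

lemma genAt_pull : GenAt (pre ((ringedMap c).pull.obj M)) ((Opens.map f).obj U)
    fun i => pullSect c (d.a i) := by
  intro W g z
  refine ⟨combSieve c d g z, fun x hx => ?_, fun V v hv => hv⟩
  obtain ⟨S, hS, hS'⟩ := locally_preimage (isLocalIso_cmpPull (ringedMap c) M) (op W) z
  obtain ⟨W₁, w, hw, hx₁⟩ := hS x hx
  obtain ⟨q, hq⟩ := hS' w hw
  obtain ⟨ξ, rfl⟩ := cls_surjective (ringedMap c) (pre M) q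
  rw [cmpPull_cls] at hq
  obtain ⟨V, v, hxV, e, he⟩ := near_gen c d (w ≫ g) hx₁ ξ
  rw [hq, res_res, ← op_comp, ← Category.assoc] at he
  exact ⟨V, v ≫ w, ⟨e, he⟩, hxV⟩

section Rel

variable (x : X)

/-- Germs of the relations. -/
noncomputable def relGerms (hx : f x ∈ U) :
    Submodule ↥(TopCat.Presheaf.stalk (C := CommRingCat.{u}) O_X.presheaf x)
      (d.ι → ↥(TopCat.Presheaf.stalk (C := CommRingCat.{u}) O_X.presheaf x)) :=
  Submodule.span _ (Set.range fun t i => stalkα c x (O_Y.presheaf.germ U (f x) hx (d.r t i)))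

/-- Germs of coefficient vectors modulo relations. -/
abbrev RelQuo (hx : f x ∈ U) : Type u :=
  (d.ι → ↥(TopCat.Presheaf.stalk (C := CommRingCat.{u}) O_X.presheaf x)) ⧸ relGerms c d x hx

variable {x} {hU : f x ∈ U}

/-- Coefficients of a section near the point. -/
def Rep {W : Opens Y} (m : (pre M).obj (op W)) (q : RelQuo c d x hU) : Prop :=
  ∃ (Y' : Opens Y) (hW : Y' ≤ W) (hY : Y' ≤ U) (hy : f x ∈ Y') (e : d.ι → O_Y.presheaf.obj (op Y')),
    res (pre M) (homOfLE hW).op m = ∑ i, e i • res (pre M) (homOfLE hY).op (d.a i) ∧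
      q = Submodule.Quotient.mk fun i => stalkα c x (O_Y.presheaf.germ Y' (f x) hy (e i))

lemma exists_rep {W : Opens Y} (hy : f x ∈ W) (m : (pre M).obj (op W)) :
    ∃ q : RelQuo c d x hU, Rep c d m q := by
  obtain ⟨S, hS, hc⟩ := d.gen (W ⊓ U) (homOfLE inf_le_right) (res (pre M) (homOfLE inf_le_left).op m)
  obtain ⟨Y', p, hp, hy'⟩ := hS (f x) ⟨hy, hU⟩
  obtain ⟨e, he⟩ := hc p hp
  refine ⟨_, Y', (leOfHom p).trans inf_le_left, (leOfHom p).trans inf_le_right, hy', e, ?_, rfl⟩
  rw [res_res, ← op_comp] at he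
  exact (congrArg (fun z => res (pre M) z m) (Subsingleton.elim _ _)).trans
    (he.trans (Finset.sum_congr rfl fun i _ => congrArg (fun z => e i • res (pre M) z (d.a i))
      (Subsingleton.elim _ _)))

lemma Rep.res_right {W W' : Opens Y} {g : W' ⟶ W} {m : (pre M).obj (op W)} {q : RelQuo c d x hU}
    (h : Rep c d (res (pre M) g.op m) q) : Rep c d m q := by
  obtain ⟨Y', hW, hY, hy, e, he, rfl⟩ := h
  refine ⟨Y', hW.trans (leOfHom g), hY, hy, e, ?_, rfl⟩
  rw [← he, res_res]
  exact congrArg (fun z => res (pre M) z m) (Subsingleton.elim _ _)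

lemma rep_restrict {W : Opens Y} {m : (pre M).obj (op W)} {Y' : Opens Y} (hW : Y' ≤ W) (hY : Y' ≤ U)
    {e : d.ι → O_Y.presheaf.obj (op Y')}
    (he : res (pre M) (homOfLE hW).op m = ∑ i, e i • res (pre M) (homOfLE hY).op (d.a i))
    {Z : Opens Y} (hZ : Z ≤ Y') :
    res (pre M) (homOfLE (hZ.trans hW)).op m =
      ∑ i, rres (O := O_Y) (homOfLE hZ).op (e i) • res (pre M) (homOfLE (hZ.trans hY)).op (d.a i) := by
  have h1 := congrArg (res (pre M) (homOfLE hZ).op) he
  rw [res_lincomb] at h1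
  simp only [res_res] at h1
  exact (congrArg (fun z => res (pre M) z m) (Subsingleton.elim _ _)).trans (h1.trans
    (Finset.sum_congr rfl fun i _ => congrArg (fun z => rres (O := O_Y) (homOfLE hZ).op (e i) •
      res (pre M) z (d.a i)) (Subsingleton.elim _ _)))

lemma germ_rres {Z Z' : Opens Y} (g : Z' ⟶ Z) {y : Y} (hy : y ∈ Z') (s : O_Y.presheaf.obj (op Z)) :
    O_Y.presheaf.germ Z' y hy (rres (O := O_Y) g.op s) = O_Y.presheaf.germ Z y (leOfHom g hy) s :=
  TopCat.Presheaf.germ_res_apply O_Y.presheaf g y hy s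

lemma Rep.unique {W : Opens Y} {m : (pre M).obj (op W)} {q q' : RelQuo c d x hU}
    (h : Rep c d m q) (h' : Rep c d m q') : q = q' := by
  obtain ⟨Y₁, hW₁, hY₁, hy₁, e₁, he₁, rfl⟩ := h
  obtain ⟨Y₂, hW₂, hY₂, hy₂, e₂, he₂, rfl⟩ := h'
  let g : Y₁ ⊓ Y₂ ⟶ U := homOfLE (inf_le_left.trans hY₁)
  have h1 := rep_restrict d hW₁ hY₁ he₁ (inf_le_left : Y₁ ⊓ Y₂ ≤ Y₁)
  have h2 := rep_restrict d hW₂ hY₂ he₂ (inf_le_right : Y₁ ⊓ Y₂ ≤ Y₂)
  obtain ⟨S, hS, hd⟩ := d.kerr (Y₁ ⊓ Y₂) g
    (fun i => rres (O := O_Y) (homOfLE inf_le_left).op (e₁ i) - rres (O := O_Y) (homOfLE inf_le_right).op (e₂ i))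
    (by
      simp only [sub_smul, Finset.sum_sub_distrib, sub_eq_zero]
      exact h1.symm.trans ((congrArg (fun z => res (pre M) z m) (Subsingleton.elim _ _)).trans h2))
  obtain ⟨Z, p, hp, hz⟩ := hS (f x) ⟨hy₁, hy₂⟩
  obtain ⟨s, hs⟩ := hd p hp
  rw [Submodule.Quotient.eq]
  have : ((fun i => stalkα c x (O_Y.presheaf.germ Y₁ (f x) hy₁ (e₁ i))) -
      fun i => stalkα c x (O_Y.presheaf.germ Y₂ (f x) hy₂ (e₂ i))) =
      ∑ t, stalkα c x (O_Y.presheaf.germ Z (f x) hz (s t)) •
        fun i => stalkα c x (O_Y.presheaf.germ U (f x) hU (d.r t i)) := by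
    funext i
    have h3 := congrArg (fun z => stalkα c x (O_Y.presheaf.germ Z (f x) hz z)) (hs i)
    simp only [map_sub, map_sum, map_mul, germ_rres] at h3
    rw [Pi.sub_apply, Finset.sum_apply, h3]
    rfl
  rw [this]
  exact Submodule.sum_mem _ fun t _ => Submodule.smul_mem _ _ (Submodule.subset_span ⟨t, rfl⟩)

open Classical in
/-- The coefficients of a section near the point, modulo relations. -/
noncomputable def coeffs (hU : f x ∈ U) (W : Opens Y) (m : (pre M).obj (op W)) : RelQuo c d x hU :=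
  if hy : f x ∈ W then (exists_rep c d hy m).choose else 0

lemma coeffs_eq {W : Opens Y} (hy : f x ∈ W) {m : (pre M).obj (op W)} {q : RelQuo c d x hU}
    (h : Rep c d m q) : coeffs c d hU W m = q := by
  rw [coeffs, dif_pos hy]
  exact (exists_rep c d hy m).choose_spec.unique c d h

lemma rep_coeffs {W : Opens Y} (hy : f x ∈ W) (m : (pre M).obj (op W)) :
    Rep c d m (coeffs c d hU W m) := by
  obtain ⟨q, hq⟩ := exists_rep c d (hU := hU) hy m
  rwa [coeffs_eq c d hy hq]

lemma coeffs_res {W W' : Opens Y} (g : W' ⟶ W) (hy : f x ∈ W') (m : (pre M).obj (op W)) :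
    coeffs c d hU W' (res (pre M) g.op m) = coeffs c d hU W m :=
  (coeffs_eq c d (leOfHom g hy) (Rep.res_right c d (rep_coeffs c d hy _))).symm

lemma coeffs_add {W : Opens Y} (hy : f x ∈ W) (m m' : (pre M).obj (op W)) :
    coeffs c d hU W (m + m') = coeffs c d hU W m + coeffs c d hU W m' := by
  obtain ⟨Y₁, hW₁, hY₁, hy₁, e₁, he₁, hq₁⟩ := rep_coeffs c d (hU := hU) hy m
  obtain ⟨Y₂, hW₂, hY₂, hy₂, e₂, he₂, hq₂⟩ := rep_coeffs c d (hU := hU) hy m'
  refine coeffs_eq c d hy ⟨Y₁ ⊓ Y₂, inf_le_left.trans hW₁, inf_le_left.trans hY₁, ⟨hy₁, hy₂⟩,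
    fun i => rres (O := O_Y) (homOfLE inf_le_left).op (e₁ i) + rres (O := O_Y) (homOfLE inf_le_right).op (e₂ i),
    ?_, ?_⟩
  · simp only [add_smul, Finset.sum_add_distrib]
    rw [res_add, ← rep_restrict d hW₁ hY₁ he₁ inf_le_left]
    exact congrArg₂ (· + ·) rfl ((congrArg (fun z => res (pre M) z m') (Subsingleton.elim _ _)).trans
      (rep_restrict d hW₂ hY₂ he₂ inf_le_right))
  · rw [hq₁, hq₂, ← Submodule.Quotient.mk_add]
    refine congrArg Submodule.Quotient.mk (funext fun i => ?_)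
    simp only [Pi.add_apply, map_add, germ_rres]

lemma coeffs_smul {W : Opens Y} (hy : f x ∈ W) (s : O_Y.presheaf.obj (op W)) (m : (pre M).obj (op W)) :
    coeffs c d hU W (s • m) = stalkα c x (O_Y.presheaf.germ W (f x) hy s) • coeffs c d hU W m := by
  obtain ⟨Y₁, hW₁, hY₁, hy₁, e₁, he₁, hq₁⟩ := rep_coeffs c d (hU := hU) hy m
  refine coeffs_eq c d hy ⟨Y₁, hW₁, hY₁, hy₁, fun i => rres (O := O_Y) (homOfLE hW₁).op s * e₁ i, ?_, ?_⟩
  · refine (res_smul (pre M) _ s m).trans ?_
    rw [he₁, Finset.smul_sum]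
    exact Finset.sum_congr rfl fun i _ => smul_smul _ _ _
  · rw [hq₁, ← Submodule.Quotient.mk_smul]
    refine congrArg Submodule.Quotient.mk (funext fun i => ?_)
    simp only [Pi.smul_apply, smul_eq_mul, map_mul, germ_rres]

lemma coeffs_gen [DecidableEq d.ι] (i : d.ι) :
    coeffs c d hU U (d.a i) = Submodule.Quotient.mk (Pi.single i 1) := by
  refine coeffs_eq c d hU ⟨U, le_rfl, le_rfl, hU, Pi.single i 1, ?_, ?_⟩
  · rw [Finset.sum_eq_single i]
    · rw [Pi.single_eq_same, one_smul]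
    · intro j _ hj; rw [Pi.single_eq_of_ne hj, zero_smul]
    · exact fun h => absurd (Finset.mem_univ i) h
  · refine congrArg Submodule.Quotient.mk (funext fun j => ?_)
    by_cases hj : j = i
    · subst hj; simp
    · simp [Pi.single_eq_of_ne hj]

lemma lincomb_rels {W : Opens Y} {V : Opens X} (g : V ⟶ (Opens.map f).obj W) (hx : x ∈ V)
    {z : Comb (O_C := O_X) (pre M) W V} (hz : z ∈ rels (ringedMap c) (pre M) g) :
    letI := Module.compHom (RelQuo c d x hU) (O_X.presheaf.germ V x hx).hom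
    Finsupp.linearCombination (O_X.presheaf.obj (op V)) (coeffs c d hU W) z = 0 := by
  letI := Module.compHom (RelQuo c d x hU) (O_X.presheaf.germ V x hx).hom
  induction hz using Submodule.span_induction with
  | zero => exact map_zero _
  | add a b _ _ ha hb => rw [map_add, ha, hb, add_zero]
  | smul r a _ ha => rw [map_smul, ha, smul_zero]
  | mem a ha =>
    obtain ⟨κ, hκ, rfl⟩ := ha
    rw [Finsupp.linearCombination_apply,
      Finsupp.sum_mapRange_index (h := fun q r => r • coeffs c d hU W q) (fun q => zero_smul _ _)]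
    have h3 : ∀ q (r : O_Y.presheaf.obj (op W)),
        coeffs c d hU W (r • q) = sig (ringedMap c) g r • coeffs c d hU W q := fun q r => by
      exact (coeffs_smul c d (leOfHom g hx) r q).trans
        (congrArg (· • coeffs c d hU W q) (germ_sig c g hx r).symm)
    simp only [← h3]
    let Φ : (pre M).obj (op W) →+ RelQuo c d x hU :=
      AddMonoidHom.mk' (coeffs c d hU W) (coeffs_add c d (leOfHom g hx))
    refine (map_finsuppSum Φ κ fun q r => r • q).symm.trans ?_
    rw [show (κ.sum fun q r => r • q) = 0 by simpa [Finsupp.linearCombination_apply] using hκ]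
    exact map_zero Φ

lemma lincomb_vanAt {V : Opens X} (hx : x ∈ V) {ξ : Sums (ringedMap c) (pre M) V}
    (hξ : VanAt (ringedMap c) (pre M) ξ) :
    letI := Module.compHom (RelQuo c d x hU) (O_X.presheaf.germ V x hx).hom
    Finsupp.linearCombination (O_X.presheaf.obj (op V)) (fun t => coeffs c d hU t.X t.m) ξ = 0 := by
  letI := Module.compHom (RelQuo c d x hU) (O_X.presheaf.germ V x hx).hom
  obtain ⟨W, g, n, t, b, h, ht, hsum, hmem⟩ := hξ
  refine Eq.trans ?_ (lincomb_rels c d g hx hmem)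
  rw [hsum, map_sum, map_sum]
  refine Finset.sum_congr rfl fun j _ => ?_
  rw [Finsupp.linearCombination_single, Finsupp.linearCombination_single]
  exact congrArg (b j • ·) (coeffs_res c d (h j) (leOfHom g hx) (t j).m).symm

end Rel

lemma relAt_pull : RelAt (pre ((ringedMap c).pull.obj M)) ((Opens.map f).obj U)
    (fun i => pullSect c (d.a i)) fun t i => shp (ringedMap c) U (d.r t i) := by
  classical
  intro W g e he
  let S : Sieve W :=
    { arrows := fun V v => ∃ p : d.κ → O_X.presheaf.obj (op V), ∀ i,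
        rres (O := O_X) v.op (e i) = ∑ t, p t * rres (v ≫ g).op (shp (ringedMap c) U (d.r t i))
      downward_closed := by
        rintro V V' v ⟨p, hp⟩ w
        refine ⟨fun t => rres w.op (p t), fun i => ?_⟩
        rw [op_comp, ← rres_rres, hp i, map_sum]
        refine Finset.sum_congr rfl fun t _ => ?_
        rw [map_mul, rres_rres, ← op_comp, Category.assoc] }
  refine ⟨S, fun x hx => ?_, fun V v hv => hv⟩
  have hU : f x ∈ U := leOfHom g hx
  let ξ : Sums (ringedMap c) (pre M) W := ∑ i, Finsupp.single ⟨U, g, d.a i⟩ (e i)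
  have h0 : (cmpPull (ringedMap c) M).app (op W) (cls (ringedMap c) (pre M) ξ) = 0 := by
    rw [cmpPull_cls, map_sum]
    refine Eq.trans (Finset.sum_congr rfl fun i _ => ?_) he
    rw [Finsupp.linearCombination_single]
    rfl
  obtain ⟨T, hT, hT'⟩ := locally_eq (isLocalIso_cmpPull (ringedMap c) M) (op W) _ 0
    (h0.trans (map_zero _).symm)
  obtain ⟨W₁, w₁, hw₁, hx₁⟩ := hT x hx
  have h1 := (hT' w₁ hw₁).trans (SiteMod.res_zero _ _)
  rw [res_cls, cls_eq_zero] at h1
  obtain ⟨S', hS', hvan⟩ := h1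
  obtain ⟨W₂, w₂, hw₂, hx₂⟩ := hS' x hx₁
  have h2 := lincomb_vanAt c d (hU := hU) hx₂ (hvan w₂ hw₂)
  rw [sumsRes_sumsRes, map_sum, map_sum] at h2
  let v := w₂ ≫ w₁
  have h3 : (fun i => O_X.presheaf.germ W x hx (e i)) ∈ relGerms c d x hU := by
    rw [← Submodule.Quotient.mk_eq_zero, ← h2]
    rw [show (fun i => O_X.presheaf.germ W x hx (e i)) =
      ∑ i, O_X.presheaf.germ W x hx (e i) • (Pi.single i 1 : d.ι → _) from
        pi_eq_sum_univ' _]
    rw [← Submodule.mkQ_apply, map_sum]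
    refine Finset.sum_congr rfl fun i _ => ?_
    rw [map_smul, sumsRes_single, Finsupp.linearCombination_single, Submodule.mkQ_apply, ← coeffs_gen]
    exact congrArg (· • coeffs c d hU U (d.a i))
      (TopCat.Presheaf.germ_res_apply O_X.presheaf v x hx₂ (e i)).symm
  obtain ⟨s, hs⟩ := (Submodule.mem_span_range_iff_exists_fun _).1 h3
  obtain ⟨V₁, hV₁, hxV₁, p, hp⟩ := exists_lift_germs O_X.presheaf hx s
  let v₁ : V₁ ⟶ W := homOfLE hV₁
  obtain ⟨V, hV, hxV, heq⟩ := exists_res_eq_of_germs O_X.presheaf hxV₁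
    (fun i : d.ι => rres (O := O_X) v₁.op (e i))
    (fun i : d.ι => ∑ t, p t * rres (O := O_X) (v₁ ≫ g).op (shp (ringedMap c) U (d.r t i))) fun i => by
      refine (TopCat.Presheaf.germ_res_apply O_X.presheaf v₁ x hxV₁ (e i)).trans ((congrFun hs i).symm.trans ?_)
      rw [Finset.sum_apply, map_sum]
      refine Finset.sum_congr rfl fun t _ => ?_
      rw [map_mul, hp t]
      exact congrArg (s t * ·) (germ_sig c (v₁ ≫ g) hxV₁ (d.r t i)).symm
  refine ⟨V, homOfLE hV ≫ v₁, ⟨fun t => rres (O := O_X) (homOfLE hV).op (p t), fun i => ?_⟩, hxV⟩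
  rw [op_comp, ← rres_rres]
  refine (heq i).trans ?_
  refine (map_sum (rres (O := O_X) (homOfLE hV).op) _ _).trans (Finset.sum_congr rfl fun t _ => ?_)
  rw [map_mul, rres_rres, ← op_comp, Category.assoc]

/-- The inverse image of a presentation. -/
noncomputable def pullPres : LocPres (pre ((ringedMap c).pull.obj M)) ((Opens.map f).obj U) where
  ι := d.ι
  κ := d.κ
  a i := pullSect c (d.a i)
  r t i := shp (ringedMap c) U (d.r t i)
  rel t := by
    rw [← pullSect_lincomb, d.rel t]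
    exact (congrArg (ofPush (ringedMap c) _) (map_zero _)).trans rfl
  gen := genAt_pull c d
  kerr := relAt_pull c d

end Groth.Agent.FCompl13
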