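import Groth.Agent.FCompl13.ModPres
import Groth.Agent.FCompl13.PullPres
import Groth.Agent.Mod48.PullLocal
import Mathlib.CategoryTheory.Adjunction.Unique

/-!
A coherent module on a locally Noetherian formal scheme is the module attached to the system of its
inverse images to the levels.
-/

set_option autoImplicit false
set_option backward.isDefEq.respectTransparency false
set_option linter.style.haveILetI false

noncomputable section

universe u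

open CategoryTheory CategoryTheory.Limits AlgebraicGeometry TopologicalSpace Opposite

namespace Groth.Agent.FCompl13

open _root_.FSch
open SiteMod (ap)

variable {𝔛 : Sys.{u}} (h : 𝔛.IsFormal) (𝔉 : ModF 𝔛 h)

/-- Direct image along two levels is direct image along one. -/
def pushCompIso (k : ℕ) :
    Scheme.Modules.pushforward (𝔛.ι k) ⋙ (levelMor 𝔛 h (k + 1)).push ≅ (levelMor 𝔛 h k).push :=
  NatIso.ofComponents (fun G => ⟨(pushCompare 𝔛 h k).app G, (pushCompareInv 𝔛 h k).app G,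
      pushCompare_pushCompareInv 𝔛 h k G, pushCompareInv_pushCompare 𝔛 h k G⟩)
    fun g => (pushCompare 𝔛 h k).naturality g

/-- The composite adjunction. -/
def adjComp (k : ℕ) :
    (levelMor 𝔛 h (k + 1)).pull ⋙ Scheme.Modules.pullback (𝔛.ι k) ⊣ (levelMor 𝔛 h k).push :=
  ((levelMor 𝔛 h (k + 1)).adj.comp (Scheme.Modules.pullbackPushforwardAdjunction (𝔛.ι k))).ofNatIsoRight
    (pushCompIso h k)

/-- The system of inverse images. -/
def sysOf : ModSys 𝔛 where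
  F k := (levelMor 𝔛 h k).pull.obj 𝔉
  e k := (Adjunction.leftAdjointUniq (adjComp h k) (levelMor 𝔛 h k).adj).app 𝔉

theorem unit_toPush (k : ℕ) :
    (levelMor 𝔛 h (k + 1)).adj.unit.app 𝔉 ≫
      ((levelMor 𝔛 h (k + 1)).push.map ((sysOf h 𝔉).toPush k) ≫
        (pushCompare 𝔛 h k).app ((sysOf h 𝔉).F k)) = (levelMor 𝔛 h k).adj.unit.app 𝔉 := by
  refine Eq.trans ?_ (Adjunction.homEquiv_leftAdjointUniq_hom_app (adjComp h k) (levelMor 𝔛 h k).adj 𝔉)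
  rw [adjComp, Adjunction.homEquiv_ofNatIsoRight_apply, Adjunction.comp_homEquiv]
  exact (Category.assoc _ _ _).symm.trans
    (congrArg (· ≫ (pushCompare 𝔛 h k).app ((sysOf h 𝔉).F k))
      (Adjunction.homEquiv_unit (levelMor 𝔛 h (k + 1)).adj 𝔉 _ ((sysOf h 𝔉).toPush k)).symm)

/-- The comparison with the attached module. -/
def toReal : 𝔉 ⟶ (sysOf h 𝔉).realMod h :=
  limit.lift (levelSysOf 𝔛 h (sysOf h 𝔉).F (sysOf h 𝔉).toPush)
    ⟨𝔉, NatTrans.ofOpSequence (fun k => (levelMor 𝔛 h k).adj.unit.app 𝔉) fun k => by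
      rw [levelSysOf_map_succ]
      exact (Category.id_comp _).trans (unit_toPush h 𝔉 k).symm⟩

theorem toReal_realProj (k : ℕ) :
    toReal h 𝔉 ≫ realProj 𝔛 h (sysOf h 𝔉).F (sysOf h 𝔉).toPush k = (levelMor 𝔛 h k).adj.unit.app 𝔉 :=
  limit.lift_π _ (op k)

/-- The comparison on sections. -/
abbrev toRealSec {U : (𝔛.X 0).Opens} (m : (Mod48.pre 𝔉).obj (op U)) : MSec (sysOf h 𝔉) h U :=
  ap (toReal h 𝔉) m

theorem mproj_toReal {U : (𝔛.X 0).Opens} (k : ℕ) (m : (Mod48.pre 𝔉).obj (op U)) :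
    mproj h (sysOf h 𝔉).F (sysOf h 𝔉).toPush U k (toRealSec h 𝔉 m) =
      pullSect (𝔛.OshProj h k) m :=
  congrArg (fun φ : 𝔉 ⟶ (levelMor 𝔛 h k).push.obj ((levelMor 𝔛 h k).pull.obj 𝔉) => ap φ m)
    (toReal_realProj h 𝔉 k)

theorem isCoh_sysOf [𝔉.IsFinitePresentation] : (sysOf h 𝔉).IsCoh := fun k => by
  obtain ⟨q, hq⟩ := SheafOfModules.IsFinitePresentation.exists_quasicoherentData 𝔉
  have : SheafOfModules.IsFinitePresentation (R := ModSite.ringSh (𝔛.X k).sheaf)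
      ((levelMor 𝔛 h k).pull.obj 𝔉) :=
    { exists_quasicoherentData := ⟨Mod48.pullQC _ 𝔉 q, Mod48.isFinitePresentation_pullQC _ 𝔉 q⟩ }
  exact ⟨inferInstanceAs (SheafOfModules.IsQuasicoherent (R := ModSite.ringSh (𝔛.X k).sheaf)
      ((levelMor 𝔛 h k).pull.obj 𝔉)),
    inferInstanceAs (SheafOfModules.IsFiniteType (R := ModSite.ringSh (𝔛.X k).sheaf)
      ((levelMor 𝔛 h k).pull.obj 𝔉))⟩

variable {h} (h𝔛 : 𝔛.IsLocNoethFormal) (𝔊 : ModF 𝔛 h𝔛.1) [𝔊.IsFinitePresentation]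
  {U : (𝔛.X 0).Opens} (hU : IsAffineOpen U) (d : SiteMod.LocPres (Mod48.pre 𝔊) U)

include hU in
theorem span_toReal_eq_top :
    Submodule.span (FBlow13.Sec 𝔛 h𝔛.1 U)
      (Set.range fun i => toRealSec h𝔛.1 𝔊 (d.a i)) = ⊤ := by
  have h𝔐 := isCoh_sysOf h𝔛.1 𝔊
  obtain ⟨-, hC, hp⟩ := secRing h𝔛 hU
  obtain ⟨hfin, -, hM⟩ := modSec _ h𝔛 h𝔐 hU
  have := hC
  have := hfin
  have := (h𝔐 0).1
  refine eq_top_of_sup_smul_eq_top (I := secIdeal 𝔛 h𝔛.1 U) _ (eq_top_iff.2 fun x _ => ?_)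
  let g : d.ι → Γ((sysOf h𝔛.1 𝔊).F 0, 𝔛.lvU h𝔛.1 0 U) := fun i => pullSect (𝔛.OshProj h𝔛.1 0) (d.a i)
  have hz : mproj h𝔛.1 _ _ U 0 x ∈ Submodule.span Γ(𝔛.X 0, 𝔛.lvU h𝔛.1 0 U) (Set.range g) := by
    refine mem_span_of_near _ (FBlow13.isAffineOpen_lvU (h := h𝔛.1) hU 0) g _ fun z hz => ?_
    obtain ⟨S, hS, hc⟩ := (pullPres (𝔛.OshProj h𝔛.1 0) d).gen _ (𝟙 _) (mproj h𝔛.1 _ _ U 0 x)
    obtain ⟨W, v, hv, hzW⟩ := hS z hz
    obtain ⟨e, he⟩ := hc v hv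
    refine ⟨W, leOfHom v, hzW, (Submodule.mem_span_range_iff_exists_fun _).2 ⟨e, he.symm⟩⟩
  obtain ⟨e, he⟩ := (Submodule.mem_span_range_iff_exists_fun _).1 hz
  choose ε hε using fun i => (hp 0).1 (e i)
  have h0 : mproj h𝔛.1 _ _ U 0 (x - ∑ i, ε i • toRealSec h𝔛.1 𝔊 (d.a i)) = 0 := by
    rw [map_sub, map_sum, sub_eq_zero, ← he]
    refine Finset.sum_congr rfl fun i _ => ?_
    rw [mproj_smul, hε, mproj_toReal]
  rw [(hM 0).2, pow_one] at h0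
  exact Submodule.mem_sup.2 ⟨∑ i, ε i • toRealSec h𝔛.1 𝔊 (d.a i),
    Submodule.sum_mem _ fun i _ => Submodule.smul_mem _ _ (Submodule.subset_span ⟨i, rfl⟩),
    _, h0, add_sub_cancel _ _⟩

include hU in
theorem rel_toReal (c : d.ι → FBlow13.Sec 𝔛 h𝔛.1 U)
    (hc : ∑ i, c i • toRealSec h𝔛.1 𝔊 (d.a i) = 0) :
    c ∈ Submodule.span (FBlow13.Sec 𝔛 h𝔛.1 U) (Set.range fun t i => d.r t i) := by
  classical
  have h𝔐 := isCoh_sysOf h𝔛.1 𝔊
  obtain ⟨hN, hC, hp⟩ := secRing h𝔛 hU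
  have := hN
  have := hC
  refine mem_of_forall_mem_sup (I := secIdeal 𝔛 h𝔛.1 U) _ _ fun n => ?_
  let rk : d.κ → d.ι → Γ(𝔛.X n, 𝔛.lvU h𝔛.1 n U) := fun t i => FBlow13.proj 𝔛 h𝔛.1 U n (d.r t i)
  let ck : d.ι → Γ(𝔛.X n, 𝔛.lvU h𝔛.1 n U) := fun i => FBlow13.proj 𝔛 h𝔛.1 U n (c i)
  have hck : ck ∈ Submodule.span Γ(𝔛.X n, 𝔛.lvU h𝔛.1 n U) (Set.range rk) := by
    refine mem_span_vec_of_near (FBlow13.isAffineOpen_lvU (h := h𝔛.1) hU n) rk ck fun z hz => ?_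
    obtain ⟨S, hS, hd⟩ := (pullPres (𝔛.OshProj h𝔛.1 n) d).kerr _ (𝟙 _) ck (by
      refine Eq.trans (Finset.sum_congr rfl fun i _ => ?_)
        ((map_sum (mproj h𝔛.1 _ _ U n) _ _).symm.trans ((congrArg _ hc).trans (map_zero _)))
      rw [mproj_smul, mproj_toReal]
      exact congrArg (ck i • ·) (congr($((Mod48.pre _).map_id (op (𝔛.lvU h𝔛.1 n U)))
        (pullSect (𝔛.OshProj h𝔛.1 n) (d.a i)))))
    obtain ⟨W, v, hv, hzW⟩ := hS z hz
    obtain ⟨e, he⟩ := hd v hv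
    refine ⟨W, leOfHom v, hzW, (Submodule.mem_span_range_iff_exists_fun _).2 ⟨e, funext fun i => ?_⟩⟩
    rw [Finset.sum_apply]
    exact (he i).symm
  obtain ⟨e, he⟩ := (Submodule.mem_span_range_iff_exists_fun _).1 hck
  choose ε hε using fun t => (hp n).1 (e t)
  refine Submodule.mem_sup.2 ⟨∑ t, ε t • (fun i => d.r t i),
    Submodule.sum_mem _ fun t _ => Submodule.smul_mem _ _ (Submodule.subset_span ⟨t, rfl⟩),
    c - ∑ t, ε t • (fun i => d.r t i), ?_, add_sub_cancel _ _⟩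
  refine Submodule.smul_mono (Ideal.pow_le_pow_right n.le_succ) le_rfl (mem_pow_smul_pi _ _ fun i => ?_)
  rw [← (hp n).2, RingHom.mem_ker]
  have hi := congrFun he i
  simp only [Finset.sum_apply, Pi.smul_apply, smul_eq_mul, rk, ck] at hi
  simp only [Pi.sub_apply, Finset.sum_apply, Pi.smul_apply, smul_eq_mul, map_sub, map_sum, map_mul, hε]
  exact sub_eq_zero.2 hi.symm

end Groth.Agent.FCompl13
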