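import Groth.Agent.FCompl13.ComplSec
import Groth.Agent.SiteMod.LocSurj

/-!
Morphisms of completed modules over an affine scheme are determined by global sections.
-/

set_option autoImplicit false
set_option backward.isDefEq.respectTransparency false

noncomputable section

universe u

open CategoryTheory CategoryTheory.Limits AlgebraicGeometry TopologicalSpace Opposite
open Groth.Agent.QC70

namespace Groth.Agent.FCompl13

open _root_.FSch
open SiteMod (ap)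

variable {𝔛 : Sys.{u}} (h : 𝔛.IsFormal)

include h in
theorem surjective_gInv (n : ℕ) (z : 𝔛.X n) : ∃ x : 𝔛.X 0, (𝔛.toX n).base x = z :=
  𝔛.toX_surjective h n z

/-- Sections of an attached module agree if they agree near every point. -/
theorem msec_ext_near (𝔐 : ModSys 𝔛) {W : (𝔛.X 0).Opens} (s t : MSec 𝔐 h W)
    (e : ∀ x ∈ W, ∃ (W' : (𝔛.X 0).Opens) (i : W' ≤ W), x ∈ W' ∧
      ∀ n, mproj h 𝔐.F 𝔐.toPush W' n (Mod48.res (Mod48.pre (realLim 𝔛 h 𝔐.F 𝔐.toPush)) (homOfLE i).op s) =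
        mproj h 𝔐.F 𝔐.toPush W' n (Mod48.res (Mod48.pre (realLim 𝔛 h 𝔐.F 𝔐.toPush)) (homOfLE i).op t)) : s = t := by
  refine msec_ext fun n => section_ext _ _ _ fun z hz => ?_
  obtain ⟨x, rfl⟩ := surjective_gInv h n z
  have hx : x ∈ W := (FBlow13.toX_preimage_lvU (h := h) n W).le hz
  obtain ⟨W', i, hxW', he⟩ := e x hx
  refine ⟨𝔛.lvU h n W', FBlow.lvU_mono 𝔛 h n i, (FBlow13.toX_preimage_lvU (h := h) n W').ge hxW', ?_⟩
  have h1 := he n
  rw [mproj_res, mproj_res] at h1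
  exact h1

variable {Y : Scheme.{u}} (p : ∀ n, 𝔛.X n ⟶ Y) (hp : ∀ n, 𝔛.ι n ≫ p (n + 1) = p n)

theorem exists_basicOpen_le [IsClosedImmersion (p 0)] [IsAffine Y] {W : (𝔛.X 0).Opens} {x : 𝔛.X 0} (hx : x ∈ W) :
    ∃ f : Γ(Y, ⊤), x ∈ p 0 ⁻¹ᵁ Y.basicOpen f ∧ p 0 ⁻¹ᵁ Y.basicOpen f ≤ W := by
  obtain ⟨O, hO, hOW⟩ := (p 0).isClosedEmbedding.isInducing.isOpen_iff.1 W.2
  have hxO : (p 0).base x ∈ (⟨O, hO⟩ : Y.Opens) := show x ∈ (p 0).base ⁻¹' O from hOW.ge hx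
  obtain ⟨f, hf, hfx⟩ := (isAffineOpen_top Y).exists_basicOpen_le (⟨(p 0).base x, hxO⟩ : (⟨O, hO⟩ : Y.Opens)) trivial
  exact ⟨f, hfx, fun z hz => hOW.le (hf hz)⟩

variable (F : Y.Modules)

/-- A section of `F` as a section of the completion. -/
def toSec {V : Y.Opens} (m : Γ(F, V)) : MSec (schSys 𝔛 p hp F) h (p 0 ⁻¹ᵁ V) :=
  (exists_msec (h := h) (p 0 ⁻¹ᵁ V) (fun n => lv h p hp F n m) (fun n => mtrans_lv h p hp F n m)).choose

theorem mproj_toSec {V : Y.Opens} (m : Γ(F, V)) (n : ℕ) :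
    mproj h (schSys 𝔛 p hp F).F (schSys 𝔛 p hp F).toPush (p 0 ⁻¹ᵁ V) n (toSec h p hp F m) = lv h p hp F n m :=
  (exists_msec (h := h) (p 0 ⁻¹ᵁ V) (fun n => lv h p hp F n m) (fun n => mtrans_lv h p hp F n m)).choose_spec n

theorem toSec_add {V : Y.Opens} (m m' : Γ(F, V)) :
    toSec h p hp F (m + m') = toSec h p hp F m + toSec h p hp F m' :=
  msec_ext fun n => by rw [map_add, mproj_toSec, mproj_toSec, mproj_toSec, lv_add]

theorem toSec_smul {V : Y.Opens} (b : Γ(Y, V)) (m : Γ(F, V)) :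
    toSec h p hp F (b • m) = sg h p hp V b • toSec h p hp F m :=
  msec_ext fun n => by rw [mproj_smul, mproj_toSec, mproj_toSec, lv_smul]

theorem toSec_res {V V' : Y.Opens} (hV : V' ≤ V) (m : Γ(F, V)) :
    Mod48.res (Mod48.pre (realLim 𝔛 h (schSys 𝔛 p hp F).F (schSys 𝔛 p hp F).toPush))
      (homOfLE (Scheme.Hom.preimage_mono (p 0) hV)).op (toSec h p hp F m) = toSec h p hp F (res F hV m) :=
  msec_ext fun n => by rw [mproj_res, mproj_toSec, mproj_toSec, lv_res]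

variable [∀ n, IsClosedImmersion (p n)] [F.IsQuasicoherent] (I : Y.IdealSheafData) (hker : ∀ n, (p n).ker = I ^ (n + 1))

include hker in
/-- A map out of a completed module which kills the images of sections kills everything. -/
theorem eq_zero_of_toSec [IsAffine Y] (hfg : ∀ V : Y.affineOpens, (I.ideal V).FG) {𝔑 : ModSys 𝔛}
    (θ : (schSys 𝔛 p hp F).realMod h ⟶ 𝔑.realMod h)
    (hθ : ∀ m : Γ(F, ⊤), ap θ (toSec h p hp F m) = 0) (W : (𝔛.X 0).Opens)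
    (s : MSec (schSys 𝔛 p hp F) h W) : ap θ s = 0 := by
  refine msec_ext_near h 𝔑 _ _ fun x hx => ?_
  obtain ⟨f, hxf, hfW⟩ := exists_basicOpen_le p (W := W) hx
  refine ⟨_, hfW, hxf, fun n => ?_⟩
  have hD : IsAffineOpen (Y.basicOpen f) := (isAffineOpen_top Y).basicOpen f
  let D := Y.basicOpen f
  set s' := Mod48.res (Mod48.pre (realLim 𝔛 h (schSys 𝔛 p hp F).F (schSys 𝔛 p hp F).toPush)) (homOfLE hfW).op s
    with hs'
  have hzero : Mod48.res (Mod48.pre (realLim 𝔛 h 𝔑.F 𝔑.toPush)) (homOfLE hfW).op (0 : MSec 𝔑 h W) = 0 :=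
    map_zero ((Mod48.pre (realLim 𝔛 h 𝔑.F 𝔑.toPush)).map (homOfLE hfW).op).hom
  refine Eq.trans ?_ ((congrArg (mproj h 𝔑.F 𝔑.toPush _ n) hzero).trans (map_zero _)).symm
  refine (congrArg (mproj h 𝔑.F 𝔑.toPush _ n) (SiteMod.res_ap θ (homOfLE hfW) s)).trans ?_
  change mproj h 𝔑.F 𝔑.toPush _ n (ap θ s') = 0
  obtain ⟨z, hz⟩ := lv_surjective h p hp F hD n
    (mproj h (schSys 𝔛 p hp F).F (schSys 𝔛 p hp F).toPush (p 0 ⁻¹ᵁ D) n s')
  obtain ⟨k, m, hkm⟩ := (isLocAt_of_isQuasicoherent F (isAffineOpen_top Y)).exists_of f z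
  obtain ⟨u, hu⟩ : IsUnit (resO Y (Y.basicOpen_le f) f ^ k) :=
    ((RingedSpace.isUnit_res_basicOpen Y.toSheafedSpace f).pow k)
  have hm : res F (Y.basicOpen_le f) m = (u : Γ(Y, D)) • z := by rw [hu]; exact hkm
  have hzero' : ap θ (toSec h p hp F z) = 0 := by
    have h1 : z = ((u⁻¹ : Γ(Y, D)ˣ) : Γ(Y, D)) • res F (Y.basicOpen_le f) m := by
      rw [hm, smul_smul, Units.inv_mul, one_smul]
    rw [h1, toSec_smul, SiteMod.ap_smul, ← toSec_res h p hp F (Y.basicOpen_le f) m]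
    refine (congrArg (sg h p hp (Y.basicOpen f) _ • ·) ?_).trans (smul_zero _)
    refine ((SiteMod.res_ap θ (homOfLE (Scheme.Hom.preimage_mono (p 0) (Y.basicOpen_le f))) _).symm.trans
      ((congrArg _ (hθ m)).trans ?_))
    exact map_zero ((Mod48.pre (realLim 𝔛 h 𝔑.F 𝔑.toPush)).map _).hom
  let L : MSec (schSys 𝔛 p hp F) h (p 0 ⁻¹ᵁ D) →+ Γ(𝔑.F n, 𝔛.lvU h n (p 0 ⁻¹ᵁ D)) :=
    (mproj h 𝔑.F 𝔑.toPush _ n).comp (((Mod48.fgt.map θ).app (op (p 0 ⁻¹ᵁ D))).hom.toAddMonoidHom)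
  let S : AddSubgroup (MSec (schSys 𝔛 p hp F) h (p 0 ⁻¹ᵁ D)) := L.ker
  have hmem : s' - toSec h p hp F z ∈ S := by
    refine mproj_eq_zero_mem h p hp F hD I hker (hfg ⟨D, hD⟩) n (fun b hb y => ?_) ?_
    · change mproj h 𝔑.F 𝔑.toPush _ n (ap θ (sg h p hp D b • y)) = 0
      rw [SiteMod.ap_smul, mproj_smul, proj_sg,
        (FBlow13.appLE_of_eq (p n) (lvU_p 𝔛 h p hp n D).symm (lvU_p 𝔛 h p hp n D).ge).2
        |> fun e => RingHom.mem_ker.1 (e.ge (show b ∈ RingHom.ker ((p n).app D).hom by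
          rw [← Scheme.Hom.ker_apply (p n) ⟨D, hD⟩, hker n, Scheme.IdealSheafData.ideal_pow]; exact hb)), zero_smul]
    · rw [map_sub, mproj_toSec, hz, sub_self]
  have h2 : L (s' - toSec h p hp F z) = 0 := hmem
  rw [map_sub, sub_eq_zero] at h2
  exact h2.trans ((congrArg (mproj h 𝔑.F 𝔑.toPush _ n) hzero').trans (map_zero _))

end Groth.Agent.FCompl13
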