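import Groth.Agent.FCompl13.SchemePull
import Groth.Prelude.Def_FSch6

/-!
Naturality of the comparison between the inverse image and the completion.
-/

set_option autoImplicit false
set_option backward.isDefEq.respectTransparency false

noncomputable section

universe u

open CategoryTheory CategoryTheory.Limits AlgebraicGeometry TopologicalSpace Opposite

namespace Groth.Agent.FCompl13

open _root_.FSch

variable (𝔛 : Sys.{u}) (h : 𝔛.IsFormal) {Y : Scheme.{u}} (p : ∀ n, 𝔛.X n ⟶ Y)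
  (hp : ∀ n, 𝔛.ι n ≫ p (n + 1) = p n)

/-- A map into a direct image of the attached module is determined on levels. -/
theorem hom_ext_schPush {M : Y.Modules} (𝔐 : ModSys 𝔛) {a b : M ⟶ (toSchemeMor 𝔛 h p hp).push.obj (𝔐.realMod h)}
    (e : ∀ k, a ≫ (toSchemeMor 𝔛 h p hp).push.map (realProj 𝔛 h 𝔐.F 𝔐.toPush k) =
      b ≫ (toSchemeMor 𝔛 h p hp).push.map (realProj 𝔛 h 𝔐.F 𝔐.toPush k)) : a = b :=
  haveI : PreservesLimitsOfSize.{0, 0} (toSchemeMor 𝔛 h p hp).push :=
    (toSchemeMor 𝔛 h p hp).adj.rightAdjoint_preservesLimits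
  (isLimitOfPreserves (toSchemeMor 𝔛 h p hp).push
    (limit.isLimit (levelSysOf 𝔛 h 𝔐.F 𝔐.toPush))).hom_ext fun j => e j.unop

variable {M N : Y.Modules} (f : M ⟶ N)

/-- The levelwise inverse images on morphisms. -/
def schSysMap : schSys 𝔛 p hp M ⟶ schSys 𝔛 p hp N :=
  ⟨fun n => (Scheme.Modules.pullback (p n)).map f, fun n =>
    (Scheme.Modules.pullbackComp (𝔛.ι n) (p (n + 1)) ≪≫ Scheme.Modules.pullbackCongr (hp n)).hom.naturality f⟩

theorem schPull_natural_gen
    (a : (toSchemeMor 𝔛 h p hp).pull.obj M ⟶ (schSys 𝔛 p hp M).realMod h)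
    (b : (toSchemeMor 𝔛 h p hp).pull.obj N ⟶ (schSys 𝔛 p hp N).realMod h)
    (ha : ∀ k, (toSchemeMor 𝔛 h p hp).adj.homEquiv _ _ a ≫
      (toSchemeMor 𝔛 h p hp).push.map (realProj 𝔛 h (schSys 𝔛 p hp M).F (schSys 𝔛 p hp M).toPush k) =
      (Scheme.Modules.pullbackPushforwardAdjunction (p k)).unit.app M ≫ (schPushCompare 𝔛 h p hp k).app _)
    (hb : ∀ k, (toSchemeMor 𝔛 h p hp).adj.homEquiv _ _ b ≫
      (toSchemeMor 𝔛 h p hp).push.map (realProj 𝔛 h (schSys 𝔛 p hp N).F (schSys 𝔛 p hp N).toPush k) =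
      (Scheme.Modules.pullbackPushforwardAdjunction (p k)).unit.app N ≫ (schPushCompare 𝔛 h p hp k).app _) :
    (toSchemeMor 𝔛 h p hp).pull.map f ≫ b = a ≫ ModSys.realModMap h (schSysMap 𝔛 p hp f) := by
  let T := toSchemeMor 𝔛 h p hp
  apply (T.adj.homEquiv _ _).injective
  rw [Adjunction.homEquiv_naturality_left, Adjunction.homEquiv_naturality_right]
  refine hom_ext_schPush 𝔛 h p hp _ fun k => ?_
  refine ((Category.assoc _ _ _).trans (congrArg (f ≫ ·) (hb k))).trans ?_
  symm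
  refine (Category.assoc _ _ _).trans ?_
  refine (congrArg (T.adj.homEquiv _ _ a ≫ ·) ((T.push.map_comp _ _).symm.trans
    ((congrArg T.push.map (realLimMap_realProj 𝔛 h (schSysMap 𝔛 p hp f).app _ k)).trans (T.push.map_comp _ _)))).trans ?_
  refine (Category.assoc _ _ _).symm.trans ((congrArg (· ≫ _) (ha k)).trans ?_)
  refine (Category.assoc _ _ _).trans ?_
  refine (congrArg ((Scheme.Modules.pullbackPushforwardAdjunction (p k)).unit.app M ≫ ·)
    ((schPushCompare 𝔛 h p hp k).naturality ((Scheme.Modules.pullback (p k)).map f)).symm).trans ?_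
  refine (Category.assoc _ _ _).symm.trans ((congrArg (· ≫ _)
    ((Scheme.Modules.pullbackPushforwardAdjunction (p k)).unit.naturality f).symm).trans (Category.assoc _ _ _))

theorem schSys_completion (X : Scheme.{u}) (𝓘 : X.IdealSheafData) {F G : X.Modules} (f : F ⟶ G) :
    schSysMap (completionAlong X 𝓘) (completionToX X 𝓘) (completionToX_comm X 𝓘) f = complModMap 𝓘 f :=
  ModSys.Hom.ext rfl

end Groth.Agent.FCompl13
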