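import Groth.Agent.FCompl13.ComplNat
import Groth.Agent.FCompl13.ModStr
import Groth.Agent.QCPull72.Closed
import Mathlib.RingTheory.AdicCompletion.Completeness

/-!
Sections of a completed module over an affine open: the completion of the sections.  No Noetherian
hypothesis.
-/

set_option autoImplicit false
set_option backward.isDefEq.respectTransparency false

noncomputable section

universe u

open CategoryTheory CategoryTheory.Limits AlgebraicGeometry TopologicalSpace Opposite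
open Groth.Agent.QC70

namespace Groth.Agent.FCompl13

open _root_.FSch

variable {𝔛 : Sys.{u}} (h : 𝔛.IsFormal) {Y : Scheme.{u}} (p : ∀ n, 𝔛.X n ⟶ Y)
  (hp : ∀ n, 𝔛.ι n ≫ p (n + 1) = p n) (F : Y.Modules)

/-- The value at a level of a section of `F`. -/
def lv {V : Y.Opens} (n : ℕ) (m : Γ(F, V)) : Γ((schSys 𝔛 p hp F).F n, 𝔛.lvU h n (p 0 ⁻¹ᵁ V)) :=
  pl (p n) F (lvU_p 𝔛 h p hp n V).ge m

/-- A scalar as a section of the structure sheaf of `𝔛`. -/
def sg (V : Y.Opens) : Γ(Y, V) →+* FBlow13.Sec 𝔛 h (p 0 ⁻¹ᵁ V) :=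
  ((schSharp 𝔛 h p hp).hom.app (op V)).hom

theorem proj_sg {V : Y.Opens} (n : ℕ) (b : Γ(Y, V)) :
    FBlow13.proj 𝔛 h (p 0 ⁻¹ᵁ V) n (sg h p hp V b) =
      (p n).appLE V (𝔛.lvU h n (p 0 ⁻¹ᵁ V)) (lvU_p 𝔛 h p hp n V).ge b :=
  congr($(schSharp_proj 𝔛 h p hp n).hom.app (op V) b)

variable {V : Y.Opens}

theorem lv_add (n : ℕ) (m m' : Γ(F, V)) : lv h p hp F n (m + m') = lv h p hp F n m + lv h p hp F n m' :=
  pl_add (f := p n) _ _ _ _

theorem lv_sub (n : ℕ) (m m' : Γ(F, V)) : lv h p hp F n (m - m') = lv h p hp F n m - lv h p hp F n m' :=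
  (AddMonoidHom.mk' (lv h p hp F (V := V) n) (lv_add h p hp F n)).map_sub m m'

theorem lv_smul (n : ℕ) (b : Γ(Y, V)) (m : Γ(F, V)) :
    lv h p hp F n (b • m) = FBlow13.proj 𝔛 h (p 0 ⁻¹ᵁ V) n (sg h p hp V b) • lv h p hp F n m :=
  (pl_smul (f := p n) _ _ _ _).trans (congrArg (· • _) (proj_sg h p hp n b).symm)

theorem mtrans_lv (n : ℕ) (m : Γ(F, V)) :
    mtrans h (schSys 𝔛 p hp F).F (schSys 𝔛 p hp F).toPush (p 0 ⁻¹ᵁ V) n (lv h p hp F (n + 1) m) =
      lv h p hp F n m :=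
  cmpCompat_schSys 𝔛 h p hp F n V m

theorem lv_res (n : ℕ) {V' : Y.Opens} (hV : V' ≤ V) (m : Γ(F, V)) :
    ((schSys 𝔛 p hp F).F n).presheaf.map
        (homOfLE (FBlow.lvU_mono 𝔛 h n (Scheme.Hom.preimage_mono (p 0) hV))).op (lv h p hp F n m) =
      lv h p hp F n (res F hV m) := by
  rw [lv, lv, pl_res]
  exact res_pl (f := p n) F _ _ m

theorem lv_map {G : Y.Modules} (φ : F ⟶ G) (n : ℕ) (m : Γ(F, V)) :
    ((schSysMap 𝔛 p hp φ).app n).app (𝔛.lvU h n (p 0 ⁻¹ᵁ V)) (lv h p hp F n m) =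
      lv h p hp G n (φ.app V m) :=
  pl_naturality (f := p n) φ _ m

variable [∀ n, IsClosedImmersion (p n)] [F.IsQuasicoherent] (hV : IsAffineOpen V)

include hV in
theorem lv_surjective (n : ℕ) : Function.Surjective (lv h p hp F (V := V) n) := fun z => by
  obtain ⟨m, hm⟩ := QCPull72.pullUnit_app_surjective (p n) F hV
    (res ((Scheme.Modules.pullback (p n)).obj F) (lvU_p 𝔛 h p hp n V).le z)
  exact ⟨m, (congrArg (res ((Scheme.Modules.pullback (p n)).obj F) (lvU_p 𝔛 h p hp n V).ge) hm).trans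
    ((res_res _ _ z).trans (res_self z))⟩

variable (I : Y.IdealSheafData) (hker : ∀ n, (p n).ker = I ^ (n + 1))

include hker in
theorem lv_eq_zero_iff (n : ℕ) (m : Γ(F, V)) :
    lv h p hp F n m = 0 ↔ m ∈ I.ideal ⟨V, hV⟩ ^ (n + 1) • (⊤ : Submodule Γ(Y, V) Γ(F, V)) := by
  have hI : (p n).ker.ideal ⟨V, hV⟩ = I.ideal ⟨V, hV⟩ ^ (n + 1) := by
    rw [hker n, Scheme.IdealSheafData.ideal_pow]; rfl
  refine ⟨fun hm => ?_, fun hm => ?_⟩
  · rw [← hI]
    refine QCPull72.pullUnit_app_eq_zero (p n) F (U := ⟨V, hV⟩) ?_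
    refine (res_self _).symm.trans ((res_res (lvU_p 𝔛 h p hp n V).ge (lvU_p 𝔛 h p hp n V).le _).symm.trans ?_)
    exact (congrArg (res _ _) hm).trans (res_zero _)
  · let v : Γ(F, V) →+ Γ((schSys 𝔛 p hp F).F n, 𝔛.lvU h n (p 0 ⁻¹ᵁ V)) :=
      AddMonoidHom.mk' (lv h p hp F n) (lv_add h p hp F n)
    refine Submodule.smul_induction_on (p := fun t => v t = 0) hm (fun a ha y _ => ?_)
      (fun a b ha hb => by rw [map_add, ha, hb, add_zero])
    refine (lv_smul h p hp F n a y).trans ?_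
    rw [proj_sg, (FBlow13.appLE_of_eq (p n) (lvU_p 𝔛 h p hp n V).symm (lvU_p 𝔛 h p hp n V).ge).2
      |> fun e => RingHom.mem_ker.1 (e.ge (show a ∈ RingHom.ker ((p n).app V).hom by
        rw [← Scheme.Hom.ker_apply (p n) ⟨V, hV⟩, hI]; exact ha)), zero_smul]

/-- A truncation as a value at a level. -/
def qlv (n : ℕ) (x : Γ(F, V) ⧸ (I.ideal ⟨V, hV⟩ ^ (n + 1) • ⊤ : Submodule Γ(Y, V) Γ(F, V))) :
    Γ((schSys 𝔛 p hp F).F n, 𝔛.lvU h n (p 0 ⁻¹ᵁ V)) :=
  lv h p hp F n x.out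

include hker in
theorem qlv_mk (n : ℕ) (m : Γ(F, V)) : qlv h p hp F hV I n (Submodule.Quotient.mk m) = lv h p hp F n m := by
  have h0 : Submodule.Quotient.mk
      (Quotient.out (Submodule.Quotient.mk (p := (I.ideal ⟨V, hV⟩ ^ (n + 1) • ⊤ : Submodule Γ(Y, V) Γ(F, V))) m)) =
      Submodule.Quotient.mk (p := (I.ideal ⟨V, hV⟩ ^ (n + 1) • ⊤ : Submodule Γ(Y, V) Γ(F, V))) m :=
    Quotient.out_eq _
  rw [Submodule.Quotient.eq, ← lv_eq_zero_iff h p hp F hV I hker, lv_sub, sub_eq_zero] at h0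
  exact h0

include hker in
theorem qlv_add (n : ℕ) (x y : Γ(F, V) ⧸ (I.ideal ⟨V, hV⟩ ^ (n + 1) • ⊤ : Submodule Γ(Y, V) Γ(F, V))) :
    qlv h p hp F hV I n (x + y) = qlv h p hp F hV I n x + qlv h p hp F hV I n y := by
  obtain ⟨a, rfl⟩ := Submodule.Quotient.mk_surjective _ x
  obtain ⟨b, rfl⟩ := Submodule.Quotient.mk_surjective _ y
  rw [← Submodule.Quotient.mk_add, qlv_mk h p hp F hV I hker, qlv_mk h p hp F hV I hker,
    qlv_mk h p hp F hV I hker, lv_add]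

include hker in
theorem qlv_smul (n : ℕ) (b : Γ(Y, V)) (x : Γ(F, V) ⧸ (I.ideal ⟨V, hV⟩ ^ (n + 1) • ⊤ : Submodule Γ(Y, V) Γ(F, V))) :
    qlv h p hp F hV I n (b • x) = FBlow13.proj 𝔛 h (p 0 ⁻¹ᵁ V) n (sg h p hp V b) • qlv h p hp F hV I n x := by
  obtain ⟨a, rfl⟩ := Submodule.Quotient.mk_surjective _ x
  rw [← Submodule.Quotient.mk_smul, qlv_mk h p hp F hV I hker, qlv_mk h p hp F hV I hker, lv_smul]

include hker in
theorem qlv_eq_zero_iff (n : ℕ) (x : Γ(F, V) ⧸ (I.ideal ⟨V, hV⟩ ^ (n + 1) • ⊤ : Submodule Γ(Y, V) Γ(F, V))) :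
    qlv h p hp F hV I n x = 0 ↔ x = 0 := by
  obtain ⟨a, rfl⟩ := Submodule.Quotient.mk_surjective _ x
  rw [qlv_mk h p hp F hV I hker, lv_eq_zero_iff h p hp F hV I hker, Submodule.Quotient.mk_eq_zero]

include hker in
theorem mtrans_qlv (x : AdicCompletion (I.ideal ⟨V, hV⟩) Γ(F, V)) (n : ℕ) :
    mtrans h (schSys 𝔛 p hp F).F (schSys 𝔛 p hp F).toPush (p 0 ⁻¹ᵁ V) n
        (qlv h p hp F hV I (n + 1) (x.val (n + 2))) =
      qlv h p hp F hV I n (x.val (n + 1)) := by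
  obtain ⟨m, hm⟩ := Submodule.Quotient.mk_surjective _ (x.val (n + 2))
  rw [← hm, qlv_mk h p hp F hV I hker, ← x.2 (show n + 1 ≤ n + 2 by omega), ← hm]
  refine (mtrans_lv h p hp F n m).trans ?_
  exact (qlv_mk h p hp F hV I hker n m).symm

/-- From the completion to sections over the formal scheme. -/
def complMap' (x : AdicCompletion (I.ideal ⟨V, hV⟩) Γ(F, V)) : MSec (schSys 𝔛 p hp F) h (p 0 ⁻¹ᵁ V) :=
  (exists_msec (h := h) (p 0 ⁻¹ᵁ V) (fun n => qlv h p hp F hV I n (x.val (n + 1)))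
    (mtrans_qlv h p hp F hV I hker x)).choose

theorem mproj_complMap' (x : AdicCompletion (I.ideal ⟨V, hV⟩) Γ(F, V)) (n : ℕ) :
    mproj h (schSys 𝔛 p hp F).F (schSys 𝔛 p hp F).toPush (p 0 ⁻¹ᵁ V) n (complMap' h p hp F hV I hker x) =
      qlv h p hp F hV I n (x.val (n + 1)) :=
  (exists_msec (h := h) (p 0 ⁻¹ᵁ V) (fun n => qlv h p hp F hV I n (x.val (n + 1)))
    (mtrans_qlv h p hp F hV I hker x)).choose_spec n

theorem complMap'_add (x y : AdicCompletion (I.ideal ⟨V, hV⟩) Γ(F, V)) :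
    complMap' h p hp F hV I hker (x + y) = complMap' h p hp F hV I hker x + complMap' h p hp F hV I hker y :=
  msec_ext fun n => by
    rw [map_add, mproj_complMap', mproj_complMap', mproj_complMap']
    exact qlv_add h p hp F hV I hker n _ _

theorem complMap'_smul (b : Γ(Y, V)) (x : AdicCompletion (I.ideal ⟨V, hV⟩) Γ(F, V)) :
    complMap' h p hp F hV I hker (b • x) = sg h p hp V b • complMap' h p hp F hV I hker x :=
  msec_ext fun n => by
    rw [mproj_smul, mproj_complMap', mproj_complMap']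
    exact qlv_smul h p hp F hV I hker n b _

theorem complMap'_injective (x : AdicCompletion (I.ideal ⟨V, hV⟩) Γ(F, V))
    (hx : complMap' h p hp F hV I hker x = 0) : x = 0 := by
  refine AdicCompletion.ext fun n => ?_
  cases n with
  | zero =>
    have : Subsingleton (Γ(F, V) ⧸ (I.ideal ⟨V, hV⟩ ^ 0 • ⊤ : Submodule Γ(Y, V) Γ(F, V))) := by
      rw [Submodule.Quotient.subsingleton_iff]; simp
    exact Subsingleton.elim _ _
  | succ n =>
    refine ((qlv_eq_zero_iff h p hp F hV I hker n _).1 ?_).trans rfl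
    rw [← mproj_complMap' h p hp F hV I hker x n, hx, map_zero]

theorem complMap'_surjective : Function.Surjective (complMap' h p hp F hV I hker) := fun s => by
  choose f hf using fun n => lv_surjective h p hp F hV n
    (mproj h (schSys 𝔛 p hp F).F (schSys 𝔛 p hp F).toPush (p 0 ⁻¹ᵁ V) n s)
  let g : ℕ → Γ(F, V) := fun n => f (n - 1)
  have hg : ∀ n, g n ≡ g (n + 1) [SMOD (I.ideal ⟨V, hV⟩ ^ n • ⊤ : Submodule Γ(Y, V) Γ(F, V))] := fun n => by
    cases n with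
    | zero => simp [g]
    | succ n =>
      rw [SModEq.sub_mem, ← lv_eq_zero_iff h p hp F hV I hker, lv_sub, sub_eq_zero]
      change lv h p hp F n (f n) = lv h p hp F n (f (n + 1))
      rw [hf n, ← mtrans_lv h p hp F n (f (n + 1)), hf (n + 1), mproj_succ]
  refine ⟨AdicCompletion.mk _ _ (AdicCompletion.AdicCauchySequence.mk _ _ g hg), msec_ext fun n => ?_⟩
  rw [mproj_complMap']
  exact (qlv_mk h p hp F hV I hker n (g (n + 1))).trans (hf n)

/-- Sections over the formal scheme are the completion. -/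
def complEquiv : AdicCompletion (I.ideal ⟨V, hV⟩) Γ(F, V) ≃+ MSec (schSys 𝔛 p hp F) h (p 0 ⁻¹ᵁ V) :=
  AddEquiv.ofBijective (AddMonoidHom.mk' (complMap' h p hp F hV I hker) (complMap'_add h p hp F hV I hker))
    ⟨(injective_iff_map_eq_zero _).2 (complMap'_injective h p hp F hV I hker),
      complMap'_surjective h p hp F hV I hker⟩

theorem mproj_complEquiv (x : AdicCompletion (I.ideal ⟨V, hV⟩) Γ(F, V)) (n : ℕ) :
    mproj h (schSys 𝔛 p hp F).F (schSys 𝔛 p hp F).toPush (p 0 ⁻¹ᵁ V) n (complEquiv h p hp F hV I hker x) =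
      qlv h p hp F hV I n (x.val (n + 1)) :=
  mproj_complMap' h p hp F hV I hker x n

theorem complEquiv_smul (b : Γ(Y, V)) (x : AdicCompletion (I.ideal ⟨V, hV⟩) Γ(F, V)) :
    complEquiv h p hp F hV I hker (b • x) = sg h p hp V b • complEquiv h p hp F hV I hker x :=
  complMap'_smul h p hp F hV I hker b x

include hker in
/-- The kernel of a projection is a power of the ideal, for a finitely generated ideal. -/
theorem mproj_eq_zero_mem (hfg : (I.ideal ⟨V, hV⟩).FG) (n : ℕ) {S : AddSubgroup (MSec (schSys 𝔛 p hp F) h (p 0 ⁻¹ᵁ V))}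
    (hS : ∀ b ∈ I.ideal ⟨V, hV⟩ ^ (n + 1), ∀ y, sg h p hp V b • y ∈ S)
    {s : MSec (schSys 𝔛 p hp F) h (p 0 ⁻¹ᵁ V)}
    (hs : mproj h (schSys 𝔛 p hp F).F (schSys 𝔛 p hp F).toPush (p 0 ⁻¹ᵁ V) n s = 0) : s ∈ S := by
  let Φ := complEquiv h p hp F hV I hker
  have hΦ := mproj_complEquiv h p hp F hV I hker
  have hsmul := complEquiv_smul h p hp F hV I hker
  obtain ⟨x, rfl⟩ := Φ.surjective s
  obtain ⟨a, ha⟩ := Submodule.Quotient.mk_surjective _ (x.val (n + 1))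
  rw [hΦ, ← ha, qlv_mk h p hp F hV I hker, lv_eq_zero_iff h p hp F hV I hker] at hs
  have hx : x ∈ (I.ideal ⟨V, hV⟩ ^ (n + 1) • ⊤ : Submodule Γ(Y, V) (AdicCompletion (I.ideal ⟨V, hV⟩) Γ(F, V))) := by
    rw [AdicCompletion.pow_smul_top_eq_ker_eval hfg, LinearMap.mem_ker, AdicCompletion.eval_apply, ← ha]
    exact (Submodule.Quotient.mk_eq_zero _).2 hs
  refine Submodule.smul_induction_on (p := fun t => Φ t ∈ S) hx (fun b hb y _ => ?_)
    (fun a b ha hb => by rw [map_add]; exact add_mem ha hb)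
  rw [hsmul]
  exact hS b hb _

end Groth.Agent.FCompl13
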