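import Groth.Agent.FCompl13.PullSec
import Groth.Agent.S12131

/-!
Affine base change of direct images, on sections pulled back.
-/

set_option autoImplicit false
set_option backward.isDefEq.respectTransparency false

noncomputable section

universe u

open CategoryTheory CategoryTheory.Limits AlgebraicGeometry TopologicalSpace Opposite
open Groth.Agent.QC70

namespace Groth.Agent.FCompl13

variable {X S X' S' : Scheme.{u}} (f : X ⟶ S) (g : S' ⟶ S) (g' : X' ⟶ X) (f' : X' ⟶ S')

theorem exists_bc_iso (h : IsPullback g' f' f g) [IsAffineHom f] (F : X.Modules) [F.IsQuasicoherent] :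
    ∃ b : (Scheme.Modules.pullback g).obj ((Scheme.Modules.pushforward f).obj F) ≅
        (Scheme.Modules.pushforward f').obj ((Scheme.Modules.pullback g').obj F),
      ∀ (V : S.Opens) (W : S'.Opens) (hW : W ≤ g ⁻¹ᵁ V) (hle : f' ⁻¹ᵁ W ≤ g' ⁻¹ᵁ (f ⁻¹ᵁ V))
        (m : Γ((Scheme.Modules.pushforward f).obj F, V)),
        b.hom.app W (pl g _ hW m) = pl g' F hle (V := f ⁻¹ᵁ V) m := by
  haveI : Coh.IsQCoh F := ‹_›
  let v : (Scheme.Modules.pushforward f).obj F ⟶
      (Scheme.Modules.pushforward g).obj ((Scheme.Modules.pushforward f').obj ((Scheme.Modules.pullback g').obj F)) :=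
    (Scheme.Modules.pushforward f).map ((Scheme.Modules.pullbackPushforwardAdjunction g').unit.app F) ≫
    (Scheme.Modules.pushforwardComp g' f).hom.app ((Scheme.Modules.pullback g').obj F) ≫
    (Scheme.Modules.pushforwardCongr h.w).hom.app ((Scheme.Modules.pullback g').obj F) ≫
    (Scheme.Modules.pushforwardComp f' g).inv.app ((Scheme.Modules.pullback g').obj F)
  haveI : IsIso (((Scheme.Modules.pullbackPushforwardAdjunction g).homEquiv _ _).symm v) :=
    Groth.Agent.S12131.result f g g' f' h F
  refine ⟨asIso (((Scheme.Modules.pullbackPushforwardAdjunction g).homEquiv _ _).symm v), fun V W hW hle m => ?_⟩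
  set b := ((Scheme.Modules.pullbackPushforwardAdjunction g).homEquiv _ _).symm v with hb
  have hv : v = (Scheme.Modules.pullbackPushforwardAdjunction g).unit.app _ ≫
      (Scheme.Modules.pushforward g).map b := by
    exact ((Equiv.apply_symm_apply _ v).symm.trans (Adjunction.homEquiv_unit ..))
  change b.app W (res _ hW (unitApp g _ V m)) = _
  rw [app_res]
  refine (congrArg (res _ hW) (show b.app (g ⁻¹ᵁ V) (unitApp g _ V m) = v.app V m by rw [hv]; rfl)).trans ?_
  have e := h.w
  refine (congrArg (res ((Scheme.Modules.pushforward f').obj ((Scheme.Modules.pullback g').obj F)) hW)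
    (show v.app V m = res ((Scheme.Modules.pullback g').obj F) (show f' ⁻¹ᵁ (g ⁻¹ᵁ V) ≤ g' ⁻¹ᵁ (f ⁻¹ᵁ V) by
        rw [← Scheme.Hom.comp_preimage, ← Scheme.Hom.comp_preimage, e]) (unitApp g' F (f ⁻¹ᵁ V) m) from rfl)).trans ?_
  exact res_res _ (Scheme.Hom.preimage_mono f' hW) _

end Groth.Agent.FCompl13
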