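import Groth.Agent.FCompl13.FinPush
import Groth.Agent.FCompl13.BcSec

/-!
The base-change map of a cartesian square of formal schemes along a finite morphism is an isomorphism
on modules of coherent systems.
-/

set_option autoImplicit false
set_option maxSynthPendingDepth 6
set_option backward.isDefEq.respectTransparency false

noncomputable section

universe u

open CategoryTheory CategoryTheory.Limits AlgebraicGeometry TopologicalSpace Opposite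
open Groth.Agent.QC70

namespace Groth.Agent.FCompl13

open _root_.FSch
open SiteMod (ap)

section Cmp

variable {𝔛 𝔜 : Sys.{u}} (φ : 𝔛 ⟶ 𝔜) (h𝔛 : 𝔛.IsFormal) (h𝔜 : 𝔜.IsFormal) (𝔐 : ModSys 𝔜)

/-- A comparison with the levels is the comparison into the direct image. -/
theorem homEquiv_eq_pullCmp_proj
    (e : (pullF φ h𝔛 h𝔜).obj (𝔐.realMod h𝔜) ⟶ (ModSys.pullback φ 𝔐).realMod h𝔛)
    (he : ∀ k : ℕ, (homMor φ h𝔛 h𝔜).adj.homEquiv _ _ e ≫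
          (pushF φ h𝔛 h𝔜).map (realProj 𝔛 h𝔛 _ _ k) ≫
          (lvPushSq φ h𝔛 h𝔜 k).hom.app ((ModSys.pullback φ 𝔐).F k) =
        realProj 𝔜 h𝔜 _ _ k ≫
          (levelMor 𝔜 h𝔜 k).push.map
            ((ModSite.RMor.ofScheme ((φ : Hom 𝔛 𝔜).app k)).adj.unit.app (𝔐.F k))) (k : ℕ) :
    (homMor φ h𝔛 h𝔜).adj.homEquiv _ _ e ≫ (pushF φ h𝔛 h𝔜).map (realProj 𝔛 h𝔛 _ _ k) =
      pullCmpApp φ h𝔛 h𝔜 𝔐 k := by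
  rw [← cancel_mono ((lvPushSq φ h𝔛 h𝔜 k).hom.app ((ModSys.pullback φ 𝔐).F k))]
  refine ((Category.assoc _ _ _).trans (he k)).trans ?_
  refine Eq.trans ?_ (Category.assoc _ _ _).symm
  refine congrArg (realProj 𝔜 h𝔜 _ _ k ≫ ·) ?_
  refine Eq.trans ?_ (Category.assoc _ _ _).symm
  exact (Category.comp_id _).symm.trans (congrArg ((levelMor 𝔜 h𝔜 k).push.map
    ((ModSite.RMor.ofScheme ((φ : Hom 𝔛 𝔜).app k)).adj.unit.app (𝔐.F k)) ≫ ·)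
    ((lvPushSq φ h𝔛 h𝔜 k).inv_hom_id_app ((ModSys.pullback φ 𝔐).F k)).symm)

/-- A section pulled back along a morphism of formal schemes. -/
def fSec {M : ModF 𝔜 h𝔜} {U : (𝔜.X 0).Opens} (s : (Mod48.pre M).obj (op U)) :
    (Mod48.pre ((pullF φ h𝔛 h𝔜).obj M)).obj (op ((φ : Hom 𝔛 𝔜).app 0 ⁻¹ᵁ U)) :=
  ap ((homMor φ h𝔛 h𝔜).adj.unit.app M) (W := U) s

theorem ap_homEquivF {M : ModF 𝔜 h𝔜} {N : ModF 𝔛 h𝔛} (β : (pullF φ h𝔛 h𝔜).obj M ⟶ N) {U : (𝔜.X 0).Opens}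
    (s : (Mod48.pre M).obj (op U)) :
    ap ((homMor φ h𝔛 h𝔜).adj.homEquiv _ _ β) (W := U) s = ap β (fSec φ h𝔛 h𝔜 s) := by
  rw [Adjunction.homEquiv_unit]
  rfl

theorem fSec_map {M N : ModF 𝔜 h𝔜} (a : M ⟶ N) {U : (𝔜.X 0).Opens} (s : (Mod48.pre M).obj (op U)) :
    ap ((pullF φ h𝔛 h𝔜).map a) (fSec φ h𝔛 h𝔜 s) = fSec φ h𝔛 h𝔜 (ap a s) :=
  congrArg (fun ψ => ap ψ (W := U) s) ((homMor φ h𝔛 h𝔜).adj.unit.naturality a).symm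

theorem mproj_fSec
    (e : (pullF φ h𝔛 h𝔜).obj (𝔐.realMod h𝔜) ⟶ (ModSys.pullback φ 𝔐).realMod h𝔛)
    (he : ∀ k : ℕ, (homMor φ h𝔛 h𝔜).adj.homEquiv _ _ e ≫
          (pushF φ h𝔛 h𝔜).map (realProj 𝔛 h𝔛 _ _ k) ≫
          (lvPushSq φ h𝔛 h𝔜 k).hom.app ((ModSys.pullback φ 𝔐).F k) =
        realProj 𝔜 h𝔜 _ _ k ≫
          (levelMor 𝔜 h𝔜 k).push.map
            ((ModSite.RMor.ofScheme ((φ : Hom 𝔛 𝔜).app k)).adj.unit.app (𝔐.F k))) (k : ℕ)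
    {U : (𝔜.X 0).Opens} (s : MSec 𝔐 h𝔜 U) :
    mproj h𝔛 (ModSys.pullback φ 𝔐).F (ModSys.pullback φ 𝔐).toPush ((φ : Hom 𝔛 𝔜).app 0 ⁻¹ᵁ U) k
        (ap e (fSec φ h𝔛 h𝔜 s)) =
      pl ((φ : Hom 𝔛 𝔜).app k) (𝔐.F k) (Hom.lvU_preimage φ h𝔛 h𝔜 k U).ge
        (mproj h𝔜 𝔐.F 𝔐.toPush U k s) := by
  rw [← ap_homEquivF φ h𝔛 h𝔜 e s]
  exact (congrArg (fun ψ => ap ψ (W := U) s) (homEquiv_eq_pullCmp_proj φ h𝔛 h𝔜 𝔐 e he k)).trans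
    (pullCmpApp_apply φ h𝔛 h𝔜 𝔐 k s)

end Cmp

section Square

variable {𝔛 𝔖 𝔜 ℨ : Sys.{u}} (p : ℨ ⟶ 𝔛) (f : 𝔛 ⟶ 𝔖) (q : ℨ ⟶ 𝔜) (g : 𝔜 ⟶ 𝔖) (w : p ≫ f = q ≫ g)

theorem bcMapF_naturality (hℨ : ℨ.IsFormal) (h𝔛 : 𝔛.IsFormal) (h𝔜 : 𝔜.IsFormal) (h𝔖 : 𝔖.IsFormal)
    {M N : ModF 𝔛 h𝔛} (a : M ⟶ N) :
    (pullF g h𝔜 h𝔖).map ((pushF f h𝔛 h𝔖).map a) ≫ bcMapF p f q g w hℨ h𝔛 h𝔜 h𝔖 N =
      bcMapF p f q g w hℨ h𝔛 h𝔜 h𝔖 M ≫ (pushF q hℨ h𝔜).map ((pullF p hℨ h𝔛).map a) := by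
  simp only [bcMapF, ModSite.RMor.bcMap_eq_mateEquiv]
  exact ((mateEquiv _ _).symm _).natTrans.naturality a

theorem ap_bcMapF (hℨ : ℨ.IsFormal) (h𝔛 : 𝔛.IsFormal) (h𝔜 : 𝔜.IsFormal) (h𝔖 : 𝔖.IsFormal)
    (M : ModF 𝔛 h𝔛) {U : (𝔖.X 0).Opens}
    (t : (Mod48.pre M).obj (op ((f : Hom 𝔛 𝔖).app 0 ⁻¹ᵁ U))) :
    ap (bcMapF p f q g w hℨ h𝔛 h𝔜 h𝔖 M)
        (fSec g h𝔜 h𝔖 (M := (pushF f h𝔛 h𝔖).obj M) (U := U) t) =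
      Mod48.res (Mod48.pre ((pullF p hℨ h𝔛).obj M))
        (homOfLE (Hom.sq_preimage p f q g w U).ge).op (fSec p hℨ h𝔛 t) :=
  (ap_bcMap (Hom.sharp_sq p f q g w hℨ h𝔛 h𝔜 h𝔖) M U t).trans
    (congrArg (fun r => Mod48.res (Mod48.pre ((pullF p hℨ h𝔛).obj M)) r (fSec p hℨ h𝔛 t))
      (Subsingleton.elim _ _))

variable (h𝔖 : 𝔖.IsLocNoethFormal) (h𝔛 : 𝔛.IsLocNoethFormal) (h𝔜 : 𝔜.IsLocNoethFormal)
  (hℨ : ℨ.IsLocNoethFormal) (hf : IsAdicHom f) (hq : IsAdicHom q)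
  (hsq : ∀ n, IsPullback ((p : Hom ℨ 𝔛).app n) ((q : Hom ℨ 𝔜).app n) ((f : Hom 𝔛 𝔖).app n)
    ((g : Hom 𝔜 𝔖).app n))
  [∀ n, IsFinite ((f : Hom 𝔛 𝔖).app n)] [∀ n, IsFinite ((q : Hom ℨ 𝔜).app n)]

include hf hq hsq in
theorem isIso_bcMapF_realMod (𝔐 : ModSys 𝔛) (h𝔐 : 𝔐.IsCoh) :
    IsIso (bcMapF p f q g w hℨ.1 h𝔛.1 h𝔜.1 h𝔖.1 (𝔐.realMod h𝔛.1)) := by
  have hqc : ∀ n, (𝔐.F n).IsQuasicoherent := fun n => (h𝔐 n).1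
  have : ∀ n, ((ModSys.pullback p 𝔐).F n).IsQuasicoherent := fun n => (isCoh_sysPullback p h𝔐 n).1
  have : ∀ n, IsLocallyNoetherian (𝔖.X n) := h𝔖.2.2
  have := isIso_pushCmp f h𝔛.1 h𝔖.1 hf 𝔐
  have := isIso_pushCmp q hℨ.1 h𝔜.1 hq (ModSys.pullback p 𝔐)
  let 𝔑 := pushSys f hf 𝔐
  have h𝔑 : 𝔑.IsCoh := isCoh_pushSys f hf 𝔐 h𝔐
  obtain ⟨eg, heg⟩ := exists_pullF_realMod_iso g 𝔑 h𝔜 h𝔖 h𝔑
  obtain ⟨ep, hep⟩ := exists_pullF_realMod_iso p 𝔐 hℨ h𝔛 h𝔐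
  let α := bcMapF p f q g w hℨ.1 h𝔛.1 h𝔜.1 h𝔖.1 (𝔐.realMod h𝔛.1)
  let θ : (ModSys.pullback g 𝔑).realMod h𝔜.1 ⟶ (pushSys q hq (ModSys.pullback p 𝔐)).realMod h𝔜.1 :=
    eg.inv ≫ (pullF g h𝔜.1 h𝔖.1).map (inv (pushCmp f h𝔛.1 h𝔖.1 hf 𝔐)) ≫ α ≫
      (pushF q hℨ.1 h𝔜.1).map ep.hom ≫ pushCmp q hℨ.1 h𝔜.1 hq (ModSys.pullback p 𝔐)
  obtain ⟨ψ, hψ⟩ := exists_realModMap h𝔜 (ModSys.pullback g 𝔑) (isCoh_sysPullback g h𝔑) θ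
  have hiso : ∀ k, IsIso (ψ.app k) := fun k => by
    have := epi_realProj h𝔖 𝔑 h𝔑 k
    obtain ⟨b, hb⟩ := exists_bc_iso _ _ _ _ (hsq k) (𝔐.F k)
    have key : ψ.app k = b.hom := by
      apply ((Scheme.Modules.pullbackPushforwardAdjunction ((g : Hom 𝔜 𝔖).app k)).homEquiv _ _).injective
      apply push_map_injective (h := h𝔖.1) (k := k)
      rw [← cancel_epi (realProj 𝔖 h𝔖.1 𝔑.F 𝔑.toPush k)]
      apply Mod48.fgt.map_injective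
      refine PresheafOfModules.hom_ext fun U => ?_
      ext s
      set t : MSec 𝔐 h𝔛.1 ((f : Hom 𝔛 𝔖).app 0 ⁻¹ᵁ U.unop) :=
        ap (inv (pushCmp f h𝔛.1 h𝔖.1 hf 𝔐)) (W := U.unop) s with ht
      have hst : ap (pushCmp f h𝔛.1 h𝔖.1 hf 𝔐) (W := U.unop) t = s :=
        congrArg (fun χ => ap χ (W := U.unop) s) (IsIso.inv_hom_id (pushCmp f h𝔛.1 h𝔖.1 hf 𝔐))
      let z := mproj h𝔖.1 𝔑.F 𝔑.toPush U.unop k s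
      have hz : z = toPushLv f h𝔛.1 h𝔖.1 hf 𝔐 k
          (mproj h𝔛.1 𝔐.F 𝔐.toPush ((f : Hom 𝔛 𝔖).app 0 ⁻¹ᵁ U.unop) k t) := by
        rw [← mproj_pushCmp, hst]
      let y : MSec (ModSys.pullback g 𝔑) h𝔜.1 ((g : Hom 𝔜 𝔖).app 0 ⁻¹ᵁ U.unop) :=
        ap eg.hom (fSec g h𝔜.1 h𝔖.1 s)
      have hy : mproj h𝔜.1 (ModSys.pullback g 𝔑).F (ModSys.pullback g 𝔑).toPush _ k y =
          pl ((g : Hom 𝔜 𝔖).app k) (𝔑.F k) (Hom.lvU_preimage g h𝔜.1 h𝔖.1 k U.unop).ge z :=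
        mproj_fSec g h𝔜.1 h𝔖.1 𝔑 eg.hom heg k s
      have h1 : mproj h𝔜.1 (pushSys q hq (ModSys.pullback p 𝔐)).F (pushSys q hq (ModSys.pullback p 𝔐)).toPush
          _ k (ap θ y) =
          (ψ.app k).app _ (mproj h𝔜.1 (ModSys.pullback g 𝔑).F (ModSys.pullback g 𝔑).toPush _ k y) := by
        rw [← hψ]
        exact congrArg (fun χ => ap χ (W := (g : Hom 𝔜 𝔖).app 0 ⁻¹ᵁ U.unop) y)
          (realLimMap_realProj 𝔜 h𝔜.1 ψ.app (ModSys.Hom.toPush_comm ψ) k)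
      have hθ : ap θ y = ap (pushCmp q hℨ.1 h𝔜.1 hq (ModSys.pullback p 𝔐))
          (W := (g : Hom 𝔜 𝔖).app 0 ⁻¹ᵁ U.unop)
          (Mod48.res (Mod48.pre (realLim ℨ hℨ.1 (ModSys.pullback p 𝔐).F (ModSys.pullback p 𝔐).toPush))
            (homOfLE (Hom.sq_preimage p f q g w U.unop).ge).op (ap ep.hom (fSec p hℨ.1 h𝔛.1 t))) := by
        change ap (pushCmp q hℨ.1 h𝔜.1 hq (ModSys.pullback p 𝔐)) (W := (g : Hom 𝔜 𝔖).app 0 ⁻¹ᵁ U.unop)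
          (ap ep.hom (ap α (ap ((pullF g h𝔜.1 h𝔖.1).map (inv (pushCmp f h𝔛.1 h𝔖.1 hf 𝔐)))
            (ap (eg.hom ≫ eg.inv) (fSec g h𝔜.1 h𝔖.1 s))))) = _
        rw [eg.hom_inv_id]
        refine congrArg (fun x => ap (pushCmp q hℨ.1 h𝔜.1 hq (ModSys.pullback p 𝔐))
          (W := (g : Hom 𝔜 𝔖).app 0 ⁻¹ᵁ U.unop) x) ?_
        refine (congrArg (ap ep.hom) ((congrArg (ap α) (fSec_map g h𝔜.1 h𝔖.1 _ s)).trans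
          (ap_bcMapF p f q g w hℨ.1 h𝔛.1 h𝔜.1 h𝔖.1 (𝔐.realMod h𝔛.1) (U := U.unop) t))).trans ?_
        exact (SiteMod.res_ap ep.hom _ (fSec p hℨ.1 h𝔛.1 t)).symm
      rw [hy, hθ, mproj_pushCmp, mproj_res (h := hℨ.1) (Hom.sq_preimage p f q g w U.unop).ge,
        mproj_fSec p hℨ.1 h𝔛.1 𝔐 ep.hom hep] at h1
      have hle : (q : Hom ℨ 𝔜).app k ⁻¹ᵁ 𝔜.lvU h𝔜.1 k ((g : Hom 𝔜 𝔖).app 0 ⁻¹ᵁ U.unop) ≤
          (p : Hom ℨ 𝔛).app k ⁻¹ᵁ ((f : Hom 𝔛 𝔖).app k ⁻¹ᵁ 𝔖.lvU h𝔖.1 k U.unop) := by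
        rw [← Scheme.Hom.comp_preimage, (hsq k).w, Scheme.Hom.comp_preimage]
        exact Scheme.Hom.preimage_mono _ (Hom.lvU_preimage g h𝔜.1 h𝔖.1 k U.unop).ge
      have h2 : (ψ.app k).app _ (pl ((g : Hom 𝔜 𝔖).app k) (𝔑.F k) (Hom.lvU_preimage g h𝔜.1 h𝔖.1 k U.unop).ge z) =
          b.hom.app _ (pl ((g : Hom 𝔜 𝔖).app k) (𝔑.F k) (Hom.lvU_preimage g h𝔜.1 h𝔖.1 k U.unop).ge z) := by
        refine h1.symm.trans (Eq.trans ?_ (hb _ _ _ hle z).symm)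
        rw [hz]
        simp only [toPushLv, res_res, pl_res]
        exact res_pl _ _ _ _
      change (ψ.app k).app _ (unitApp ((g : Hom 𝔜 𝔖).app k) (𝔑.F k) _ z) =
        b.hom.app _ (unitApp ((g : Hom 𝔜 𝔖).app k) (𝔑.F k) _ z)
      have e1 : unitApp ((g : Hom 𝔜 𝔖).app k) (𝔑.F k) _ z =
          res _ (Hom.lvU_preimage g h𝔜.1 h𝔖.1 k U.unop).le
            (pl ((g : Hom 𝔜 𝔖).app k) (𝔑.F k) (Hom.lvU_preimage g h𝔜.1 h𝔖.1 k U.unop).ge z) :=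
        ((res_res _ _ _).trans (res_self _)).symm
      rw [e1]
      exact (app_res (ψ.app k) _ _).trans ((congrArg (res _ _) h2).trans (app_res b.hom _ _).symm)
    rw [key]
    infer_instance
  have := isIso_realModMap (h := h𝔜.1) ψ hiso
  rw [hψ] at this
  have e : α = (pullF g h𝔜.1 h𝔖.1).map (pushCmp f h𝔛.1 h𝔖.1 hf 𝔐) ≫ eg.hom ≫ θ ≫
      inv (pushCmp q hℨ.1 h𝔜.1 hq (ModSys.pullback p 𝔐)) ≫ (pushF q hℨ.1 h𝔜.1).map ep.inv := by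
    simp [θ, ← Functor.map_comp]
  suffices h0 : IsIso α from h0
  rw [e]
  infer_instance

include hf hq hsq in
theorem isIso_bcMapF_of_finite (𝔉 : ModF 𝔛 h𝔛.1) [𝔉.IsFinitePresentation] :
    IsIso (bcMapF p f q g w hℨ.1 h𝔛.1 h𝔜.1 h𝔖.1 𝔉) := by
  have := isIso_toReal h𝔛 𝔉
  have := isIso_bcMapF_realMod p f q g w h𝔖 h𝔛 h𝔜 hℨ hf hq hsq _ (isCoh_sysOf h𝔛.1 𝔉)
  have e := bcMapF_naturality p f q g w hℨ.1 h𝔛.1 h𝔜.1 h𝔖.1 (toReal h𝔛.1 𝔉)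
  rw [← IsIso.comp_inv_eq] at e
  rw [← e]
  infer_instance

end Square

section Coh

variable {𝔛 𝔖 : Sys.{u}} (f : 𝔛 ⟶ 𝔖) (h𝔛 : 𝔛.IsLocNoethFormal) (h𝔖 : 𝔖.IsLocNoethFormal) (hf : IsAdicHom f)
  [∀ n, IsFinite ((f : Hom 𝔛 𝔖).app n)]

include hf in
theorem isCohF_pushF_of_finite (𝔉 : ModF 𝔛 h𝔛.1) [𝔉.IsFinitePresentation] :
    IsCohF 𝔖 h𝔖.1 ((pushF f h𝔛.1 h𝔖.1).obj 𝔉) := by
  have h𝔐 := isCoh_sysOf h𝔛.1 𝔉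
  have : ∀ n, ((sysOf h𝔛.1 𝔉).F n).IsQuasicoherent := fun n => (h𝔐 n).1
  have : ∀ n, IsLocallyNoetherian (𝔖.X n) := h𝔖.2.2
  have := isIso_toReal h𝔛 𝔉
  have := isIso_pushCmp f h𝔛.1 h𝔖.1 hf (sysOf h𝔛.1 𝔉)
  exact (SheafOfModules.isFinitePresentation (ModSite.ringSh (𝔖.Osh h𝔖.1))).prop_of_iso
    ((pushF f h𝔛.1 h𝔖.1).mapIso (asIso (toReal h𝔛.1 𝔉)) ≪≫ asIso (pushCmp f h𝔛.1 h𝔖.1 hf (sysOf h𝔛.1 𝔉))).symm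
    (isCohF_realMod h𝔖 _ (isCoh_pushSys f hf _ h𝔐))

end Coh

section Pullback

variable {𝔛 𝔖 𝔜 : Sys.{u}} (f : 𝔛 ⟶ 𝔖) (g : 𝔜 ⟶ 𝔖)

theorem isAdicHom_pullbackSnd (hf : IsAdicHom f) : IsAdicHom (pullbackSnd f g) := fun n => by
  have h12 : IsPullback ((pullbackSys f g).ι n ≫ (pullbackFst f g : Hom _ _).app (n + 1))
      ((pullbackSnd f g : Hom _ _).app n) ((f : Hom 𝔛 𝔖).app (n + 1))
      (𝔜.ι n ≫ (g : Hom 𝔜 𝔖).app (n + 1)) := by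
    have h := (IsPullback.of_hasPullback ((f : Hom 𝔛 𝔖).app n) ((g : Hom 𝔜 𝔖).app n)).paste_horiz (hf n)
    rw [(g : Hom 𝔜 𝔖).comm n] at h
    have e := (pullbackFst f g : Hom _ _).comm n
    rw [pullbackFst_app, pullbackFst_app] at e
    rw [pullbackFst_app, pullbackSnd_app, ← e]
    exact h
  exact IsPullback.of_right h12 ((pullbackSnd f g : Hom _ _).comm n).symm
    (IsPullback.of_hasPullback ((f : Hom 𝔛 𝔖).app (n + 1)) ((g : Hom 𝔜 𝔖).app (n + 1)))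

end Pullback

end Groth.Agent.FCompl13
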