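import Groth.Agent.FCompl13.Transition

/-!
Pulled back sections of modules on schemes.
-/

set_option autoImplicit false
set_option backward.isDefEq.respectTransparency false

noncomputable section

universe u

open CategoryTheory Limits AlgebraicGeometry TopologicalSpace Opposite
open Groth.Agent.QC70

namespace Groth.Agent.FCompl13

variable {X Y Z : Scheme.{u}} (f : X ⟶ Y)

/-- The pullback of a section. -/
def pl (M : Y.Modules) {V : Y.Opens} {W : X.Opens} (hle : W ≤ f ⁻¹ᵁ V) (m : Γ(M, V)) :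
    Γ((Scheme.Modules.pullback f).obj M, W) :=
  res ((Scheme.Modules.pullback f).obj M) hle (unitApp f M V m)

variable {f}

theorem res_pl (M : Y.Modules) {V : Y.Opens} {W W' : X.Opens} (hle : W ≤ f ⁻¹ᵁ V) (hW : W' ≤ W)
    (m : Γ(M, V)) : res _ hW (pl f M hle m) = pl f M (hW.trans hle) m :=
  res_res hle hW _

theorem unitApp_res (M : Y.Modules) {V V' : Y.Opens} (hV : V' ≤ V) (m : Γ(M, V)) :
    unitApp f M V' (res M hV m) =
      res ((Scheme.Modules.pullback f).obj M) (Scheme.Hom.preimage_mono f hV) (unitApp f M V m) :=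
  PresheafOfModules.naturality_apply
    ((Scheme.Modules.pullbackPushforwardAdjunction f).unit.app M).val (homOfLE hV).op m

theorem pl_res (M : Y.Modules) {V V' : Y.Opens} (hV : V' ≤ V) {W : X.Opens} (hle : W ≤ f ⁻¹ᵁ V')
    (m : Γ(M, V)) :
    pl f M hle (res M hV m) = pl f M (hle.trans (Scheme.Hom.preimage_mono f hV)) m := by
  rw [pl, unitApp_res, res_res]
  rfl

theorem pl_add (M : Y.Modules) {V : Y.Opens} {W : X.Opens} (hle : W ≤ f ⁻¹ᵁ V) (m m' : Γ(M, V)) :
    pl f M hle (m + m') = pl f M hle m + pl f M hle m' :=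
  (congrArg (res _ hle)
    (map_add (((Scheme.Modules.pullbackPushforwardAdjunction f).unit.app M).app V).hom m m')).trans
    (map_add (((Scheme.Modules.pullback f).obj M).presheaf.map (homOfLE hle).op).hom _ _)

theorem pl_smul (M : Y.Modules) {V : Y.Opens} {W : X.Opens} (hle : W ≤ f ⁻¹ᵁ V) (a : Γ(Y, V))
    (m : Γ(M, V)) : pl f M hle (a • m) = (f.appLE V W hle).hom a • pl f M hle m := by
  rw [pl, unitApp_smul, res_smul]
  rfl

theorem pl_naturality {M N : Y.Modules} (φ : M ⟶ N) {V : Y.Opens} {W : X.Opens} (hle : W ≤ f ⁻¹ᵁ V)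
    (m : Γ(M, V)) :
    ((Scheme.Modules.pullback f).map φ).app W (pl f M hle m) = pl f N hle (φ.app V m) := by
  rw [pl, pl]
  refine (PresheafOfModules.naturality_apply ((Scheme.Modules.pullback f).map φ).val (homOfLE hle).op _).trans ?_
  exact congrArg (res _ hle) (congr(($((Scheme.Modules.pullbackPushforwardAdjunction f).unit.naturality φ)).app V m)).symm

theorem pl_congr {f' : X ⟶ Y} (h : f = f') (M : Y.Modules) {V : Y.Opens} {W : X.Opens}
    (hle : W ≤ f ⁻¹ᵁ V) (hle' : W ≤ f' ⁻¹ᵁ V) (m : Γ(M, V)) :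
    ((Scheme.Modules.pullbackCongr h).hom.app M).app W (pl f M hle m) = pl f' M hle' m := by
  subst h
  rfl

theorem unitApp_comp (g : Y ⟶ Z) (M : Z.Modules) (V : Z.Opens) (m : Γ(M, V)) :
    ((Scheme.Modules.pullbackComp f g).hom.app M).app ((f ≫ g) ⁻¹ᵁ V)
        (unitApp f _ (g ⁻¹ᵁ V) (unitApp g M V m)) = unitApp (f ≫ g) M V m := by
  have h := unit_conjugateEquiv
    ((Scheme.Modules.pullbackPushforwardAdjunction g).comp (Scheme.Modules.pullbackPushforwardAdjunction f))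
    (Scheme.Modules.pullbackPushforwardAdjunction (f ≫ g)) (Scheme.Modules.pullbackComp f g).inv M
  rw [Scheme.Modules.conjugateEquiv_pullbackComp_inv] at h
  have h2 := congrArg (fun φ => φ ≫ (Scheme.Modules.pushforward (f ≫ g)).map
    ((Scheme.Modules.pullbackComp f g).hom.app M)) h
  simp only [Category.assoc, ← Functor.map_comp, Iso.inv_hom_id_app, CategoryTheory.Functor.map_id,
    Category.comp_id] at h2
  exact congr(($h2).app V m)

theorem pl_comp (g : Y ⟶ Z) (M : Z.Modules) {V : Z.Opens} {W' : Y.Opens} {W : X.Opens}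
    (h₁ : W' ≤ g ⁻¹ᵁ V) (h₂ : W ≤ f ⁻¹ᵁ W') (h₃ : W ≤ (f ≫ g) ⁻¹ᵁ V) (m : Γ(M, V)) :
    ((Scheme.Modules.pullbackComp f g).hom.app M).app W (pl f _ h₂ (pl g M h₁ m)) =
      pl (f ≫ g) M h₃ m := by
  have e : pl f _ h₂ (pl g M h₁ m) = res _ h₃ (unitApp f _ (g ⁻¹ᵁ V) (unitApp g M V m)) :=
    pl_res _ h₁ h₂ _
  rw [e]
  refine (PresheafOfModules.naturality_apply ((Scheme.Modules.pullbackComp f g).hom.app M).val
    (homOfLE h₃).op _).trans ?_
  exact congrArg (res _ h₃) (unitApp_comp g M V m)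

theorem pl_comp_inv (g : Y ⟶ Z) (M : Z.Modules) {V : Z.Opens} {W' : Y.Opens} {W : X.Opens}
    (h₁ : W' ≤ g ⁻¹ᵁ V) (h₂ : W ≤ f ⁻¹ᵁ W') (h₃ : W ≤ (f ≫ g) ⁻¹ᵁ V) (m : Γ(M, V)) :
    ((Scheme.Modules.pullbackComp f g).inv.app M).app W (pl (f ≫ g) M h₃ m) =
      pl f _ h₂ (pl g M h₁ m) := by
  rw [← pl_comp g M h₁ h₂ h₃ m]
  exact congr(($((Scheme.Modules.pullbackComp f g).hom_inv_id_app M)).app W (pl f _ h₂ (pl g M h₁ m)))

end Groth.Agent.FCompl13
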