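import Groth.Prelude.Def_FSch5
import Groth.Agent.FCompl13.SecRing
import Groth.Agent.SiteMod.LocSurj
import Groth.Agent.SiteMod.FlatCrit
import Groth.Agent.SiteMod.PushTensor
import Groth.Agent.SiteMod.FinType

/-!
The direct image from a level of a locally Noetherian formal scheme is fully faithful.
-/

set_option autoImplicit false
set_option backward.isDefEq.respectTransparency false

noncomputable section

universe u

open CategoryTheory CategoryTheory.Limits AlgebraicGeometry TopologicalSpace Opposite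

namespace Groth.Agent.FCompl13

open _root_.FSch
open SiteMod (ap)

variable {𝔛 : Sys.{u}} (h : 𝔛.IsFormal) (k : ℕ)

/-- The open of the common space under an open of a level. -/
abbrev downU (W : (𝔛.X k).Opens) : (𝔛.X 0).Opens := (Opens.map (𝔛.toX k).base).obj W

theorem lvU_downU (W : (𝔛.X k).Opens) : 𝔛.lvU h k (downU k W) = W := by
  change (Opens.map (𝔛.gInv h k ≫ (𝔛.toX k).base)).obj W = W
  rw [Sys.gInv_toX_base]
  rfl

variable {h k}

theorem push_map_injective {A B : (𝔛.X k).Modules} {f g : A ⟶ B}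
    (e : (levelMor 𝔛 h k).push.map f = (levelMor 𝔛 h k).push.map g) : f = g := by
  apply Mod48.fgt.map_injective
  refine PresheafOfModules.hom_ext fun W => ?_
  obtain ⟨U, rfl⟩ : ∃ U, W = op (𝔛.lvU h k U) := ⟨downU k W.unop, by rw [lvU_downU]⟩
  ext x
  exact congrArg (fun φ => ap φ (W := U) (SiteMod.toPush (levelMor 𝔛 h k) A x)) e

/-- Sections of `O_𝔛` give locally all sections of a level. -/
theorem exists_local_lift (h𝔛 : 𝔛.IsLocNoethFormal) (k : ℕ) (U : (𝔛.X 0).Opens)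
    (a : Γ(𝔛.X k, 𝔛.lvU h𝔛.1 k U)) (x : 𝔛.X 0) (hx : x ∈ U) :
    ∃ (V : (𝔛.X 0).Opens) (hV : V ≤ U), x ∈ V ∧ ∃ s : FBlow13.Sec 𝔛 h𝔛.1 V,
      FBlow13.proj 𝔛 h𝔛.1 V k s = (𝔛.X k).presheaf.map (homOfLE (FBlow.lvU_mono 𝔛 h𝔛.1 k hV)).op a := by
  obtain ⟨V, hV, hxV, hVU⟩ := exists_isAffineOpen_mem_and_subset hx
  exact ⟨V, hVU, hxV, ((secRing h𝔛 hV).2.2 k).1 _⟩

theorem push_map_surjective (h𝔛 : 𝔛.IsLocNoethFormal) {A B : (𝔛.X k).Modules}
    (θ : (levelMor 𝔛 h𝔛.1 k).push.obj A ⟶ (levelMor 𝔛 h𝔛.1 k).push.obj B) :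
    ∃ f : A ⟶ B, (levelMor 𝔛 h𝔛.1 k).push.map f = θ := by
  let L := levelMor 𝔛 h𝔛.1 k
  have heq : ∀ W : (𝔛.X k).Opens, 𝔛.lvU h𝔛.1 k (downU k W) = W := lvU_downU h𝔛.1 k
  -- the components
  let c : ∀ W : (𝔛.X k).Opens, (Mod48.pre A).obj (op W) →+ (Mod48.pre B).obj (op W) := fun W =>
    AddMonoidHom.mk' (fun x => Mod48.res (Mod48.pre B) (eqToHom (congrArg op (heq W)))
        (SiteMod.ofPush L B (ap θ (SiteMod.toPush L A (W := downU k W)
          (Mod48.res (Mod48.pre A) (eqToHom (congrArg op (heq W).symm)) x)))))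
      fun x y => (congrArg (fun z => Mod48.res (Mod48.pre B) _ (SiteMod.ofPush L B (ap θ
          (SiteMod.toPush L A (W := downU k W) z)))) (Mod48.res_add _ _ x y)).trans
        ((congrArg (Mod48.res (Mod48.pre B) _) (map_add ((Mod48.fgt.map θ).app _).hom _ _)).trans
          (Mod48.res_add _ _ _ _))
  have hnat : ∀ {W W' : (𝔛.X k).Opens} (i : W' ⟶ W) (x : (Mod48.pre A).obj (op W)),
      c W' (Mod48.res (Mod48.pre A) i.op x) = Mod48.res (Mod48.pre B) i.op (c W x) := by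
    intro W W' i x
    let j : downU k W' ⟶ downU k W := homOfLE fun z hz => (leOfHom i) hz
    change Mod48.res _ _ (SiteMod.ofPush L B (ap θ (SiteMod.toPush L A _))) =
      Mod48.res _ i.op (Mod48.res _ _ _)
    rw [Mod48.res_res (Mod48.pre B), show eqToHom (congrArg op (heq W)) ≫ i.op =
      (L.fn.map j).op ≫ eqToHom (congrArg op (heq W')) from Subsingleton.elim _ _,
      ← Mod48.res_res (Mod48.pre B) _ (eqToHom (congrArg op (heq W'))),
      ← SiteMod.res_ofPush L B j, SiteMod.res_ap]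
    refine congrArg (fun z => Mod48.res (Mod48.pre B) _ (SiteMod.ofPush L B (ap θ z))) ?_
    change SiteMod.ofPush L A (SiteMod.toPush L A _) = SiteMod.ofPush L A (Mod48.res _ j.op (SiteMod.toPush L A _))
    rw [SiteMod.res_ofPush, Mod48.res_res, Mod48.res_res]
    exact congrArg (fun z => Mod48.res (Mod48.pre A) z x) (Subsingleton.elim _ _)
  -- linearity holds on opens coming from the common space
  have hlin : ∀ (U : (𝔛.X 0).Opens) (a : Γ(𝔛.X k, 𝔛.lvU h𝔛.1 k U))
      (x : (Mod48.pre A).obj (op (𝔛.lvU h𝔛.1 k U))),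
      SiteMod.ofPush L B (ap θ (SiteMod.toPush L A (W := U) (a • x))) =
        a • SiteMod.ofPush L B (ap θ (SiteMod.toPush L A (W := U) x)) := by
    intro U a x
    choose V hV hxV s hs using exists_local_lift h𝔛 k U a
    refine Mod48.ext_of_sieve (H := B) (X := op (𝔛.lvU h𝔛.1 k U))
      (S := Sieve.ofArrows (fun p : U => 𝔛.lvU h𝔛.1 k (V p.1 p.2))
        (fun p => L.fn.map (homOfLE (hV p.1 p.2))))
      (fun z hz => ⟨_, L.fn.map (homOfLE (hV _ hz)), Sieve.ofArrows_mk _ _ (⟨_, hz⟩ : U), hxV _ hz⟩)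
      fun Y g hg => ?_
    obtain ⟨p, q, rfl⟩ := (Sieve.mem_ofArrows_iff _ _ g).1 hg
    rw [op_comp, ← Mod48.res_res, ← Mod48.res_res]
    refine congrArg (Mod48.res (Mod48.pre B) q.op) ?_
    have hA : Mod48.res (Mod48.pre (L.push.obj A)) (homOfLE (hV p.1 p.2)).op (SiteMod.toPush L A (a • x)) =
        (show (𝔛.Osh h𝔛.1).obj.obj (op (V p.1 p.2)) from s p.1 p.2) •
          Mod48.res (Mod48.pre (L.push.obj A)) (homOfLE (hV p.1 p.2)).op (SiteMod.toPush L A x) := by
      change Mod48.res (Mod48.pre A) (L.fn.map (homOfLE (hV p.1 p.2))).op (a • x) =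
        FBlow13.proj 𝔛 h𝔛.1 (V p.1 p.2) k (s p.1 p.2) •
          Mod48.res (Mod48.pre A) (L.fn.map (homOfLE (hV p.1 p.2))).op x
      rw [Mod48.res_smul, hs]
      rfl
    rw [← SiteMod.res_ofPush, SiteMod.res_ap, hA, SiteMod.ap_smul, SiteMod.ofPush_smul, ← SiteMod.res_ap,
      Mod48.res_smul, SiteMod.res_ofPush]
    exact congrArg (· • _) (hs p.1 p.2)
  have hclin : ∀ (W : (𝔛.X k).Opens) (a : Γ(𝔛.X k, W)) (x : (Mod48.pre A).obj (op W)),
      c W (a • x) = a • c W x := by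
    intro W a x
    change Mod48.res _ _ (SiteMod.ofPush L B (ap θ (SiteMod.toPush L A (Mod48.res _ _ (a • x))))) = _
    rw [Mod48.res_smul, hlin, Mod48.res_smul]
    refine congrArg (· • _) ?_
    rw [← CommRingCat.comp_apply, ← Functor.map_comp, eqToHom_trans, eqToHom_refl]
    exact congrArg (fun φ => φ a) ((𝔛.X k).sheaf.obj.map_id _)
  let ψ : (Mod48.pre A).presheaf ⟶ (Mod48.pre B).presheaf :=
    { app := fun W => AddCommGrpCat.ofHom (c W.unop)
      naturality := fun W W' i => by ext x; exact hnat i.unop x }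
  refine ⟨⟨PresheafOfModules.homMk ψ fun W a x => hclin W.unop a x⟩, ?_⟩
  apply Mod48.fgt.map_injective
  refine PresheafOfModules.hom_ext fun U => ?_
  ext x
  change c (𝔛.lvU h𝔛.1 k U.unop) (SiteMod.ofPush L A x) = SiteMod.ofPush L B (ap θ x)
  have hd : downU k (𝔛.lvU h𝔛.1 k U.unop) = U.unop := by
    change (Opens.map ((𝔛.toX k).base ≫ 𝔛.gInv h𝔛.1 k)).obj U.unop = _
    rw [Sys.toX_base_gInv]
    rfl
  change Mod48.res _ _ (SiteMod.ofPush L B (ap θ (SiteMod.toPush L A (Mod48.res _ _ _)))) = _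
  rw [show eqToHom (congrArg op (heq (𝔛.lvU h𝔛.1 k U.unop)).symm) = (L.fn.map (eqToHom hd)).op from
    Subsingleton.elim _ _, ← SiteMod.res_ofPush L A (eqToHom hd)]
  change Mod48.res _ _ (SiteMod.ofPush L B (ap θ (Mod48.res (Mod48.pre (L.push.obj A)) (eqToHom hd).op x))) = _
  rw [← SiteMod.res_ap, SiteMod.res_ofPush, Mod48.res_res]
  rw [show (L.fn.map (eqToHom hd)).op ≫ eqToHom (congrArg op (heq (𝔛.lvU h𝔛.1 k U.unop))) =
    (𝟙 (L.fn.obj U.unop)).op from Subsingleton.elim _ _]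
  exact congr($((Mod48.pre B).map_id (op (L.fn.obj U.unop))) (SiteMod.ofPush L B (ap θ x)))

end Groth.Agent.FCompl13
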