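import Groth.Agent.FCompl13.ModPres
import Groth.Agent.FCompl13.PushFF
import Groth.Agent.SiteMod.OpensMod

/-!
The inverse image to a level of the module attached to a coherent system is the level of the system.
-/

set_option autoImplicit false
set_option backward.isDefEq.respectTransparency false

noncomputable section

universe u

open CategoryTheory CategoryTheory.Limits AlgebraicGeometry TopologicalSpace Opposite

namespace Groth.Agent.FCompl13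

open _root_.FSch
open SiteMod (ap)

variable {𝔛 : Sys.{u}} (h𝔛 : 𝔛.IsLocNoethFormal) (𝔐 : ModSys 𝔛) (h𝔐 : 𝔐.IsCoh) (k : ℕ)

include h𝔐

theorem epi_realProj : Epi (realProj 𝔛 h𝔛.1 𝔐.F 𝔐.toPush k) := by
  refine (SiteMod.epi_iff_locSurj _).2 fun W x => ⟨_, affineSieve_mem W, fun V v hv => ?_⟩
  obtain ⟨V', hV', hVV', hV'W⟩ := hv
  obtain ⟨y, hy⟩ := ((modSec 𝔐 h𝔛 h𝔐 hV').2.2 k).1
    (SiteMod.ofPush (levelMor 𝔛 h𝔛.1 k) (𝔐.F k)
      (Mod48.res (Mod48.pre ((levelMor 𝔛 h𝔛.1 k).push.obj (𝔐.F k))) (homOfLE hV'W).op x))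
  refine ⟨Mod48.res _ (homOfLE hVV').op y, ?_⟩
  rw [← SiteMod.res_ap]
  refine (congrArg (Mod48.res _ (homOfLE hVV').op) hy).trans ?_
  change Mod48.res _ _ (Mod48.res (Mod48.pre ((levelMor 𝔛 h𝔛.1 k).push.obj (𝔐.F k))) _ x) = _
  rw [Mod48.res_res]
  exact congrArg (fun z => Mod48.res _ z x) (Subsingleton.elim _ _)

theorem ap_eq_zero_of_mproj {N : (𝔛.X k).Modules}
    (η : 𝔐.realMod h𝔛.1 ⟶ (levelMor 𝔛 h𝔛.1 k).push.obj N) {W : (𝔛.X 0).Opens}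
    (x : MSec 𝔐 h𝔛.1 W) (hx : ap (realProj 𝔛 h𝔛.1 𝔐.F 𝔐.toPush k) x = 0) : ap η x = 0 := by
  refine SiteMod.eq_zero_of_locally (affineSieve_mem W) fun V v hv => ?_
  obtain ⟨V', hV', hVV', hV'W⟩ := hv
  obtain ⟨-, -, hp⟩ := secRing h𝔛 hV'
  obtain ⟨-, -, hM⟩ := modSec 𝔐 h𝔛 h𝔐 hV'
  have h0 : mres h𝔛 𝔐 hV'W x ∈ secIdeal 𝔛 h𝔛.1 V' ^ (k + 1) •
      (⊤ : Submodule (FBlow13.Sec 𝔛 h𝔛.1 V') (MSec 𝔐 h𝔛.1 V')) := by
    refine ((hM k).2 _).1 ?_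
    change ap (realProj 𝔛 h𝔛.1 𝔐.F 𝔐.toPush k)
      (Mod48.res (Mod48.pre (realLim 𝔛 h𝔛.1 𝔐.F 𝔐.toPush)) (homOfLE hV'W).op x) = 0
    rw [← SiteMod.res_ap, hx, SiteMod.res_zero]
  have h1 : ap η (mres h𝔛 𝔐 hV'W x) = 0 := by
    refine Submodule.smul_induction_on (p := fun t => ap η t = 0) h0 (fun s hs m _ => ?_)
      (fun a b ha hb => (map_add ((Mod48.fgt.map η).app (op V')).hom a b).trans (by
        rw [show ((Mod48.fgt.map η).app (op V')).hom a = 0 from ha,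
          show ((Mod48.fgt.map η).app (op V')).hom b = 0 from hb, add_zero]))
    rw [SiteMod.ap_smul η (show (𝔛.Osh h𝔛.1).obj.obj (op V') from s) m]
    change FBlow13.proj 𝔛 h𝔛.1 V' k s • SiteMod.ofPush (levelMor 𝔛 h𝔛.1 k) N (ap η m) = 0
    rw [← (hp k).2, RingHom.mem_ker] at hs
    refine (congrArg (fun r : Γ(𝔛.X k, 𝔛.lvU h𝔛.1 k V') =>
      r • SiteMod.ofPush (levelMor 𝔛 h𝔛.1 k) N (ap η m)) hs).trans (zero_smul _ _)
  rw [show v = homOfLE hVV' ≫ homOfLE hV'W from Subsingleton.elim _ _, op_comp, ← Mod48.res_res]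
  refine (congrArg (Mod48.res _ (homOfLE hVV').op) ?_).trans (SiteMod.res_zero _ _)
  rw [SiteMod.res_ap]
  exact h1

theorem exists_factor {N : (𝔛.X k).Modules}
    (η : 𝔐.realMod h𝔛.1 ⟶ (levelMor 𝔛 h𝔛.1 k).push.obj N) :
    ∃ d : 𝔐.F k ⟶ N, realProj 𝔛 h𝔛.1 𝔐.F 𝔐.toPush k ≫ (levelMor 𝔛 h𝔛.1 k).push.map d = η := by
  have := epi_realProj h𝔛 𝔐 h𝔐 k
  let p := realProj 𝔛 h𝔛.1 𝔐.F 𝔐.toPush k
  have hk : kernel.ι p ≫ η = 0 := by
    apply Mod48.fgt.map_injective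
    refine PresheafOfModules.hom_ext fun W => ?_
    ext x
    refine (ap_eq_zero_of_mproj h𝔛 𝔐 h𝔐 k η (W := W.unop) (ap (kernel.ι p) (W := W.unop) x) ?_).trans ?_
    · exact (SiteMod.ap_comp (kernel.ι p) p x).symm.trans
        (congrArg (fun φ => ap φ (W := W.unop) x) (kernel.condition p))
    · rfl
  obtain ⟨d, hd⟩ := push_map_surjective h𝔛 (Abelian.epiDesc p η hk)
  exact ⟨d, by rw [hd]; exact Abelian.comp_epiDesc _ _ _⟩

theorem isIso_pull_realMod :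
    IsIso (((levelMor 𝔛 h𝔛.1 k).adj.homEquiv _ _).symm (realProj 𝔛 h𝔛.1 𝔐.F 𝔐.toPush k)) := by
  have := epi_realProj h𝔛 𝔐 h𝔐 k
  let L := levelMor 𝔛 h𝔛.1 k
  let p := realProj 𝔛 h𝔛.1 𝔐.F 𝔐.toPush k
  obtain ⟨d, hd⟩ := exists_factor h𝔛 𝔐 h𝔐 k (L.adj.unit.app (𝔐.realMod h𝔛.1))
  have hc : L.adj.unit.app (𝔐.realMod h𝔛.1) ≫ L.push.map ((L.adj.homEquiv _ _).symm p) = p :=
    (Adjunction.homEquiv_unit ..).symm.trans (Equiv.apply_symm_apply _ _)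
  refine ⟨d, ?_, ?_⟩
  · apply (L.adj.homEquiv _ _).injective
    rw [Adjunction.homEquiv_unit, Adjunction.homEquiv_unit, Functor.map_comp,
      CategoryTheory.Functor.map_id]
    exact ((Category.assoc _ _ _).symm.trans ((congrArg (· ≫ _) hc).trans hd)).trans (Category.comp_id _).symm
  · apply push_map_injective (h := h𝔛.1) (k := k)
    rw [← cancel_epi p, Functor.map_comp, CategoryTheory.Functor.map_id]
    exact (Category.assoc _ _ _).symm.trans ((congrArg (· ≫ _) hd).trans (hc.trans (Category.comp_id _).symm))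

theorem hom_ext_realMod {𝔑 : ModSys 𝔛} {φ ψ : 𝔐 ⟶ 𝔑}
    (e : ModSys.realModMap h𝔛.1 φ = ModSys.realModMap h𝔛.1 ψ) : φ = ψ := by
  refine ModSys.Hom.ext (funext fun n => ?_)
  have := epi_realProj h𝔛 𝔐 h𝔐 n
  apply push_map_injective (h := h𝔛.1) (k := n)
  rw [← cancel_epi (realProj 𝔛 h𝔛.1 𝔐.F 𝔐.toPush n), ← realLimMap_realProj 𝔛 h𝔛.1 φ.app (ModSys.Hom.toPush_comm φ),
    ← realLimMap_realProj 𝔛 h𝔛.1 ψ.app (ModSys.Hom.toPush_comm ψ)]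
  exact congrArg (· ≫ _) e

theorem exists_realModMap {𝔑 : ModSys 𝔛} (θ : 𝔐.realMod h𝔛.1 ⟶ 𝔑.realMod h𝔛.1) :
    ∃ φ : 𝔐 ⟶ 𝔑, ModSys.realModMap h𝔛.1 φ = θ := by
  choose a ha using fun n => exists_factor h𝔛 𝔐 h𝔐 n (θ ≫ realProj 𝔛 h𝔛.1 𝔑.F 𝔑.toPush n)
  have hcomm : ∀ n, 𝔐.toPush n ≫ (Scheme.Modules.pushforward (𝔛.ι n)).map (a n) =
      a (n + 1) ≫ 𝔑.toPush n := by
    intro n
    have := epi_realProj h𝔛 𝔐 h𝔐 (n + 1)
    apply push_map_injective (h := h𝔛.1) (k := n + 1)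
    have : IsIso ((pushCompare 𝔛 h𝔛.1 n).app (𝔑.F n)) := ⟨(pushCompareInv 𝔛 h𝔛.1 n).app (𝔑.F n),
      pushCompare_pushCompareInv 𝔛 h𝔛.1 n _, pushCompareInv_pushCompare 𝔛 h𝔛.1 n _⟩
    rw [← cancel_epi (realProj 𝔛 h𝔛.1 𝔐.F 𝔐.toPush (n + 1)),
      ← cancel_mono ((pushCompare 𝔛 h𝔛.1 n).app (𝔑.F n))]
    simp only [Functor.map_comp, Category.assoc]
    have nat : (levelMor 𝔛 h𝔛.1 (n + 1)).push.map ((Scheme.Modules.pushforward (𝔛.ι n)).map (a n)) ≫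
        (pushCompare 𝔛 h𝔛.1 n).app (𝔑.F n) =
          (pushCompare 𝔛 h𝔛.1 n).app (𝔐.F n) ≫ (levelMor 𝔛 h𝔛.1 n).push.map (a n) :=
      (pushCompare 𝔛 h𝔛.1 n).naturality (a n)
    rw [nat, realProj_map_assoc, ha n, ← Category.assoc, ha (n + 1), Category.assoc, realProj_map]
  refine ⟨⟨a, fun n => ?_⟩, ?_⟩
  · apply ((Scheme.Modules.pullbackPushforwardAdjunction (𝔛.ι n)).homEquiv _ _).injective
    rw [Adjunction.homEquiv_naturality_left, Adjunction.homEquiv_naturality_right]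
    exact (hcomm n).symm
  · refine limit.hom_ext fun j => ?_
    exact (realLimMap_realProj 𝔛 h𝔛.1 a hcomm j.unop).trans (ha j.unop)

end Groth.Agent.FCompl13
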