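import Groth.Prelude.Def_FSch6
import Groth.Agent.FCompl13.RealPull
import Groth.Agent.FCompl13.CohReal
import Groth.Agent.FCompl13.PullSec
import Groth.Agent.QCPull72.Sections
import Groth.Agent.Mod48.PullLocal

/-!
The inverse image along a morphism of formal schemes of the module of a coherent system is the
module of the levelwise inverse images.
-/

set_option autoImplicit false
set_option backward.isDefEq.respectTransparency false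

noncomputable section

universe u

open CategoryTheory CategoryTheory.Limits AlgebraicGeometry TopologicalSpace Opposite

namespace Groth.Agent.FCompl13

open _root_.FSch
open SiteMod (ap)

variable {𝔛 : Sys.{u}}

theorem realModMap_comp {h : 𝔛.IsFormal} {𝔐 𝔑 𝔓 : ModSys 𝔛} (φ : 𝔐 ⟶ 𝔑) (ψ : 𝔑 ⟶ 𝔓) :
    ModSys.realModMap h (φ ≫ ψ) = ModSys.realModMap h φ ≫ ModSys.realModMap h ψ := by
  refine limit.hom_ext fun j => ?_
  refine (realLimMap_realProj 𝔛 h (φ ≫ ψ).app _ j.unop).trans ?_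
  refine Eq.trans ?_ (Category.assoc _ _ _).symm
  refine Eq.trans ?_ (congrArg (ModSys.realModMap h φ ≫ ·) (realLimMap_realProj 𝔛 h ψ.app _ j.unop)).symm
  refine Eq.trans ?_ (Category.assoc _ _ _)
  refine Eq.trans ?_ (congrArg (· ≫ _) (realLimMap_realProj 𝔛 h φ.app _ j.unop)).symm
  rw [Category.assoc, ← Functor.map_comp]
  rfl

theorem realModMap_id {h : 𝔛.IsFormal} (𝔐 : ModSys 𝔛) : ModSys.realModMap h (𝟙 𝔐) = 𝟙 _ := by
  refine limit.hom_ext fun j => ?_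
  refine (realLimMap_realProj 𝔛 h (ModSys.Hom.app (𝟙 𝔐)) _ j.unop).trans ?_
  rw [show (ModSys.Hom.app (𝟙 𝔐) j.unop : 𝔐.F j.unop ⟶ 𝔐.F j.unop) = 𝟙 _ from rfl, CategoryTheory.Functor.map_id]
  exact (Category.comp_id _).trans (Category.id_comp _).symm

theorem isIso_realModMap {h : 𝔛.IsFormal} {𝔐 𝔑 : ModSys 𝔛} (φ : 𝔐 ⟶ 𝔑) (hφ : ∀ n, IsIso (φ.app n)) :
    IsIso (ModSys.realModMap h φ) := by
  let ψ : 𝔑 ⟶ 𝔐 := ⟨fun n => inv (φ.app n), fun n => by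
    rw [Functor.map_inv, IsIso.inv_comp_eq, ← Category.assoc, φ.comm n, Category.assoc, IsIso.hom_inv_id]
    exact (Category.comp_id _).symm⟩
  refine ⟨ModSys.realModMap h ψ, ?_, ?_⟩
  · rw [← realModMap_comp, show φ ≫ ψ = 𝟙 𝔐 from ModSys.Hom.ext (funext fun n => IsIso.hom_inv_id (φ.app n)),
      realModMap_id]
  · rw [← realModMap_comp, show ψ ≫ φ = 𝟙 𝔑 from ModSys.Hom.ext (funext fun n => IsIso.inv_hom_id (φ.app n)),
      realModMap_id]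

/-- A map to an attached module which is an isomorphism on every level is an isomorphism. -/
theorem isIso_of_levels (h𝔛 : 𝔛.IsLocNoethFormal) (G : ModF 𝔛 h𝔛.1) [G.IsFinitePresentation]
    (𝔑 : ModSys 𝔛) (θ : G ⟶ 𝔑.realMod h𝔛.1)
    (hlev : ∀ k, IsIso (((levelMor 𝔛 h𝔛.1 k).adj.homEquiv _ _).symm
      (θ ≫ realProj 𝔛 h𝔛.1 𝔑.F 𝔑.toPush k))) : IsIso θ := by
  have hiso := isIso_toReal h𝔛 G
  have h𝔐 := isCoh_sysOf h𝔛.1 G
  obtain ⟨φ, hφ⟩ := exists_realModMap h𝔛 (sysOf h𝔛.1 G) h𝔐 (inv (toReal h𝔛.1 G) ≫ θ)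
  have hfac : toReal h𝔛.1 G ≫ ModSys.realModMap h𝔛.1 φ = θ := by
    rw [hφ, IsIso.hom_inv_id_assoc]
  have happ : ∀ k, IsIso (φ.app k) := fun k => by
    have e : (levelMor 𝔛 h𝔛.1 k).adj.homEquiv _ _ (φ.app k) = θ ≫ realProj 𝔛 h𝔛.1 𝔑.F 𝔑.toPush k := by
      rw [← hfac]
      refine Eq.trans ?_ (Category.assoc _ _ _).symm
      refine Eq.trans ?_ (congrArg (toReal h𝔛.1 G ≫ ·) (realLimMap_realProj 𝔛 h𝔛.1 φ.app _ k)).symm
      refine Eq.trans ?_ (Category.assoc _ _ _)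
      refine Eq.trans ?_ (congrArg (· ≫ _) (toReal_realProj h𝔛.1 G k)).symm
      exact Adjunction.homEquiv_unit ..
    have := hlev k
    rw [← e, Equiv.symm_apply_apply] at this
    exact this
  have := isIso_realModMap (h := h𝔛.1) φ happ
  rw [← hfac]
  infer_instance

variable {𝔜 : Sys.{u}} (φ : 𝔛 ⟶ 𝔜)

theorem isCoh_sysPullback {𝔐 : ModSys 𝔜} (h𝔐 : 𝔐.IsCoh) : (ModSys.pullback φ 𝔐).IsCoh := fun n => by
  have := (h𝔐 n).1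
  have := (h𝔐 n).2
  exact ⟨QCPull72.isQuasicoherent_pullback _ _, QCPull72.isFiniteType_pullback _ _⟩

theorem pullTrans_pl (k : ℕ) (M : (𝔜.X (k + 1)).Modules) {V' : (𝔜.X (k + 1)).Opens} {V : (𝔜.X k).Opens}
    {W' : (𝔛.X (k + 1)).Opens} {W : (𝔛.X k).Opens} (a : W' ≤ (φ : Hom 𝔛 𝔜).app (k + 1) ⁻¹ᵁ V')
    (b : W ≤ 𝔛.ι k ⁻¹ᵁ W') (c : V ≤ 𝔜.ι k ⁻¹ᵁ V') (d : W ≤ (φ : Hom 𝔛 𝔜).app k ⁻¹ᵁ V) (m : Γ(M, V')) :
    (ModSys.pullTrans φ k M).hom.app W (pl (𝔛.ι k) _ b (pl ((φ : Hom 𝔛 𝔜).app (k + 1)) M a m)) =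
      pl ((φ : Hom 𝔛 𝔜).app k) _ d (pl (𝔜.ι k) M c m) := by
  have h₁ : W ≤ (𝔛.ι k ≫ (φ : Hom 𝔛 𝔜).app (k + 1)) ⁻¹ᵁ V' :=
    b.trans (Scheme.Hom.preimage_mono _ a)
  have h₂ : W ≤ ((φ : Hom 𝔛 𝔜).app k ≫ 𝔜.ι k) ⁻¹ᵁ V' :=
    d.trans (Scheme.Hom.preimage_mono _ c)
  rw [ModSys.pullTrans, Iso.trans_hom, Iso.trans_hom, Iso.app_hom, Iso.app_hom, Iso.app_hom, Iso.symm_hom,
    Scheme.Modules.Hom.comp_app, Scheme.Modules.Hom.comp_app]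
  refine Eq.trans (congrArg (fun y => ((Scheme.Modules.pullbackComp ((φ : Hom 𝔛 𝔜).app k) (𝔜.ι k)).inv.app M).app W
    (((Scheme.Modules.pullbackCongr ((φ : Hom 𝔛 𝔜).comm k).symm).hom.app M).app W y))
    (pl_comp _ M a b h₁ m)) ?_
  rw [pl_congr _ M h₁ h₂]
  exact pl_comp_inv _ M c d h₂ m

/-- The transition map of the inverse image system on pulled back sections. -/
theorem mtrans_pl {hX : 𝔛.IsFormal} {hY : 𝔜.IsFormal} (𝔐 : ModSys 𝔜) {V : (𝔜.X 0).Opens}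
    {W : (𝔛.X 0).Opens} (k : ℕ) (hle : ∀ j, 𝔛.lvU hX j W ≤ (φ : Hom 𝔛 𝔜).app j ⁻¹ᵁ 𝔜.lvU hY j V)
    (m : Γ(𝔐.F (k + 1), 𝔜.lvU hY (k + 1) V)) :
    mtrans hX (ModSys.pullback φ 𝔐).F (ModSys.pullback φ 𝔐).toPush W k
        (pl ((φ : Hom 𝔛 𝔜).app (k + 1)) (𝔐.F (k + 1)) (hle (k + 1)) m) =
      pl ((φ : Hom 𝔛 𝔜).app k) (𝔐.F k) (hle k) (mtrans hY 𝔐.F 𝔐.toPush V k m) := by
  rw [mtrans_eq, mtrans_eq]
  have hX' := 𝔛.lvU_le hX k W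
  have e1 : ∀ {S : Sys.{u}} (hS : S.IsFormal) (𝔓 : ModSys S) (U : (S.X 0).Opens)
      (y : Γ(𝔓.F (k + 1), S.lvU hS (k + 1) U)),
      (𝔓.F k).presheaf.map (homOfLE (S.lvU_le hS k U)).op
        ((𝔓.e k).hom.app _ (unitApp (S.ι k) (𝔓.F (k + 1)) (S.lvU hS (k + 1) U) y)) =
      (𝔓.e k).hom.app (S.lvU hS k U) (pl (S.ι k) (𝔓.F (k + 1)) (S.lvU_le hS k U) y) :=
    fun hS 𝔓 U y => (PresheafOfModules.naturality_apply (𝔓.e k).hom.val (homOfLE (Sys.lvU_le _ hS k U)).op _).symm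
  rw [e1 hX, e1 hY]
  refine Eq.trans ?_ (pl_naturality (f := (φ : Hom 𝔛 𝔜).app k) (𝔐.e k).hom (hle k)
    (pl (𝔜.ι k) (𝔐.F (k + 1)) (𝔜.lvU_le hY k V) m))
  rw [ModSys.pullback_e, Iso.trans_hom, Functor.mapIso_hom, Scheme.Modules.Hom.comp_app]
  refine congrArg (fun y => ((Scheme.Modules.pullback ((φ : Hom 𝔛 𝔜).app k)).map (𝔐.e k).hom).app _ y) ?_
  exact pullTrans_pl φ k (𝔐.F (k + 1)) (hle (k + 1)) hX' (𝔜.lvU_le hY k V) (hle k) m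

variable (hX : 𝔛.IsFormal) (hY : 𝔜.IsFormal) (𝔐 : ModSys 𝔜)

/-- The component at a level of the comparison into the direct image. -/
def pullCmpApp (k : ℕ) : 𝔐.realMod hY ⟶
    (pushF φ hX hY).obj ((levelMor 𝔛 hX k).push.obj ((ModSys.pullback φ 𝔐).F k)) :=
  realProj 𝔜 hY 𝔐.F 𝔐.toPush k ≫
    (levelMor 𝔜 hY k).push.map
      ((ModSite.RMor.ofScheme ((φ : Hom 𝔛 𝔜).app k)).adj.unit.app (𝔐.F k)) ≫
    (lvPushSq φ hX hY k).inv.app ((ModSys.pullback φ 𝔐).F k)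

theorem pullCmpApp_apply (k : ℕ) {U : (𝔜.X 0).Opens} (s : MSec 𝔐 hY U) :
    SiteMod.ofPush (levelMor 𝔛 hX k) _ (SiteMod.ofPush (homMor φ hX hY) _ (ap (pullCmpApp φ hX hY 𝔐 k) s)) =
      pl ((φ : Hom 𝔛 𝔜).app k) (𝔐.F k) (Hom.lvU_preimage φ hX hY k U).ge
        (mproj hY 𝔐.F 𝔐.toPush U k s) := rfl

theorem pullCmpApp_compat (k : ℕ) :
    pullCmpApp φ hX hY 𝔐 (k + 1) ≫ (pushF φ hX hY).map
        ((levelMor 𝔛 hX (k + 1)).push.map ((ModSys.pullback φ 𝔐).toPush k) ≫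
          (pushCompare 𝔛 hX k).app ((ModSys.pullback φ 𝔐).F k)) =
      pullCmpApp φ hX hY 𝔐 k := by
  apply Mod48.fgt.map_injective
  refine PresheafOfModules.hom_ext fun U => ?_
  ext s
  have h1 := mtrans_pl φ 𝔐 (hX := hX) (hY := hY) (V := U.unop)
    (W := (φ : Hom 𝔛 𝔜).app 0 ⁻¹ᵁ U.unop) k (fun j => (Hom.lvU_preimage φ hX hY j U.unop).ge)
    (mproj hY 𝔐.F 𝔐.toPush U.unop (k + 1) s)
  rw [mproj_succ] at h1
  exact h1

/-- The comparison into the direct image. -/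
def pullCmp : 𝔐.realMod hY ⟶ (pushF φ hX hY).obj ((ModSys.pullback φ 𝔐).realMod hX) :=
  haveI : PreservesLimitsOfSize.{0, 0} (pushF φ hX hY) := (homMor φ hX hY).adj.rightAdjoint_preservesLimits
  (isLimitOfPreserves (pushF φ hX hY)
    (limit.isLimit (levelSysOf 𝔛 hX (ModSys.pullback φ 𝔐).F (ModSys.pullback φ 𝔐).toPush))).lift
    ⟨𝔐.realMod hY, NatTrans.ofOpSequence (pullCmpApp φ hX hY 𝔐) fun k => by
      simp only [Functor.const_obj_obj, Functor.const_obj_map, Category.id_comp, Functor.comp_obj,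
        Functor.comp_map]
      rw [levelSysOf_map_succ]
      exact (pullCmpApp_compat φ hX hY 𝔐 k).symm⟩

theorem pullCmp_proj (k : ℕ) :
    pullCmp φ hX hY 𝔐 ≫ (pushF φ hX hY).map
        (realProj 𝔛 hX (ModSys.pullback φ 𝔐).F (ModSys.pullback φ 𝔐).toPush k) =
      pullCmpApp φ hX hY 𝔐 k :=
  haveI : PreservesLimitsOfSize.{0, 0} (pushF φ hX hY) := (homMor φ hX hY).adj.rightAdjoint_preservesLimits
  (isLimitOfPreserves (pushF φ hX hY)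
    (limit.isLimit (levelSysOf 𝔛 hX (ModSys.pullback φ 𝔐).F (ModSys.pullback φ 𝔐).toPush))).fac _ (op k)

theorem exists_pullF_realMod_iso (h𝔛 : 𝔛.IsLocNoethFormal) (h𝔜 : 𝔜.IsLocNoethFormal) (h𝔐 : 𝔐.IsCoh) :
    ∃ e : (pullF φ h𝔛.1 h𝔜.1).obj (𝔐.realMod h𝔜.1) ≅ (ModSys.pullback φ 𝔐).realMod h𝔛.1,
      ∀ k : ℕ, (homMor φ h𝔛.1 h𝔜.1).adj.homEquiv _ _ e.hom ≫
          (pushF φ h𝔛.1 h𝔜.1).map (realProj 𝔛 h𝔛.1 _ _ k) ≫
          (lvPushSq φ h𝔛.1 h𝔜.1 k).hom.app ((ModSys.pullback φ 𝔐).F k) =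
        realProj 𝔜 h𝔜.1 _ _ k ≫
          (levelMor 𝔜 h𝔜.1 k).push.map
            ((ModSite.RMor.ofScheme ((φ : Hom 𝔛 𝔜).app k)).adj.unit.app (𝔐.F k)) := by
  let θ : (pullF φ h𝔛.1 h𝔜.1).obj (𝔐.realMod h𝔜.1) ⟶ (ModSys.pullback φ 𝔐).realMod h𝔛.1 :=
    ((homMor φ h𝔛.1 h𝔜.1).adj.homEquiv _ _).symm (pullCmp φ h𝔛.1 h𝔜.1 𝔐)
  have hθ : ∀ k : ℕ, (homMor φ h𝔛.1 h𝔜.1).adj.homEquiv _ _ θ ≫
      (pushF φ h𝔛.1 h𝔜.1).map (realProj 𝔛 h𝔛.1 _ _ k) ≫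
      (lvPushSq φ h𝔛.1 h𝔜.1 k).hom.app ((ModSys.pullback φ 𝔐).F k) =
      realProj 𝔜 h𝔜.1 _ _ k ≫
        (levelMor 𝔜 h𝔜.1 k).push.map
          ((ModSite.RMor.ofScheme ((φ : Hom 𝔛 𝔜).app k)).adj.unit.app (𝔐.F k)) := fun k => by
    rw [Equiv.apply_symm_apply]
    refine ((Category.assoc _ _ _).symm.trans (congrArg (· ≫ _) (pullCmp_proj φ h𝔛.1 h𝔜.1 𝔐 k))).trans ?_
    exact (Category.assoc _ _ _).trans (congrArg (realProj 𝔜 h𝔜.1 _ _ k ≫ ·)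
      ((Category.assoc _ _ _).trans ((congrArg ((levelMor 𝔜 h𝔜.1 k).push.map
        ((ModSite.RMor.ofScheme ((φ : Hom 𝔛 𝔜).app k)).adj.unit.app (𝔐.F k)) ≫ ·)
        ((lvPushSq φ h𝔛.1 h𝔜.1 k).inv_hom_id_app ((ModSys.pullback φ 𝔐).F k))).trans (Category.comp_id _))))
  have := isCohF_realMod h𝔜 𝔐 h𝔐
  have hfp : SheafOfModules.IsFinitePresentation.{u, u, u} (R := ModSite.ringSh (𝔛.Osh h𝔛.1))
      ((homMor φ h𝔛.1 h𝔜.1).pull.obj (𝔐.realMod h𝔜.1)) := by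
    obtain ⟨q, hq⟩ := SheafOfModules.IsFinitePresentation.exists_quasicoherentData (𝔐.realMod h𝔜.1)
    exact { exists_quasicoherentData := ⟨Mod48.pullQC _ _ q, Mod48.isFinitePresentation_pullQC _ _ q⟩ }
  have : IsIso θ := by
    refine isIso_of_levels h𝔛 _ _ θ fun k => ?_
    let L := levelMor 𝔛 h𝔛.1 k
    let L' := levelMor 𝔜 h𝔜.1 k
    let F := homMor φ h𝔛.1 h𝔜.1
    let g := ModSite.RMor.ofScheme ((φ : Hom 𝔛 𝔜).app k)
    let A1 := (F.adj.comp L.adj).ofNatIsoRight (lvPushSq φ h𝔛.1 h𝔜.1 k)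
    let A2 := L'.adj.comp g.adj
    have hc' := isIso_pull_realMod h𝔜 𝔐 h𝔐 k
    set c' := (L'.adj.homEquiv _ _).symm (realProj 𝔜 h𝔜.1 𝔐.F 𝔐.toPush k) with hc'def
    have : IsIso c' := hc'
    suffices e : (L.adj.homEquiv _ _).symm (θ ≫ realProj 𝔛 h𝔛.1 _ _ k) =
        (Adjunction.leftAdjointUniq A1 A2).hom.app (𝔐.realMod h𝔜.1) ≫ g.pull.map c' by
      rw [e]
      exact @IsIso.comp_isIso _ _ _ _ _ _ _ inferInstance (g.pull.map_isIso c')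
    apply (A1.homEquiv _ _).injective
    refine Eq.trans ?_ (Adjunction.homEquiv_naturality_right A1 _ _).symm
    rw [Adjunction.homEquiv_leftAdjointUniq_hom_app, ← Adjunction.homEquiv_unit]
    simp only [A1, A2, Adjunction.homEquiv_ofNatIsoRight_apply, Adjunction.comp_homEquiv]
    change F.adj.homEquiv _ _ (L.adj.homEquiv _ _ ((L.adj.homEquiv _ _).symm (θ ≫ realProj 𝔛 h𝔛.1 _ _ k))) ≫ _ =
      L'.adj.homEquiv _ _ (g.adj.homEquiv _ _ (g.pull.map c'))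
    rw [Equiv.apply_symm_apply, Adjunction.homEquiv_naturality_right]
    refine ((Category.assoc _ _ _).trans (hθ k)).trans ?_
    refine Eq.trans ?_ (congrArg (L'.adj.homEquiv _ _) ((Adjunction.homEquiv_unit ..).trans
      (g.adj.unit.naturality c').symm)).symm
    rw [Adjunction.homEquiv_naturality_right, hc'def]
    exact congrArg (· ≫ _) (Equiv.apply_symm_apply _ _).symm
  exact ⟨asIso θ, hθ⟩

end Groth.Agent.FCompl13
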