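import Groth.Agent.FCompl13.FinBc
import Groth.Agent.FCompl13.FormalPull
import Groth.Agent.FCompl13.ComplFull
import Groth.Agent.QC70.PushFinite
import Groth.Prelude.Def_FSch4

/-!
The direct image along a finite adic morphism of the module of a coherent system is the module of the
levelwise direct images.
-/

set_option autoImplicit false
set_option backward.isDefEq.respectTransparency false

noncomputable section

universe u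

open CategoryTheory CategoryTheory.Limits AlgebraicGeometry TopologicalSpace Opposite
open Groth.Agent.QC70

namespace Groth.Agent.FCompl13

open _root_.FSch
open SiteMod (ap)

variable {𝔛 𝔖 : Sys.{u}} (φ : 𝔛 ⟶ 𝔖) (hX : 𝔛.IsFormal) (hS : 𝔖.IsFormal) (hφ : IsAdicHom φ)
  [∀ n, IsFinite ((φ : Hom 𝔛 𝔖).app n)] (𝔐 : ModSys 𝔛) [∀ n, (𝔐.F n).IsQuasicoherent]

/-- The transition isomorphisms of the levelwise direct images. -/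
def pushE (n : ℕ) : (Scheme.Modules.pullback (𝔖.ι n)).obj
      ((Scheme.Modules.pushforward ((φ : Hom 𝔛 𝔖).app (n + 1))).obj (𝔐.F (n + 1))) ≅
    (Scheme.Modules.pushforward ((φ : Hom 𝔛 𝔖).app n)).obj (𝔐.F n) :=
  (exists_bc_iso _ _ _ _ (hφ n) (𝔐.F (n + 1))).choose ≪≫
    (Scheme.Modules.pushforward ((φ : Hom 𝔛 𝔖).app n)).mapIso (𝔐.e n)

/-- The system of the levelwise direct images. -/
def pushSys : ModSys 𝔖 where
  F n := (Scheme.Modules.pushforward ((φ : Hom 𝔛 𝔖).app n)).obj (𝔐.F n)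
  e n := pushE φ hφ 𝔐 n

theorem isCoh_pushSys [∀ n, IsLocallyNoetherian (𝔖.X n)] (h𝔐 : 𝔐.IsCoh) : (pushSys φ hφ 𝔐).IsCoh :=
  fun n => QC70.isCoh_pushforward_of_isFinite _ _ (h𝔐 n)

/-- Sections of a level of the direct image over the other description of the open. -/
abbrev toPushLv (k : ℕ) {U : (𝔖.X 0).Opens} (y : Γ(𝔐.F k, 𝔛.lvU hX k ((φ : Hom 𝔛 𝔖).app 0 ⁻¹ᵁ U))) :
    Γ((pushSys φ hφ 𝔐).F k, 𝔖.lvU hS k U) :=
  res (𝔐.F k) (Hom.lvU_preimage φ hX hS k U).le y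

theorem mtrans_pushSys (k : ℕ) {U : (𝔖.X 0).Opens}
    (y : Γ(𝔐.F (k + 1), 𝔛.lvU hX (k + 1) ((φ : Hom 𝔛 𝔖).app 0 ⁻¹ᵁ U))) :
    mtrans hS (pushSys φ hφ 𝔐).F (pushSys φ hφ 𝔐).toPush U k (toPushLv φ hX hS hφ 𝔐 (k + 1) y) =
      toPushLv φ hX hS hφ 𝔐 k (mtrans hX 𝔐.F 𝔐.toPush ((φ : Hom 𝔛 𝔖).app 0 ⁻¹ᵁ U) k y) := by
  rw [mtrans_eq_pl, mtrans_eq_pl]
  have hle : (φ : Hom 𝔛 𝔖).app k ⁻¹ᵁ 𝔖.lvU hS k U ≤
      𝔛.ι k ⁻¹ᵁ ((φ : Hom 𝔛 𝔖).app (k + 1) ⁻¹ᵁ 𝔖.lvU hS (k + 1) U) := by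
    rw [← Scheme.Hom.comp_preimage, (hφ k).w, Scheme.Hom.comp_preimage]
    exact Scheme.Hom.preimage_mono _ (𝔖.lvU_le hS k U)
  have hb := (exists_bc_iso _ _ _ _ (hφ k) (𝔐.F (k + 1))).choose_spec (𝔖.lvU hS (k + 1) U) (𝔖.lvU hS k U)
    (𝔖.lvU_le hS k U) hle (toPushLv φ hX hS hφ 𝔐 (k + 1) y)
  refine (congrArg (((Scheme.Modules.pushforward ((φ : Hom 𝔛 𝔖).app k)).map (𝔐.e k).hom).app (𝔖.lvU hS k U)) hb).trans ?_
  change (𝔐.e k).hom.app ((φ : Hom 𝔛 𝔖).app k ⁻¹ᵁ 𝔖.lvU hS k U) (pl (𝔛.ι k) (𝔐.F (k + 1)) hle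
    (res (𝔐.F (k + 1)) (Hom.lvU_preimage φ hX hS (k + 1) U).le y)) = res (𝔐.F k) _ _
  rw [← app_res, res_pl, pl_res]

/-- The component at a level of the comparison. -/
def pushCmpApp (k : ℕ) : (pushF φ hX hS).obj (𝔐.realMod hX) ⟶
    (levelMor 𝔖 hS k).push.obj ((pushSys φ hφ 𝔐).F k) :=
  (pushF φ hX hS).map (realProj 𝔛 hX 𝔐.F 𝔐.toPush k) ≫ (lvPushSq φ hX hS k).hom.app (𝔐.F k)

theorem pushCmpApp_apply (k : ℕ) {U : (𝔖.X 0).Opens} (t : MSec 𝔐 hX ((φ : Hom 𝔛 𝔖).app 0 ⁻¹ᵁ U)) :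
    ap (pushCmpApp φ hX hS hφ 𝔐 k) (W := U) t =
      toPushLv φ hX hS hφ 𝔐 k (mproj hX 𝔐.F 𝔐.toPush ((φ : Hom 𝔛 𝔖).app 0 ⁻¹ᵁ U) k t) :=
  congrArg (fun i => (𝔐.F k).presheaf.map i _) (Subsingleton.elim _ _)

theorem pushCmpApp_compat (k : ℕ) :
    pushCmpApp φ hX hS hφ 𝔐 (k + 1) ≫ ((levelMor 𝔖 hS (k + 1)).push.map ((pushSys φ hφ 𝔐).toPush k) ≫
      (pushCompare 𝔖 hS k).app ((pushSys φ hφ 𝔐).F k)) = pushCmpApp φ hX hS hφ 𝔐 k := by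
  apply Mod48.fgt.map_injective
  refine PresheafOfModules.hom_ext fun U => ?_
  ext t
  have h1 := mtrans_pushSys φ hX hS hφ 𝔐 k (mproj hX 𝔐.F 𝔐.toPush ((φ : Hom 𝔛 𝔖).app 0 ⁻¹ᵁ U.unop) (k + 1) t)
  rw [mproj_succ] at h1
  refine Eq.trans ?_ (pushCmpApp_apply φ hX hS hφ 𝔐 k (U := U.unop) t).symm
  refine Eq.trans ?_ h1
  exact congrArg (fun z => mtrans hS (pushSys φ hφ 𝔐).F (pushSys φ hφ 𝔐).toPush U.unop k z)
    (pushCmpApp_apply φ hX hS hφ 𝔐 (k + 1) (U := U.unop) t)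

/-- The comparison of direct images. -/
def pushCmp : (pushF φ hX hS).obj (𝔐.realMod hX) ⟶ (pushSys φ hφ 𝔐).realMod hS :=
  limit.lift (levelSysOf 𝔖 hS (pushSys φ hφ 𝔐).F (pushSys φ hφ 𝔐).toPush)
    ⟨_, NatTrans.ofOpSequence (pushCmpApp φ hX hS hφ 𝔐) fun k => by
      rw [levelSysOf_map_succ]
      exact (Category.id_comp _).trans (pushCmpApp_compat φ hX hS hφ 𝔐 k).symm⟩

theorem mproj_pushCmp (k : ℕ) {U : (𝔖.X 0).Opens} (t : MSec 𝔐 hX ((φ : Hom 𝔛 𝔖).app 0 ⁻¹ᵁ U)) :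
    mproj hS (pushSys φ hφ 𝔐).F (pushSys φ hφ 𝔐).toPush U k (ap (pushCmp φ hX hS hφ 𝔐) (W := U) t) =
      toPushLv φ hX hS hφ 𝔐 k (mproj hX 𝔐.F 𝔐.toPush ((φ : Hom 𝔛 𝔖).app 0 ⁻¹ᵁ U) k t) :=
  (congrArg (fun ψ => ap ψ (W := U) t)
    (limit.lift_π (C := ModF 𝔖 hS) _ (op k) : pushCmp φ hX hS hφ 𝔐 ≫
      realProj 𝔖 hS (pushSys φ hφ 𝔐).F (pushSys φ hφ 𝔐).toPush k = pushCmpApp φ hX hS hφ 𝔐 k)).trans
    (pushCmpApp_apply φ hX hS hφ 𝔐 k t)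

theorem isIso_pushCmp : IsIso (pushCmp φ hX hS hφ 𝔐) := by
  have hback : ∀ (k : ℕ) (U : (𝔖.X 0).Opens) (y : Γ((pushSys φ hφ 𝔐).F k, 𝔖.lvU hS k U)),
      toPushLv φ hX hS hφ 𝔐 k (res (𝔐.F k) (Hom.lvU_preimage φ hX hS k U).ge y) = y := fun k U y =>
    (res_res _ _ _).trans (res_self _)
  have hepi : Epi (pushCmp φ hX hS hφ 𝔐) := (SiteMod.epi_iff_locSurj _).2 fun U z => by
    obtain ⟨t, ht⟩ := exists_msec (h := hX) (G := 𝔐.F) (t := 𝔐.toPush) ((φ : Hom 𝔛 𝔖).app 0 ⁻¹ᵁ U)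
      (fun k => res (𝔐.F k) (Hom.lvU_preimage φ hX hS k U).ge
        (mproj hS (pushSys φ hφ 𝔐).F (pushSys φ hφ 𝔐).toPush U k z)) fun k => by
      have h1 := mtrans_pushSys φ hX hS hφ 𝔐 k (res (𝔐.F (k + 1)) (Hom.lvU_preimage φ hX hS (k + 1) U).ge
        (mproj hS (pushSys φ hφ 𝔐).F (pushSys φ hφ 𝔐).toPush U (k + 1) z))
      rw [hback, mproj_succ] at h1
      refine ((res_self _).symm.trans ?_)
      refine (res_res (Hom.lvU_preimage φ hX hS k U).le (Hom.lvU_preimage φ hX hS k U).ge _).symm.trans ?_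
      exact congrArg (res (𝔐.F k) (Hom.lvU_preimage φ hX hS k U).ge) h1.symm
    refine ⟨⊤, (Opens.grothendieckTopology _).top_mem U, fun V v _ =>
      ⟨Mod48.res (Mod48.pre ((pushF φ hX hS).obj (𝔐.realMod hX))) v.op t, ?_⟩⟩
    rw [← SiteMod.res_ap]
    refine congrArg (Mod48.res _ v.op) (msec_ext (h := hS) (G := (pushSys φ hφ 𝔐).F)
      (t := (pushSys φ hφ 𝔐).toPush) (U := U) (y := z) fun k => ?_)
    rw [mproj_pushCmp, ht, hback]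
  have hmono : Mono (pushCmp φ hX hS hφ 𝔐) := SiteMod.mono_of_ap_injective _ fun U t ht => by
    refine msec_ext (h := hX) (G := 𝔐.F) (t := 𝔐.toPush) (U := (φ : Hom 𝔛 𝔖).app 0 ⁻¹ᵁ U) fun k => ?_
    have h1 := mproj_pushCmp φ hX hS hφ 𝔐 k (U := U) t
    rw [ht, map_zero] at h1
    refine Eq.trans ?_ (map_zero _).symm
    refine (res_self _).symm.trans ((res_res (Hom.lvU_preimage φ hX hS k U).le
      (Hom.lvU_preimage φ hX hS k U).ge _).symm.trans ?_)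
    exact (congrArg (res (𝔐.F k) _) h1.symm).trans (res_zero _)
  exact isIso_of_mono_of_epi _

end Groth.Agent.FCompl13
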