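import Groth.Agent.SiteMod.FreeTop
import Groth.Agent.SiteMod.Colim
import Groth.Agent.SiteMod.OpensMod

/-!
Coordinates on free sheaves of modules over an arbitrary index set.
-/

set_option autoImplicit false
set_option backward.isDefEq.respectTransparency false

noncomputable section

universe u

open CategoryTheory Limits Opposite

namespace Groth.Agent.FCompl13

open Groth.Agent.SiteMod
open Groth.Agent.Mod48

variable {C : Type u} [SmallCategory C] {J : GrothendieckTopology C} {O : Sheaf J CommRingCat.{u}}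
  [HasWeakSheafify J AddCommGrpCat.{u}] [J.WEqualsLocallyBijective AddCommGrpCat.{u}] {I : Type u}

theorem ap_inF_smul (k : I) {W : C} (c : O.obj.obj (op W)) :
    ap (inF (O := O) k) (toU c) = c • ap (inF (O := O) k) (toU (1 : O.obj.obj (op W))) :=
  ap_unit_eq_smul _ c

theorem exists_local_sum_free {W : C} (y : (pre (freeM (O := O) I)).obj (op W)) :
    ∃ T ∈ J W, ∀ ⦃V : C⦄ (v : V ⟶ W), T v → ∃ (S : Finset I) (c : I → O.obj.obj (op V)),
      res (pre (freeM (O := O) I)) v.op y = ∑ k ∈ S, ap (inF (O := O) k) (toU (c k)) := by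
  classical
  obtain ⟨T, hT, hy⟩ := exists_local_sum (SheafOfModules.isColimitFreeCofan (R := ModSite.ringSh O) I) y
  refine ⟨T, hT, fun V v hv => ?_⟩
  obtain ⟨S, z, hz⟩ := hy v hv
  refine ⟨S.image Discrete.as, fun k => z ⟨k⟩, hz.trans ?_⟩
  rw [Finset.sum_image fun a _ b _ e => Discrete.ext e]
  rfl

theorem ap_coord_inF [DecidableEq I] (j k : I) {W : C} (c : O.obj.obj (op W)) :
    ofU (ap (coord (O := O) j) (ap (inF (O := O) k) (toU c))) = if k = j then c else 0 := by
  rw [← ap_comp, inF_coord]
  split_ifs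
  · rfl
  · rfl

theorem ap_coord_sum_inF [DecidableEq I] (j : I) {W : C} (S : Finset I) (c : I → O.obj.obj (op W)) :
    ofU (ap (coord (O := O) j) (∑ k ∈ S, ap (inF (O := O) k) (toU (c k)))) = if j ∈ S then c j else 0 := by
  refine (map_sum ((fgt.map (coord (O := O) j)).app (op W)).hom _ S).trans ?_
  exact (Finset.sum_congr rfl fun k _ => ap_coord_inF j k (c k)).trans (Finset.sum_ite_eq' S j c)

theorem eq_zero_of_coord [DecidableEq I] {W : C} (y : (pre (freeM (O := O) I)).obj (op W))
    (h : ∀ j, ofU (ap (coord (O := O) j) y) = 0) : y = 0 := by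
  obtain ⟨T, hT, hy⟩ := exists_local_sum_free y
  refine ext_of_sieve (X := op W) hT fun V v hv => ?_
  obtain ⟨S, c, e⟩ := hy v hv
  rw [SiteMod.res_zero]
  refine e.trans (Finset.sum_eq_zero fun k hk => ?_)
  have h1 := (congrArg (fun z => ofU (ap (coord (O := O) k) z)) e).trans (ap_coord_sum_inF k S c)
  rw [if_pos hk] at h1
  rw [← h1, ← res_ap, show ap (coord (O := O) k) y = 0 from h k, SiteMod.res_zero]
  exact map_zero ((fgt.map (inF (O := O) k)).app (op V)).hom

end Groth.Agent.FCompl13
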