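import Groth.Agent.FCompl13.CohReal
import Groth.Agent.FCompl13.AffSys

/-!
A finitely presented module on a formal scheme with a basis of complete affine opens is the module of
the system of its inverse images to the levels.  No Noetherian hypothesis.
-/

set_option autoImplicit false
set_option backward.isDefEq.respectTransparency false

noncomputable section

universe u

open CategoryTheory CategoryTheory.Limits AlgebraicGeometry TopologicalSpace Opposite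

namespace Groth.Agent.FCompl13

open _root_.FSch
open SiteMod (ap)

variable {𝔛 : Sys.{u}} (h : 𝔛.IsFormal)

/-- An affine open whose finite modules of sections are complete. -/
structure GoodOpen (U : (𝔛.X 0).Opens) : Prop where
  aff : IsAffineOpen U
  surj : ∀ n, Function.Surjective (FBlow13.proj 𝔛 h U n)
  ker : ∀ n, RingHom.ker (FBlow13.proj 𝔛 h U n).hom = secIdeal 𝔛 h U ^ (n + 1)
  complete : ∀ (Q : Type u) [AddCommGroup Q] [Module (FBlow13.Sec 𝔛 h U) Q]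
    [Module.Finite (FBlow13.Sec 𝔛 h U) Q], IsAdicComplete (secIdeal 𝔛 h U) Q

variable {h} (𝔊 : ModF 𝔛 h) [𝔊.IsFinitePresentation]
  {U : (𝔛.X 0).Opens} (hU : GoodOpen h U) (d : SiteMod.LocPres (Mod48.pre 𝔊) U)

/-- The relations of a presentation. -/
def relMod : Submodule (FBlow13.Sec 𝔛 h U) (d.ι → FBlow13.Sec 𝔛 h U) :=
  Submodule.span _ (Set.range fun t i => d.r t i)

/-- Combinations of the generators of a presentation. -/
def combReal : (d.ι → FBlow13.Sec 𝔛 h U) →ₗ[FBlow13.Sec 𝔛 h U] MSec (sysOf h 𝔊) h U :=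
  Fintype.linearCombination (FBlow13.Sec 𝔛 h U) fun i => toRealSec h 𝔊 (d.a i)

theorem combReal_apply (c : d.ι → FBlow13.Sec 𝔛 h U) :
    combReal 𝔊 d c = ∑ i, c i • toRealSec h 𝔊 (d.a i) :=
  Fintype.linearCombination_apply _ _ _

theorem combReal_relMod {c : d.ι → FBlow13.Sec 𝔛 h U} (hc : c ∈ relMod 𝔊 d) : combReal 𝔊 d c = 0 := by
  refine (Submodule.span_le (p := LinearMap.ker (combReal 𝔊 d))).2 ?_ hc
  rintro _ ⟨t, rfl⟩
  refine LinearMap.mem_ker.2 ((combReal_apply 𝔊 d _).trans ?_)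
  refine (SiteMod.ap_lincomb (O := 𝔛.Osh h) (toReal h 𝔊) (d.r t) d.a).symm.trans ?_
  rw [d.rel t]
  exact map_zero ((Mod48.fgt.map (toReal h 𝔊)).app _).hom

include hU in
theorem exists_level_comb (x : MSec (sysOf h 𝔊) h U) (n : ℕ) :
    ∃ c : d.ι → FBlow13.Sec 𝔛 h U, mproj h _ _ U n (combReal 𝔊 d c) = mproj h _ _ U n x := by
  have := (isCoh_sysOf h 𝔊 n).1
  let g : d.ι → Γ((sysOf h 𝔊).F n, 𝔛.lvU h n U) := fun i => pullSect (𝔛.OshProj h n) (d.a i)
  have hz : mproj h _ _ U n x ∈ Submodule.span Γ(𝔛.X n, 𝔛.lvU h n U) (Set.range g) := by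
    refine mem_span_of_near _ (FBlow13.isAffineOpen_lvU (h := h) hU.aff n) g _ fun z hz => ?_
    obtain ⟨S, hS, hc⟩ := (pullPres (𝔛.OshProj h n) d).gen _ (𝟙 _) (mproj h _ _ U n x)
    obtain ⟨W, v, hv, hzW⟩ := hS z hz
    obtain ⟨e, he⟩ := hc v hv
    exact ⟨W, leOfHom v, hzW, (Submodule.mem_span_range_iff_exists_fun _).2 ⟨e, he.symm⟩⟩
  obtain ⟨e, he⟩ := (Submodule.mem_span_range_iff_exists_fun _).1 hz
  choose ε hε using fun i => hU.surj n (e i)
  refine ⟨ε, ?_⟩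
  rw [combReal_apply, map_sum, ← he]
  refine Finset.sum_congr rfl fun i _ => ?_
  rw [mproj_smul, hε, mproj_toReal]

include hU in
theorem mem_of_level_comb (c : d.ι → FBlow13.Sec 𝔛 h U) (n : ℕ)
    (hc : mproj h _ _ U n (combReal 𝔊 d c) = 0) :
    c ∈ relMod 𝔊 d ⊔ secIdeal 𝔛 h U ^ (n + 1) • ⊤ := by
  classical
  let rk : d.κ → d.ι → Γ(𝔛.X n, 𝔛.lvU h n U) := fun t i => FBlow13.proj 𝔛 h U n (d.r t i)
  let ck : d.ι → Γ(𝔛.X n, 𝔛.lvU h n U) := fun i => FBlow13.proj 𝔛 h U n (c i)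
  have hck : ck ∈ Submodule.span Γ(𝔛.X n, 𝔛.lvU h n U) (Set.range rk) := by
    refine mem_span_vec_of_near (FBlow13.isAffineOpen_lvU (h := h) hU.aff n) rk ck fun z hz => ?_
    obtain ⟨S, hS, hd⟩ := (pullPres (𝔛.OshProj h n) d).kerr _ (𝟙 _) ck (by
      rw [combReal_apply] at hc
      refine Eq.trans (Finset.sum_congr rfl fun i _ => ?_) ((map_sum (mproj h (sysOf h 𝔊).F (sysOf h 𝔊).toPush U n) _ _).symm.trans hc)
      rw [mproj_smul, mproj_toReal]
      exact congrArg (ck i • ·) (congr($((Mod48.pre _).map_id (op (𝔛.lvU h n U)))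
        (pullSect (𝔛.OshProj h n) (d.a i)))))
    obtain ⟨W, v, hv, hzW⟩ := hS z hz
    obtain ⟨e, he⟩ := hd v hv
    refine ⟨W, leOfHom v, hzW, (Submodule.mem_span_range_iff_exists_fun _).2 ⟨e, funext fun i => ?_⟩⟩
    rw [Finset.sum_apply]
    exact (he i).symm
  obtain ⟨e, he⟩ := (Submodule.mem_span_range_iff_exists_fun _).1 hck
  choose ε hε using fun t => hU.surj n (e t)
  refine Submodule.mem_sup.2 ⟨∑ t, ε t • (fun i => d.r t i),
    Submodule.sum_mem _ fun t _ => Submodule.smul_mem _ _ (Submodule.subset_span ⟨t, rfl⟩),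
    c - ∑ t, ε t • (fun i => d.r t i), mem_pow_smul_pi _ _ fun i => ?_, add_sub_cancel _ _⟩
  rw [← hU.ker n, RingHom.mem_ker]
  have hi := congrFun he i
  simp only [Finset.sum_apply, Pi.smul_apply, smul_eq_mul, rk, ck] at hi
  simp only [Pi.sub_apply, Finset.sum_apply, Pi.smul_apply, smul_eq_mul, map_sub, map_sum, map_mul, hε]
  exact sub_eq_zero.2 hi.symm

include hU in
theorem combReal_mem (n : ℕ) {c : d.ι → FBlow13.Sec 𝔛 h U}
    (hc : c ∈ relMod 𝔊 d ⊔ secIdeal 𝔛 h U ^ (n + 1) • ⊤) : mproj h _ _ U n (combReal 𝔊 d c) = 0 := by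
  obtain ⟨a, ha, b, hb, rfl⟩ := Submodule.mem_sup.1 hc
  rw [map_add, map_add, combReal_relMod 𝔊 d ha, map_zero, zero_add]
  refine Submodule.smul_induction_on (p := fun t => mproj h _ _ U n (combReal 𝔊 d t) = 0) hb (fun s hs y _ => ?_)
    (fun a b ha hb => by rw [map_add, map_add, ha, hb, add_zero])
  rw [map_smul, mproj_smul, show FBlow13.proj 𝔛 h U n s = 0 from RingHom.mem_ker.1 ((hU.ker n).ge hs), zero_smul]

omit [𝔊.IsFinitePresentation] in
theorem mk_mem_smul {c : d.ι → FBlow13.Sec 𝔛 h U} (K : Ideal (FBlow13.Sec 𝔛 h U))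
    (hc : c ∈ relMod 𝔊 d ⊔ K • ⊤) :
    Submodule.Quotient.mk c ∈ K • (⊤ : Submodule (FBlow13.Sec 𝔛 h U) (_ ⧸ relMod 𝔊 d)) := by
  have h1 := Submodule.mem_map_of_mem (f := (relMod 𝔊 d).mkQ) hc
  rwa [Submodule.map_sup, Submodule.mkQ_map_self, bot_sup_eq, Submodule.map_smul'', Submodule.map_top,
    Submodule.range_mkQ] at h1

omit [𝔊.IsFinitePresentation] in
theorem mem_of_mk_mem_smul {c : d.ι → FBlow13.Sec 𝔛 h U} (K : Ideal (FBlow13.Sec 𝔛 h U))
    (hc : Submodule.Quotient.mk c ∈ K • (⊤ : Submodule (FBlow13.Sec 𝔛 h U) (_ ⧸ relMod 𝔊 d))) :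
    c ∈ relMod 𝔊 d ⊔ K • ⊤ := by
  have h1 : (relMod 𝔊 d).mkQ c ∈ Submodule.map (relMod 𝔊 d).mkQ (K • ⊤) := by
    rwa [Submodule.map_smul'', Submodule.map_top, Submodule.range_mkQ]
  obtain ⟨b, hb, e⟩ := h1
  exact Submodule.mem_sup.2 ⟨c - b, (Submodule.Quotient.eq _).1 e.symm, b, hb, sub_add_cancel _ _⟩

include hU in
theorem combReal_surjective : Function.Surjective (combReal 𝔊 d) := fun x => by
  choose c hc using exists_level_comb 𝔊 hU d x
  have := hU.complete ((d.ι → FBlow13.Sec 𝔛 h U) ⧸ relMod 𝔊 d)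
  obtain ⟨L, hL⟩ := exists_limit_seq (secIdeal 𝔛 h U)
    (fun n => (Submodule.Quotient.mk (c n) : (d.ι → FBlow13.Sec 𝔛 h U) ⧸ relMod 𝔊 d)) fun n => by
      rw [← Submodule.Quotient.mk_sub]
      refine mk_mem_smul 𝔊 d _ (mem_of_level_comb 𝔊 hU d _ n ?_)
      rw [map_sub, map_sub, sub_eq_zero, hc n, ← mproj_succ U n x, ← hc (n + 1), mproj_succ]
  obtain ⟨l, rfl⟩ := Submodule.Quotient.mk_surjective _ L
  refine ⟨l, msec_ext fun n => ?_⟩
  have h0 := hL n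
  rw [← Submodule.Quotient.mk_sub] at h0
  have h1 := combReal_mem 𝔊 hU d n (mem_of_mk_mem_smul 𝔊 d _ h0)
  rw [map_sub, map_sub, sub_eq_zero] at h1
  exact h1.trans (hc n)

include hU in
theorem mem_relMod_of_comb (c : d.ι → FBlow13.Sec 𝔛 h U) (hc : combReal 𝔊 d c = 0) : c ∈ relMod 𝔊 d := by
  have := hU.complete ((d.ι → FBlow13.Sec 𝔛 h U) ⧸ relMod 𝔊 d)
  rw [← Submodule.Quotient.mk_eq_zero]
  refine IsHausdorff.haus (inferInstance : IsHausdorff (secIdeal 𝔛 h U) _) _ fun n => ?_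
  rw [SModEq.zero]
  refine Submodule.smul_mono_left (Ideal.pow_le_pow_right n.le_succ) (mk_mem_smul 𝔊 d _ ?_)
  exact mem_of_level_comb 𝔊 hU d c n (by rw [hc, map_zero])

variable (hB : ∀ {W : (𝔛.X 0).Opens} {x : 𝔛.X 0}, x ∈ W →
    ∃ U : (𝔛.X 0).Opens, GoodOpen h U ∧ x ∈ U ∧ U ≤ W)

include hB in
theorem exists_good_locPres {W : (𝔛.X 0).Opens} {x : 𝔛.X 0} (hx : x ∈ W) :
    ∃ (V : (𝔛.X 0).Opens), GoodOpen h V ∧ x ∈ V ∧ V ≤ W ∧ Nonempty (SiteMod.LocPres (Mod48.pre 𝔊) V) := by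
  obtain ⟨Y, -, hxY, hYW, ⟨d⟩⟩ := exists_affine_locPres 𝔊 hx
  obtain ⟨V, hV, hxV, hVY⟩ := hB hxY
  exact ⟨V, hV, hxV, le_trans hVY hYW, ⟨d.pullback (homOfLE hVY)⟩⟩

include hB in
theorem epi_toReal_good : Epi (toReal h 𝔊) := by
  refine (SiteMod.epi_iff_locSurj _).2 fun W x => ?_
  let S : Sieve W :=
    { arrows := fun V v => ∃ y : (Mod48.pre 𝔊).obj (op V),
        ap (toReal h 𝔊) y = Mod48.res (Mod48.pre ((sysOf h 𝔊).realMod h)) v.op x
      downward_closed := by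
        rintro V V' v ⟨y, hy⟩ w
        exact ⟨Mod48.res _ w.op y, by rw [← SiteMod.res_ap, hy, Mod48.res_res, ← op_comp]⟩ }
  refine ⟨S, fun z hz => ?_, fun V v hv => hv⟩
  obtain ⟨V, hV, hzV, hVW, ⟨d⟩⟩ := exists_good_locPres 𝔊 hB hz
  obtain ⟨c, hc⟩ := combReal_surjective 𝔊 hV d
    (show MSec (sysOf h 𝔊) h V from Mod48.res (Mod48.pre ((sysOf h 𝔊).realMod h)) (homOfLE hVW).op x)
  rw [combReal_apply] at hc
  exact ⟨V, homOfLE hVW, ⟨∑ i, c i • d.a i,
    (SiteMod.ap_lincomb (O := 𝔛.Osh h) (toReal h 𝔊) c d.a).trans hc⟩, hzV⟩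

include hB in
theorem mono_toReal_good : Mono (toReal h 𝔊) := by
  refine SiteMod.mono_of_ap_injective _ fun W z hz => ?_
  let S : Sieve W :=
    { arrows := fun V v => Mod48.res (Mod48.pre 𝔊) v.op z = 0
      downward_closed := by
        intro V V' v hv w
        rw [op_comp, ← Mod48.res_res, hv, SiteMod.res_zero] }
  refine SiteMod.eq_zero_of_locally (S := S) (fun x hx => ?_) fun V v hv => hv
  obtain ⟨U, hU, hxU, hUW, ⟨d⟩⟩ := exists_good_locPres 𝔊 hB hx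
  obtain ⟨T, hT, hc⟩ := d.gen U (𝟙 U) (Mod48.res (Mod48.pre 𝔊) (homOfLE hUW).op z)
  obtain ⟨Y, p, hp, hxY⟩ := hT x hxU
  obtain ⟨c, hc⟩ := hc p hp
  obtain ⟨V, hV, hxV, hVY⟩ := hB hxY
  let q : V ⟶ Y := homOfLE hVY
  let d' := d.pullback (q ≫ p)
  let c' : d'.ι → FBlow13.Sec 𝔛 h V := fun i => SiteMod.rres (O := 𝔛.Osh h) q.op (c i)
  have hzV : Mod48.res (Mod48.pre 𝔊) (homOfLE (le_trans hVY ((leOfHom p).trans hUW))).op z =
      ∑ i, c' i • d'.a i := by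
    have h1 := congrArg (Mod48.res (Mod48.pre 𝔊) q.op) hc
    rw [SiteMod.res_lincomb, Mod48.res_res, Mod48.res_res] at h1
    refine (congrArg (fun t => Mod48.res (Mod48.pre 𝔊) t z) (Subsingleton.elim _ _)).trans
      (h1.trans (Finset.sum_congr rfl fun i _ => congrArg (c' i • ·) ?_))
    change _ = Mod48.res (Mod48.pre 𝔊) (q ≫ p).op (d.a i)
    rw [Mod48.res_res]
    exact congrArg (fun t => Mod48.res (Mod48.pre 𝔊) t (d.a i)) (Subsingleton.elim _ _)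
  refine ⟨V, homOfLE (le_trans hVY ((leOfHom p).trans hUW)), ?_, hxV⟩
  change Mod48.res (Mod48.pre 𝔊) _ z = 0
  refine hzV.trans ?_
  have hrel : combReal 𝔊 d' c' = 0 :=
    (combReal_apply 𝔊 d' c').trans ((SiteMod.ap_lincomb (O := 𝔛.Osh h) (toReal h 𝔊) c' d'.a).symm.trans
      ((congrArg (ap (toReal h 𝔊)) hzV.symm).trans
        ((SiteMod.res_ap (toReal h 𝔊) _ z).symm.trans (by rw [hz, SiteMod.res_zero]))))
  obtain ⟨e, he⟩ := (Submodule.mem_span_range_iff_exists_fun _).1 (mem_relMod_of_comb 𝔊 hV d' c' hrel)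
  rw [← he]
  simp only [Finset.sum_apply, Pi.smul_apply, smul_eq_mul, Finset.sum_smul, mul_smul]
  rw [Finset.sum_comm]
  refine Finset.sum_eq_zero fun t _ => ?_
  rw [← Finset.smul_sum, d'.rel t, smul_zero]

include hB in
theorem isIso_toReal_good : IsIso (toReal h 𝔊) := by
  have := epi_toReal_good 𝔊 hB
  have := mono_toReal_good 𝔊 hB
  exact isIso_of_mono_of_epi _

end Groth.Agent.FCompl13
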