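import Groth.Agent.FCompl13.GoodReal
import Groth.Agent.FCompl13.ComplSec
import Mathlib.RingTheory.AdicCompletion.Algebra

/-!
The ring of sections over an affine open is the completion of the ring of sections of the base.
-/

set_option autoImplicit false
set_option backward.isDefEq.respectTransparency false

noncomputable section

universe u

open CategoryTheory CategoryTheory.Limits AlgebraicGeometry TopologicalSpace Opposite

namespace Groth.Agent.FCompl13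

open _root_.FSch

variable {𝔛 : Sys.{u}} (h : 𝔛.IsFormal) {Y : Scheme.{u}} (p : ∀ n, 𝔛.X n ⟶ Y)
  (hp : ∀ n, 𝔛.ι n ≫ p (n + 1) = p n) [∀ n, IsClosedImmersion (p n)] {V : Y.Opens} (hV : IsAffineOpen V)
  (I : Y.IdealSheafData) (hker : ∀ n, (p n).ker = I ^ (n + 1))

include hp in
theorem appLE_ι_p (n : ℕ) (b : Γ(Y, V)) :
    (𝔛.ι n).appLE (𝔛.lvU h (n + 1) (p 0 ⁻¹ᵁ V)) (𝔛.lvU h n (p 0 ⁻¹ᵁ V)) (𝔛.lvU_le h n _)
        ((p (n + 1)).appLE V (𝔛.lvU h (n + 1) (p 0 ⁻¹ᵁ V)) (lvU_p 𝔛 h p hp (n + 1) V).ge b) =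
      (p n).appLE V (𝔛.lvU h n (p 0 ⁻¹ᵁ V)) (lvU_p 𝔛 h p hp n V).ge b := by
  rw [← proj_sg h p hp (n + 1) b, ← proj_sg h p hp n b]
  exact FBlow13.proj_succ_apply _ n _

include hker hV in
theorem ker_appLE_p (n : ℕ) :
    RingHom.ker ((p n).appLE V (𝔛.lvU h n (p 0 ⁻¹ᵁ V)) (lvU_p 𝔛 h p hp n V).ge).hom =
      I.ideal ⟨V, hV⟩ ^ (n + 1) := by
  rw [(FBlow13.appLE_of_eq (p n) (lvU_p 𝔛 h p hp n V).symm (lvU_p 𝔛 h p hp n V).ge).2,
    ← Scheme.Hom.ker_apply (p n) ⟨V, hV⟩, hker n, Scheme.IdealSheafData.ideal_pow]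
  rfl

/-- A truncation as a section of a level. -/
def truncSec (n : ℕ) : Γ(Y, V) ⧸ I.ideal ⟨V, hV⟩ ^ (n + 1) →+* Γ(𝔛.X n, 𝔛.lvU h n (p 0 ⁻¹ᵁ V)) :=
  Ideal.Quotient.lift _ ((p n).appLE V (𝔛.lvU h n (p 0 ⁻¹ᵁ V)) (lvU_p 𝔛 h p hp n V).ge).hom
    fun a ha => RingHom.mem_ker.1 ((ker_appLE_p h p hp hV I hker n).ge ha)

theorem truncSec_bijective (n : ℕ) : Function.Bijective (truncSec h p hp hV I hker n) := by
  refine ⟨RingHom.lift_injective_of_ker_le_ideal _ _ (ker_appLE_p h p hp hV I hker n).le, fun y => ?_⟩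
  obtain ⟨s, hs⟩ := (FBlow13.appLE_of_eq (p n) (lvU_p 𝔛 h p hp n V).symm (lvU_p 𝔛 h p hp n V).ge).1 y
    ((p n).app_surjective V hV)
  exact ⟨Ideal.Quotient.mk _ s, hs⟩

theorem factor_evalₐ {A : Type*} [CommRing A] (K : Ideal A) {m n : ℕ} (hmn : m ≤ n) (x : AdicCompletion K A) :
    Ideal.Quotient.factor (Ideal.pow_le_pow_right hmn) (AdicCompletion.evalₐ K n x) =
      AdicCompletion.evalₐ K m x := by
  obtain ⟨c, rfl⟩ := AdicCompletion.mk_surjective K A x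
  rw [AdicCompletion.evalₐ_mk, AdicCompletion.evalₐ_mk, Ideal.Quotient.factor_mk, Ideal.Quotient.eq]
  have h0 := c.2 hmn
  rw [SModEq.sub_mem, smul_eq_mul, Ideal.mul_top] at h0
  rw [← neg_sub]
  exact neg_mem h0

theorem exists_complSec : ∃ l : AdicCompletion (I.ideal ⟨V, hV⟩) Γ(Y, V) →+* FBlow13.Sec 𝔛 h (p 0 ⁻¹ᵁ V),
    ∀ n x, FBlow13.proj 𝔛 h (p 0 ⁻¹ᵁ V) n (l x) =
      truncSec h p hp hV I hker n (AdicCompletion.evalₐ (I.ideal ⟨V, hV⟩) (n + 1) x) := by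
  obtain ⟨l, hl⟩ := FBlow13.exists_hom_sec (p 0 ⁻¹ᵁ V)
    (C := CommRingCat.of (AdicCompletion (I.ideal ⟨V, hV⟩) Γ(Y, V)))
    (fun n => CommRingCat.ofHom ((truncSec h p hp hV I hker n).comp
      (AdicCompletion.evalₐ (I.ideal ⟨V, hV⟩) (n + 1) : _ →+* _))) fun n => by
    ext x
    obtain ⟨b, hb⟩ := Ideal.Quotient.mk_surjective (AdicCompletion.evalₐ (I.ideal ⟨V, hV⟩) (n + 2) x)
    change (𝔛.ι n).appLE _ _ _ (truncSec h p hp hV I hker (n + 1) (AdicCompletion.evalₐ _ (n + 2) x)) =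
      truncSec h p hp hV I hker n (AdicCompletion.evalₐ _ (n + 1) x)
    rw [← factor_evalₐ _ (show n + 1 ≤ n + 2 by omega) x, ← hb]
    exact appLE_ι_p h p hp n b
  exact ⟨l.hom, fun n x => congr($(hl n) x)⟩

/-- From the completion to the ring of sections. -/
def complSec : AdicCompletion (I.ideal ⟨V, hV⟩) Γ(Y, V) →+* FBlow13.Sec 𝔛 h (p 0 ⁻¹ᵁ V) :=
  (exists_complSec h p hp hV I hker).choose

theorem proj_complSec (n : ℕ) (x : AdicCompletion (I.ideal ⟨V, hV⟩) Γ(Y, V)) :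
    FBlow13.proj 𝔛 h (p 0 ⁻¹ᵁ V) n (complSec h p hp hV I hker x) =
      truncSec h p hp hV I hker n (AdicCompletion.evalₐ (I.ideal ⟨V, hV⟩) (n + 1) x) :=
  (exists_complSec h p hp hV I hker).choose_spec n x

theorem complSec_bijective : Function.Bijective (complSec h p hp hV I hker) := by
  refine ⟨(injective_iff_map_eq_zero _).2 fun x hx => AdicCompletion.ext_evalₐ fun n => ?_, fun s => ?_⟩
  · cases n with
    | zero =>
      have : Subsingleton (Γ(Y, V) ⧸ I.ideal ⟨V, hV⟩ ^ 0) := by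
        rw [Ideal.Quotient.subsingleton_iff]; simp
      exact Subsingleton.elim _ _
    | succ n =>
      rw [map_zero]
      refine (truncSec_bijective h p hp hV I hker n).1 ?_
      rw [← proj_complSec, hx, map_zero, map_zero]
  · choose f hf using fun n => (truncSec_bijective h p hp hV I hker n).2 (FBlow13.proj 𝔛 h (p 0 ⁻¹ᵁ V) n s)
    choose g hg using fun n => Ideal.Quotient.mk_surjective (f n)
    have hc : ∀ n, g (n - 1) ≡ g (n + 1 - 1) [SMOD (I.ideal ⟨V, hV⟩ ^ n • ⊤ : Submodule Γ(Y, V) Γ(Y, V))] :=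
      fun n => by
      cases n with
      | zero => simp
      | succ n =>
        rw [SModEq.sub_mem, smul_eq_mul, Ideal.mul_top, ← Ideal.Quotient.eq]
        refine (truncSec_bijective h p hp hV I hker n).1 ?_
        refine ((congrArg _ (hg n)).trans (hf n)).trans ?_
        refine Eq.trans ?_ (appLE_ι_p h p hp n (g (n + 1)))
        refine (FBlow13.proj_succ_apply (p 0 ⁻¹ᵁ V) n s).symm.trans (congrArg _ ?_)
        exact (hf (n + 1)).symm.trans (congrArg (truncSec h p hp hV I hker (n + 1)) (hg (n + 1)).symm)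
    refine ⟨AdicCompletion.mk _ _ (AdicCompletion.AdicCauchySequence.mk _ _ (fun n => g (n - 1)) hc),
      FBlow13.sec_ext fun n => ?_⟩
    rw [proj_complSec, AdicCompletion.evalₐ_mk]
    exact (congrArg _ (hg n)).trans (hf n)

theorem ker_proj_complSec (hfg : (I.ideal ⟨V, hV⟩).FG) (n : ℕ) :
    RingHom.ker (FBlow13.proj 𝔛 h (p 0 ⁻¹ᵁ V) n).hom =
      (((I.ideal ⟨V, hV⟩).map (algebraMap Γ(Y, V) (AdicCompletion (I.ideal ⟨V, hV⟩) Γ(Y, V)))).map
        (complSec h p hp hV I hker)) ^ (n + 1) := by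
  let Φ := complSec h p hp hV I hker
  rw [← Ideal.map_pow, ← Ideal.map_comap_of_surjective Φ (complSec_bijective h p hp hV I hker).2
    (RingHom.ker (FBlow13.proj 𝔛 h (p 0 ⁻¹ᵁ V) n).hom), ← Ideal.map_pow]
  refine congrArg _ (Ideal.ext fun x => ?_)
  rw [Ideal.mem_comap, RingHom.mem_ker]
  change FBlow13.proj 𝔛 h (p 0 ⁻¹ᵁ V) n (Φ x) = 0 ↔ _
  rw [proj_complSec, map_eq_zero_iff _ (truncSec_bijective h p hp hV I hker n).1]
  have h1 : x ∈ (I.ideal ⟨V, hV⟩ ^ (n + 1) • ⊤ : Submodule Γ(Y, V) (AdicCompletion (I.ideal ⟨V, hV⟩) Γ(Y, V))) ↔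
      x ∈ (I.ideal ⟨V, hV⟩ ^ (n + 1)).map
        (algebraMap Γ(Y, V) (AdicCompletion (I.ideal ⟨V, hV⟩) Γ(Y, V))) := by
    rw [Ideal.smul_top_eq_map, Submodule.restrictScalars_mem]
  rw [← h1, AdicCompletion.pow_smul_top_eq_ker_eval hfg, LinearMap.mem_ker,
    ← AdicCompletion.factor_eval_eq_evalₐ (I.ideal ⟨V, hV⟩) x (le_of_eq (Ideal.mul_top _))]
  refine map_eq_zero_iff _ ((injective_iff_map_eq_zero _).2 fun y hy => ?_)
  obtain ⟨a, rfl⟩ := Submodule.Quotient.mk_surjective _ y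
  refine (Submodule.Quotient.mk_eq_zero _).2 ?_
  rw [smul_eq_mul, Ideal.mul_top]
  exact Ideal.Quotient.eq_zero_iff_mem.1 hy

include hp hker in
theorem goodOpen_of_complete (hfg : (I.ideal ⟨V, hV⟩).FG)
    (hC : ∀ (Q : Type u) [AddCommGroup Q] [Module (AdicCompletion (I.ideal ⟨V, hV⟩) Γ(Y, V)) Q]
      [Module.Finite (AdicCompletion (I.ideal ⟨V, hV⟩) Γ(Y, V)) Q],
      IsAdicComplete ((I.ideal ⟨V, hV⟩).map (algebraMap Γ(Y, V) (AdicCompletion (I.ideal ⟨V, hV⟩) Γ(Y, V)))) Q) :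
    GoodOpen h (p 0 ⁻¹ᵁ V) := by
  let C := AdicCompletion (I.ideal ⟨V, hV⟩) Γ(Y, V)
  let Φ := complSec h p hp hV I hker
  have hk := ker_proj_complSec h p hp hV I hker hfg
  have hJ : secIdeal 𝔛 h (p 0 ⁻¹ᵁ V) = ((I.ideal ⟨V, hV⟩).map (algebraMap Γ(Y, V) C)).map Φ := by
    rw [secIdeal, hk 0, zero_add, pow_one]
  refine ⟨hV.preimage (p 0), fun n y => ?_, fun n => by rw [hJ, hk n], fun Q _ _ _ => ?_⟩
  · obtain ⟨b, hb⟩ := (truncSec_bijective h p hp hV I hker n).2 y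
    obtain ⟨x, hx⟩ := AdicCompletion.surjective_evalₐ (I.ideal ⟨V, hV⟩) (n + 1) b
    exact ⟨Φ x, by rw [proj_complSec, hx, hb]⟩
  · letI : Algebra C (FBlow13.Sec 𝔛 h (p 0 ⁻¹ᵁ V)) := Φ.toAlgebra
    letI : Module C Q := Module.compHom Q Φ
    haveI : IsScalarTower C (FBlow13.Sec 𝔛 h (p 0 ⁻¹ᵁ V)) Q := IsScalarTower.of_algebraMap_smul fun _ _ => rfl
    haveI : Module.Finite C (FBlow13.Sec 𝔛 h (p 0 ⁻¹ᵁ V)) :=
      Module.Finite.of_surjective (Algebra.linearMap C _) (complSec_bijective h p hp hV I hker).2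
    haveI : Module.Finite C Q := Module.Finite.trans (FBlow13.Sec 𝔛 h (p 0 ⁻¹ᵁ V)) Q
    rw [hJ]
    exact (IsAdicComplete.map_algebraMap_iff _ _).2 (hC Q)

end Groth.Agent.FCompl13
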