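import Groth.Agent.FCompl13.IndExt
import Groth.Agent.SiteMod.HomTensor

/-!
The sheaf of homomorphisms from a coherent module to a quasi-coherent module.
-/

set_option autoImplicit false
set_option backward.isDefEq.respectTransparency false
set_option linter.style.haveILetI false

noncomputable section

universe u

open CategoryTheory CategoryTheory.Limits AlgebraicGeometry TopologicalSpace Opposite

namespace Groth.Agent.FCompl13

open _root_.FSch
open SiteMod (ap evAt)

section Eval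

variable {𝔛 : Sys.{u}} {h : 𝔛.IsFormal} {F G : ModF 𝔛 h} [ModSite.HasSheafHom F] {V : (𝔛.X 0).Opens}

theorem fres_evAt {U W : (𝔛.X 0).Opens} (i : W ≤ U) (s : FS ((ModSite.sheafHom F).obj G) U) (x : FS F U) :
    fres G i (evAt F G s x) = evAt F G (fres _ i s) (fres F i x) :=
  SiteMod.res_evAt F G (homOfLE i) s x

theorem evAt_lincomb {W : (𝔛.X 0).Opens} {κ : Type*} [Fintype κ] (c : κ → FBlow13.Sec 𝔛 h W)
    (s : κ → FS ((ModSite.sheafHom F).obj G) W) (x : FS F W) :
    evAt F G (∑ k, c k • s k) x = ∑ k, c k • evAt F G (s k) x :=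
  (SiteMod.evAt_sum_left F Finset.univ (fun k => c k • s k) x).trans
    (Finset.sum_congr rfl fun k _ => SiteMod.evAt_smul_left F (c k) (s k) x)

theorem evAt_zero_left {W : (𝔛.X 0).Opens} (x : FS F W) :
    evAt F G (0 : FS ((ModSite.sheafHom F).obj G) W) x = 0 :=
  (SiteMod.evAt_sum_left F (∅ : Finset (Fin 0)) (fun k => k.elim0) x).trans Finset.sum_empty

/-- Values of a section of the sheaf of homomorphisms satisfy the relations. -/
theorem evAt_rel (d : SiteMod.LocPres (Mod48.pre F) V) {W : (𝔛.X 0).Opens} (i : W ≤ V)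
    (x : FS ((ModSite.sheafHom F).obj G) W) (k : d.κ) :
    ∑ t, FBlow13.res 𝔛 h i (d.r k t) • evAt F G x (fres F i (d.a t)) = 0 := by
  have h1 : ∑ t, FBlow13.res 𝔛 h i (d.r k t) • fres F i (d.a t) = 0 := by
    refine Eq.trans ?_ ((congrArg (fres F i) (d.rel k)).trans (fres_zero F i))
    rw [fres_sum]
    exact Finset.sum_congr rfl fun t _ => (fres_smul F i _ _).symm
  let e : FS F W →+ FS G W :=
    AddMonoidHom.mk' (fun y => evAt F G x y) fun y y' =>
      (congrArg ((SiteMod.evp F G).app (op W)) (Mod48.tp_add_right x y y')).trans (map_add _ _ _)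
  have h2 : ∀ t, FBlow13.res 𝔛 h i (d.r k t) • evAt F G x (fres F i (d.a t)) =
      e (FBlow13.res 𝔛 h i (d.r k t) • fres F i (d.a t)) := fun t =>
    ((congrArg ((SiteMod.evp F G).app (op W)) (Mod48.tp_smul_right _ _ _)).trans (map_smul _ _ _)).symm
  simp only [h2, ← map_sum, h1, map_zero]

end Eval

variable {𝔛 : Sys.{u}} {h𝔛 : 𝔛.IsLocNoethFormal} {F G : ModF 𝔛 h𝔛.1} [ModSite.HasSheafHom F]
  {V : (𝔛.X 0).Opens}

/-- The sheaf of homomorphisms is generated by sections over `V`. -/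
theorem genBy_sheafHom (d : SiteMod.LocPres (Mod48.pre F) V) (hG : QcAt h𝔛 G V) :
    GenBy ((ModSite.sheafHom F).obj G) V := by
  classical
  intro W i x z hz
  obtain ⟨W', j, hW', hzW', hm⟩ := exists_common_affine hz
    (P := fun t U j => fres G j (evAt F G x (fres F i (d.a t))) ∈
      Submodule.span (FBlow13.Sec 𝔛 h𝔛.1 U) (Set.range fun g : FS G V => fres G (j.trans i) g))
    (fun t U j U' j' hm => by
      have h1 := fres_mem_span_range G j' hm
      simp only [fres_fres] at h1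
      exact h1)
    (fun t => hG.2.1 W i _ z hz)
  obtain ⟨S, B, hB⟩ := exists_finset_span (fun g : FS G V => fres G (j.trans i) g) _ hm
  obtain ⟨κ, _, R, hR, hgen⟩ := hG.rel fun g : S => g.1
  let x' : FS ((ModSite.sheafHom F).obj G) W' := fres _ j x
  have hB' : ∀ t, evAt F G x' (fres F (j.trans i) (d.a t)) = ∑ l, B t l • fres G (j.trans i) l.1 := fun t => by
    rw [← hB t, fres_evAt, fres_fres]
  have hrel : ∀ k, ∑ l : S, (∑ t, FBlow13.res 𝔛 h𝔛.1 (j.trans i) (d.r k t) * B t l) •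
      fres G (j.trans i) l.1 = 0 := fun k => by
    refine Eq.trans ?_ (evAt_rel d (j.trans i) x' k)
    simp only [hB', Finset.smul_sum, smul_smul, Finset.sum_smul]
    exact Finset.sum_comm
  choose δ hδ using fun k => (Submodule.mem_span_range_iff_exists_fun _).1 (hgen W' _ hW' _ (hrel k))
  let A : d.κ × S → (d.ι × S) ⊕ (d.κ × κ) → FBlow13.Sec 𝔛 h𝔛.1 V := fun kl =>
    Sum.elim (fun tl => if tl.2 = kl.2 then d.r kl.1 tl.1 else 0)
      (fun ks => if ks.1 = kl.1 then -R ks.2 kl.2 else 0)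
  let b : (d.ι × S) ⊕ (d.κ × κ) → FBlow13.Sec 𝔛 h𝔛.1 W' :=
    Sum.elim (fun tl => B tl.1 tl.2) fun ks => δ ks.1 ks.2
  have hsol : ∀ kl, ∑ m, b m * FBlow13.res 𝔛 h𝔛.1 (j.trans i) (A kl m) = 0 := fun kl => by
    have h1 := congrFun (hδ kl.1) kl.2
    simp only [Finset.sum_apply, Pi.smul_apply, smul_eq_mul, vres] at h1
    rw [Fintype.sum_sum_type]
    simp only [A, b, Sum.elim_inl, Sum.elim_inr, apply_ite (FBlow13.res 𝔛 h𝔛.1 (j.trans i)), map_zero,
      map_neg, Fintype.sum_prod_type, mul_ite, mul_zero, mul_neg, Finset.sum_ite_eq', Finset.mem_univ, if_true]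
    rw [Finset.sum_comm (s := (Finset.univ : Finset d.κ))]
    simp only [Finset.sum_ite_eq', Finset.mem_univ, if_true, Finset.sum_neg_distrib]
    rw [← sub_eq_add_neg, sub_eq_zero]
    refine Eq.trans ?_ h1.symm
    exact Finset.sum_congr rfl fun t _ => mul_comm _ _
  have hspan := mem_span_solutions h𝔛 hG.1 hW' (j.trans i) A b hsol
  obtain ⟨γ, M, c, hM, hc⟩ : ∃ (γ : Type u) (M : γ → (d.ι × S) ⊕ (d.κ × κ) → FBlow13.Sec 𝔛 h𝔛.1 V)
      (c : γ →₀ FBlow13.Sec 𝔛 h𝔛.1 W'), (∀ q kl, ∑ m, M q m * A kl m = 0) ∧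
        b = c.sum fun q v => v • vres h𝔛.1 (j.trans i) (M q) := by
    rw [Set.image_eq_range] at hspan
    obtain ⟨c, hc⟩ := Finsupp.mem_span_range_iff_exists_finsupp.1 hspan
    exact ⟨_, Subtype.val, c, fun q kl => q.2 kl, hc.symm⟩
  have hval : ∀ q k, ∑ t, d.r k t • (∑ l : S, M q (Sum.inl (t, l)) • l.1) = 0 := fun q k => by
    have h3 : ∀ l, ∑ t, d.r k t * M q (Sum.inl (t, l)) = ∑ s, M q (Sum.inr (k, s)) * R s l := fun l => by
      have h1 := hM q (k, l)
      rw [Fintype.sum_sum_type] at h1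
      simp only [A, Sum.elim_inl, Sum.elim_inr, Fintype.sum_prod_type, mul_ite, mul_zero, mul_neg,
        Finset.sum_ite_eq', Finset.mem_univ, if_true] at h1
      rw [Finset.sum_comm (s := (Finset.univ : Finset d.κ))] at h1
      simp only [Finset.sum_ite_eq', Finset.mem_univ, if_true, Finset.sum_neg_distrib, ← sub_eq_add_neg,
        sub_eq_zero] at h1
      exact (Finset.sum_congr rfl fun t _ => mul_comm _ _).trans h1
    simp only [Finset.smul_sum, smul_smul]
    rw [Finset.sum_comm]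
    simp only [← Finset.sum_smul, h3]
    simp only [Finset.sum_smul, mul_smul]
    rw [Finset.sum_comm]
    exact Finset.sum_eq_zero fun s _ => by rw [← Finset.smul_sum, hR s, smul_zero]
  choose σ hσ using fun q => SiteMod.exists_sect_of_values d _ (hval q)
  refine ⟨W', j, hzW', ?_⟩
  have key : x' = ∑ q : c.support, c q.1 • fres _ (j.trans i) (σ q.1) := by
    refine SiteMod.hom_sect_ext ((d.gen).pullback (homOfLE (j.trans i))) fun t => ?_
    change evAt F G x' (fres F (j.trans i) (d.a t)) = evAt F G _ (fres F (j.trans i) (d.a t))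
    rw [hB' t, evAt_lincomb]
    simp only [← fres_evAt, hσ, fres_sum, fres_smul, Finset.smul_sum, smul_smul]
    rw [Finset.sum_comm]
    refine Finset.sum_congr rfl fun l _ => ?_
    rw [← Finset.sum_smul]
    refine congrArg (· • fres G (j.trans i) l.1) ?_
    have h1 := congrFun hc (Sum.inl (t, l))
    simp only [b, Sum.elim_inl, Finsupp.sum, Finset.sum_apply, Pi.smul_apply, smul_eq_mul, vres] at h1
    exact h1.trans (Finset.sum_coe_sort c.support fun q =>
      c q * FBlow13.res 𝔛 h𝔛.1 (j.trans i) (M q (Sum.inl (t, l)))).symm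
  change x' ∈ _
  rw [key]
  exact Submodule.sum_mem _ fun q _ => Submodule.smul_mem _ _ (Submodule.subset_span ⟨σ q.1, rfl⟩)

/-- The conditions hold for the sheaf of homomorphisms. -/
theorem qcAt_sheafHom (d : SiteMod.LocPres (Mod48.pre F) V) (hG : QcAt h𝔛 G V) :
    QcAt h𝔛 ((ModSite.sheafHom F).obj G) V := by
  classical
  refine ⟨hG.1, genBy_sheafHom d hG, fun q _ y => vecFT_of_local y fun x hx => ?_⟩
  obtain ⟨κ, _, r, hr, hgen⟩ := exists_common_rel (fun _ : d.ι => G) (fun _ => hG)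
    (fun t l => evAt F G (y l) (d.a t)) Finset.univ
  refine ⟨V, le_rfl, hG.1, hx, fun W j c hc z hz => ?_⟩
  obtain ⟨W', hW', hzW', hW'W⟩ := exists_isAffineOpen_mem_and_subset hz
  have j' : W' ≤ W := hW'W
  have hc' := vecRes_relSub h𝔛 _ y W (j.trans le_rfl) W' j' c hc
  rw [mem_relSub] at hc'
  refine ⟨W', j', hzW', Submodule.span_mono ?_ (hgen W' (j'.trans j) hW' _ fun t _ => ?_)⟩
  · rintro _ ⟨s, rfl⟩
    refine ⟨r s, ?_, rfl⟩
    rw [SetLike.mem_coe, mem_relSub]
    simp only [fres_self]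
    refine SiteMod.hom_sect_ext d.gen fun t => ?_
    rw [evAt_lincomb, evAt_zero_left]
    exact hr t (Finset.mem_univ t) s
  · have h1 := congrArg (fun s => evAt F G s (fres F (j'.trans j) (d.a t))) hc'
    simp only [evAt_zero_left] at h1
    rw [evAt_lincomb] at h1
    simp only [← fres_evAt] at h1
    exact h1

theorem module_finite_sheafHom (d : SiteMod.LocPres (Mod48.pre F) V) (hV : IsAffineOpen V)
    (hG : IsCohF 𝔛 h𝔛.1 G) :
    Module.Finite (FBlow13.Sec 𝔛 h𝔛.1 V) (FS ((ModSite.sheafHom F).obj G) V) := by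
  obtain ⟨hN, -, -⟩ := secRing h𝔛 hV
  have := hN
  have := module_finite_coh (h𝔛 := h𝔛) hG hV
  let e : FS ((ModSite.sheafHom F).obj G) V →ₗ[FBlow13.Sec 𝔛 h𝔛.1 V] (d.ι → FS G V) :=
    { toFun := fun s t => evAt F G s (d.a t)
      map_add' := fun s s' => funext fun t =>
        (congrArg ((SiteMod.evp F G).app (op V)) (TensorProduct.add_tmul s s' (d.a t))).trans (map_add _ _ _)
      map_smul' := fun r s => funext fun t => SiteMod.evAt_smul_left F r s (d.a t) }
  exact Module.Finite.of_injective e fun s s' e' => SiteMod.hom_sect_ext d.gen fun t => congrFun e' t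

theorem sheafHom_qcoh (hF : IsCohF 𝔛 h𝔛.1 F) [SheafOfModules.IsQuasicoherent.{u} G] :
    SheafOfModules.IsQuasicoherent.{u} ((ModSite.sheafHom F).obj G) ∧
      (IsCohF 𝔛 h𝔛.1 G → IsCohF 𝔛 h𝔛.1 ((ModSite.sheafHom F).obj G)) := by
  have h1 : ∀ (x : 𝔛.X 0) (W : (𝔛.X 0).Opens), x ∈ W → ∃ V : (𝔛.X 0).Opens, x ∈ V ∧ V ≤ W ∧
      Nonempty (SiteMod.LocPres (Mod48.pre F) V) ∧ QcAt h𝔛 G V := fun x W hx => by
    obtain ⟨V, hxV, hVW, hG⟩ := exists_qcAt (h𝔛 := h𝔛) (F := G) hx
    exact ⟨V, hxV, hVW, nonempty_locPres_coh (h𝔛 := h𝔛) hF hG.1, hG⟩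
  have hqc : SheafOfModules.IsQuasicoherent.{u} ((ModSite.sheafHom F).obj G) :=
    isQuasicoherent_of_qcAt (h𝔛 := h𝔛) fun x => by
      obtain ⟨V, hxV, -, ⟨d⟩, hG⟩ := h1 x ⊤ trivial
      exact ⟨V, hxV, qcAt_sheafHom d hG⟩
  refine ⟨hqc, fun hG => ?_⟩
  have : SheafOfModules.IsFiniteType.{u} ((ModSite.sheafHom F).obj G) :=
    isFiniteType_of_finite_sections (h𝔛 := h𝔛) fun x W hx => by
      obtain ⟨V, hxV, hVW, ⟨d⟩, hGV⟩ := h1 x W hx
      exact ⟨V, hxV, hVW, qcAt_sheafHom d hGV, module_finite_sheafHom (h𝔛 := h𝔛) d hGV.1 hG⟩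
  exact isCohF_of_qc_ft (h𝔛 := h𝔛)

end Groth.Agent.FCompl13
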