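import Groth.Agent.FCompl13.RelRing
import Groth.Agent.SiteMod.PushTensor

/-!
The kernel of the unit of the structure sheaf at a level is of finite type.
-/

set_option autoImplicit false
set_option backward.isDefEq.respectTransparency false

noncomputable section

universe u

open CategoryTheory CategoryTheory.Limits AlgebraicGeometry TopologicalSpace Opposite

namespace Groth.Agent.FCompl13

open _root_.FSch
open SiteMod (ap toU ofU)

variable {𝔛 : Sys.{u}} (h : 𝔛.IsFormal)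

theorem ap_unit_unitF_eq_zero_iff (n : ℕ) {W : (𝔛.X 0).Opens} (x : FBlow13.Sec 𝔛 h W) :
    ap ((levelMor 𝔛 h n).adj.unit.app (unitF 𝔛 h)) (toU x) = 0 ↔ FBlow13.proj 𝔛 h W n x = 0 := by
  let L := levelMor 𝔛 h n
  let η := L.adj.unit.app (unitF 𝔛 h)
  have hT : IsTerminal (⊤ : Opens (𝔛.X 0)) := isTerminalTop
  constructor
  · intro hx
    let U₁ := ModSite.unit (𝔛.X n).sheaf
    let σ : unitF 𝔛 h ⟶ L.push.obj U₁ :=
      SiteMod.uTo hT (L.push.obj U₁) (SiteMod.toPush L U₁ (W := (⊤ : Opens (𝔛.X 0))) (toU 1))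
    have hc : η ≫ L.push.map ((L.adj.homEquiv _ _).symm σ) = σ :=
      (Adjunction.homEquiv_unit ..).symm.trans (Equiv.apply_symm_apply _ _)
    have h0 : ap σ (toU x) = 0 := by
      rw [← hc]
      exact (SiteMod.ap_comp η _ (toU x)).trans ((congrArg _ hx).trans
        (map_zero ((Mod48.fgt.map (L.push.map ((L.adj.homEquiv _ _).symm σ))).app (op W)).hom))
    rw [SiteMod.ap_uTo] at h0
    rw [show Mod48.res (Mod48.pre (L.push.obj U₁)) (hT.from W).op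
        (SiteMod.toPush L U₁ (W := (⊤ : Opens (𝔛.X 0))) (toU 1)) =
      SiteMod.toPush L U₁ (W := W) (toU 1) from
        map_one ((𝔛.X n).presheaf.map (L.fn.map (hT.from W)).op).hom] at h0
    exact (mul_one (FBlow13.proj 𝔛 h W n x : Γ(𝔛.X n, 𝔛.lvU h n W))).symm.trans h0
  · intro hx
    rw [SiteMod.ap_unit_eq_smul]
    exact (congrArg (fun r : Γ(𝔛.X n, 𝔛.lvU h n W) => r •
      SiteMod.ofPush L _ (ap η (toU (1 : FBlow13.Sec 𝔛 h W)))) hx).trans (zero_smul _ _)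

theorem isFiniteType_kernel_unit_level (h𝔛 : 𝔛.IsLocNoethFormal) (n : ℕ) :
    (kernel ((levelMor 𝔛 h𝔛.1 n).adj.unit.app (unitF 𝔛 h𝔛.1))).IsFiniteType := by
  classical
  refine SiteMod.isFiniteType_of_genAt _ fun X => ⟨_, affineSieve_mem X, fun Y j hY => ?_⟩
  obtain ⟨U, hU, hYU, -⟩ := hY
  suffices hU' : ∃ (κ : Type u) (_ : Fintype κ) (a : κ → (Mod48.pre (kernel
      ((levelMor 𝔛 h𝔛.1 n).adj.unit.app (unitF 𝔛 h𝔛.1)))).obj (op U)),
      SiteMod.GenAt (Mod48.pre (kernel ((levelMor 𝔛 h𝔛.1 n).adj.unit.app (unitF 𝔛 h𝔛.1)))) U a by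
    obtain ⟨κ, hκ, a, ha⟩ := hU'
    exact ⟨κ, hκ, _, ha.pullback (homOfLE hYU)⟩
  obtain ⟨hN, -, hp⟩ := secRing h𝔛 hU
  have := hN
  obtain ⟨p, r, hr⟩ := Submodule.fg_iff_exists_fin_generating_family.1
    (IsNoetherian.noetherian (secIdeal 𝔛 h𝔛.1 U ^ (n + 1)))
  refine genAt_kernel _ (κ := ULift.{u} (Fin p)) (fun s => toU (r s.down)) (fun s => ?_) fun W g x hx =>
    ⟨_, affineSieve_mem W, fun V w hw => ?_⟩
  · rw [ap_unit_unitF_eq_zero_iff, ← RingHom.mem_ker, (hp n).2, ← hr]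
    exact Submodule.subset_span ⟨s.down, rfl⟩
  · obtain ⟨V', hV', hVV', hV'W⟩ := hw
    have hV'U : V' ≤ U := hV'W.trans (leOfHom g)
    obtain ⟨-, -, hpV⟩ := secRing h𝔛 hV'
    have hxW : FBlow13.proj 𝔛 h𝔛.1 W n (ofU x) = 0 := (ap_unit_unitF_eq_zero_iff h𝔛.1 n (ofU x)).1 hx
    have h1 : FBlow13.res 𝔛 h𝔛.1 hV'W (ofU x) ∈
        Ideal.span (Set.range fun s => FBlow13.res 𝔛 h𝔛.1 hV'U (r s)) := by
      have h2 : FBlow13.res 𝔛 h𝔛.1 hV'W (ofU x) ∈ secIdeal 𝔛 h𝔛.1 V' ^ (n + 1) := by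
        rw [← (hpV n).2, RingHom.mem_ker]
        exact (FBlow13.proj_res_apply hV'W n _).trans ((congrArg _ hxW).trans (map_zero _))
      rw [← secIdeal_pow_map_res h𝔛 hU hV' hV'U, ← hr, Ideal.submodule_span_eq, Ideal.map_span,
        ← Set.range_comp] at h2
      exact h2
    obtain ⟨c, hc⟩ := (Ideal.mem_span_range_iff_exists_fun).1 h1
    refine ⟨fun s => FBlow13.res 𝔛 h𝔛.1 hVV' (c s.down), ?_⟩
    have h3 := congrArg (FBlow13.res 𝔛 h𝔛.1 hVV') hc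
    rw [map_sum, ← Equiv.ulift.{u, 0}.sum_comp] at h3
    have hrr : ∀ {A B C : (𝔛.X 0).Opens} (i : B ≤ A) (j : C ≤ B) (k : C ≤ A) (s : FBlow13.Sec 𝔛 h𝔛.1 A),
        FBlow13.res 𝔛 h𝔛.1 j (FBlow13.res 𝔛 h𝔛.1 i s) = FBlow13.res 𝔛 h𝔛.1 k s :=
      fun i j k s => (SiteMod.rres_rres (O := 𝔛.Osh h𝔛.1) (homOfLE i).op (homOfLE j).op s).trans
        (congrArg (fun z => (𝔛.Osh h𝔛.1).obj.map z s) (Subsingleton.elim _ _))
    change FBlow13.res 𝔛 h𝔛.1 (leOfHom w) (ofU x) =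
      ∑ s : ULift.{u} (Fin p), FBlow13.res 𝔛 h𝔛.1 hVV' (c s.down) * FBlow13.res 𝔛 h𝔛.1 (leOfHom (w ≫ g)) (r s.down)
    rw [← hrr hV'W hVV' (leOfHom w), ← h3]
    refine Finset.sum_congr rfl fun s _ => ?_
    rw [map_mul, hrr hV'U hVV' (leOfHom (w ≫ g))]
    rfl

end Groth.Agent.FCompl13
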