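import Groth.Agent.FCompl13.SecRing
import Mathlib.RingTheory.Nakayama

/-!
The ideals of definition of sections over affine opens generate those of smaller affine opens.
-/

set_option autoImplicit false
set_option backward.isDefEq.respectTransparency false

universe u

open CategoryTheory CategoryTheory.Limits AlgebraicGeometry TopologicalSpace Opposite

namespace Groth.Agent.FCompl13

open _root_.FSch

variable {𝔛 : Sys.{u}}

theorem secIdeal_map_res (h𝔛 : 𝔛.IsLocNoethFormal) {U V : (𝔛.X 0).Opens} (hU : IsAffineOpen U)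
    (hV : IsAffineOpen V) (i : V ≤ U) :
    (secIdeal 𝔛 h𝔛.1 U).map (FBlow13.res 𝔛 h𝔛.1 i).hom = secIdeal 𝔛 h𝔛.1 V := by
  have hF := h𝔛.1
  obtain ⟨-, -, hpU⟩ := secRing h𝔛 hU
  obtain ⟨hN, hC, hpV⟩ := secRing h𝔛 hV
  have := hN
  have := hC
  let AU := FBlow13.Sec 𝔛 h𝔛.1 U
  let JU := secIdeal 𝔛 h𝔛.1 U
  let JV := secIdeal 𝔛 h𝔛.1 V
  set R := JU.map (FBlow13.res 𝔛 h𝔛.1 i).hom with hR
  have h1 : R ≤ JV := by
    rw [hR, Ideal.map_le_iff_le_comap]
    intro s hs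
    rw [Ideal.mem_comap, RingHom.mem_ker]
    have h0 : FBlow13.proj 𝔛 h𝔛.1 U 0 s = 0 := hs
    exact (FBlow13.proj_res_apply i 0 s).trans ((congrArg _ h0).trans (map_zero _))
  -- the ideal of level zero in level one is generated by restriction
  have hclosed := 𝔛.toX_isClosedImmersion hF 1
  have hker : ∀ {W : (𝔛.X 0).Opens} (hW : IsAffineOpen W),
      ((𝔛.toX 1).ker.ideal ⟨_, FBlow13.isAffineOpen_lvU (h := hF) hW 1⟩) =
        (secIdeal 𝔛 hF W).map (FBlow13.proj 𝔛 hF W 1).hom := by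
    intro W hW
    obtain ⟨-, -, hpW⟩ := secRing h𝔛 hW
    have hcomp : FBlow13.proj 𝔛 hF W 1 ≫ toZero 𝔛 hF W 1 = FBlow13.proj 𝔛 hF W 0 := by
      rw [← FBlow13.proj_succ W 0]
      refine congrArg (FBlow13.proj 𝔛 hF W 1 ≫ ·) ?_
      unfold toZero
      congr 1
    have e : secIdeal 𝔛 hF W = (RingHom.ker (toZero 𝔛 hF W 1).hom).comap (FBlow13.proj 𝔛 hF W 1).hom := by
      rw [RingHom.comap_ker, ← CommRingCat.hom_comp, hcomp]
    rw [e, Ideal.map_comap_of_surjective _ (hpW 1).1,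
      (FBlow13.appLE_of_eq (𝔛.toX 1)
        ((FBlow13.lvU_zero (h := hF) W).trans (FBlow13.toX_preimage_lvU (h := hF) 1 W).symm) _).2]
    exact Scheme.Hom.ker_apply (𝔛.toX 1) ⟨_, FBlow13.isAffineOpen_lvU (h := hF) hW 1⟩
  have h2 : JV ≤ R ⊔ JV • JV := by
    intro t ht
    have hm : FBlow13.proj 𝔛 hF V 1 t ∈ R.map (FBlow13.proj 𝔛 hF V 1).hom := by
      have h3 : FBlow13.proj 𝔛 hF V 1 t ∈ JV.map (FBlow13.proj 𝔛 hF V 1).hom := Ideal.mem_map_of_mem _ ht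
      rw [← hker hV, ← Scheme.IdealSheafData.map_ideal (U := ⟨_, FBlow13.isAffineOpen_lvU (h := hF) hV 1⟩)
        (V := ⟨_, FBlow13.isAffineOpen_lvU (h := hF) hU 1⟩) _ (FBlow.lvU_mono 𝔛 hF 1 i), hker hU,
        Ideal.map_map] at h3
      rw [hR, Ideal.map_map, ← CommRingCat.hom_comp, FBlow13.proj_res]
      exact h3
    obtain ⟨r, hr, hrt⟩ := (Ideal.mem_map_iff_of_surjective _ (hpV 1).1).1 hm
    have hd : t - r ∈ JV ^ 2 := by
      rw [← (hpV 1).2, RingHom.mem_ker, map_sub, sub_eq_zero]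
      exact hrt.symm
    rw [smul_eq_mul, ← sq]
    exact Submodule.mem_sup.2 ⟨r, hr, t - r, hd, add_sub_cancel _ _⟩
  exact le_antisymm h1 (Submodule.le_of_le_smul_of_le_jacobson_bot (IsNoetherian.noetherian _)
    (IsAdicComplete.le_jacobson_bot JV) h2)

theorem secIdeal_pow_map_res (h𝔛 : 𝔛.IsLocNoethFormal) {U V : (𝔛.X 0).Opens} (hU : IsAffineOpen U)
    (hV : IsAffineOpen V) (i : V ≤ U) (n : ℕ) :
    (secIdeal 𝔛 h𝔛.1 U ^ n).map (FBlow13.res 𝔛 h𝔛.1 i).hom = secIdeal 𝔛 h𝔛.1 V ^ n := by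
  rw [Ideal.map_pow, secIdeal_map_res h𝔛 hU hV i]

end Groth.Agent.FCompl13
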