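import Groth.Agent.FCompl13.IndCoh
import Groth.Agent.Mod48.FreeOn
import Mathlib.CategoryTheory.ObjectProperty.Small
import Mathlib.CategoryTheory.Comma.StructuredArrow.Small
import Mathlib.CategoryTheory.Adjunction.Comma

/-!
Coherent modules form an essentially small category, and every module has a largest approximation by
filtered colimits of coherent modules.
-/

set_option autoImplicit false
set_option backward.isDefEq.respectTransparency false
set_option linter.style.haveILetI false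

noncomputable section

universe u

open CategoryTheory CategoryTheory.Limits AlgebraicGeometry TopologicalSpace Opposite

namespace Groth.Agent.FCompl13

open _root_.FSch
open SiteMod (ap)

variable {𝔛 : Sys.{u}} {h𝔛 : 𝔛.IsLocNoethFormal}

/-- The indices of free covers. -/
abbrev CovIdx (𝔛 : Sys.{u}) : Type u := (𝔛.X 0 → (𝔛.X 0).Opens) × (𝔛.X 0 → ℕ)

/-- The free cover attached to an index. -/
abbrev covObj (h : 𝔛.IsFormal) (i : CovIdx 𝔛) : ModF 𝔛 h :=
  ∐ fun p : Σ x : 𝔛.X 0, ULift.{u} (Fin (i.2 x)) => ModSite.freeOn (𝔛.Osh h) (i.1 p.1)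

/-- A coherent module is a quotient of a free cover. -/
theorem exists_covObj_epi {M : ModF 𝔛 h𝔛.1} (hM : IsCohF 𝔛 h𝔛.1 M) :
    ∃ (i : CovIdx 𝔛) (π : covObj h𝔛.1 i ⟶ M), Epi π := by
  classical
  choose V hV hxV hle using fun x : 𝔛.X 0 =>
    exists_isAffineOpen_mem_and_subset (X := 𝔛.X 0) (x := x) (U := ⊤) trivial
  let d := fun x => (nonempty_locPres_coh (h𝔛 := h𝔛) hM (hV x)).some
  let n : 𝔛.X 0 → ℕ := fun x => Fintype.card (d x).ι
  let e : ∀ x, ULift.{u} (Fin (n x)) ≃ (d x).ι := fun x => Equiv.ulift.trans (Fintype.equivFin (d x).ι).symm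
  let a : ∀ p : Σ x : 𝔛.X 0, ULift.{u} (Fin (n x)), FS M (V p.1) := fun p => (d p.1).a (e p.1 p.2)
  let π : covObj h𝔛.1 (V, n) ⟶ M := Sigma.desc fun p => (Mod48.freeOnEquiv (V p.1) M).symm (a p)
  refine ⟨(V, n), π, (SiteMod.epi_iff_locSurj _).2 fun W m => ?_⟩
  refine exists_sieve_of_near (fun U i => ∃ y : FS (covObj h𝔛.1 (V, n)) U, ap π y = fres M i m)
    (fun U i U' j ⟨y, hy⟩ => ⟨fres (covObj h𝔛.1 (V, n)) j y,
      (fres_ap π j y).symm.trans ((congrArg (fres M j) hy).trans (fres_fres M i j m))⟩) fun z hz => ?_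
  let W₀ : (𝔛.X 0).Opens := W ⊓ V z
  obtain ⟨T, hT, hc⟩ := (d z).gen W₀ (homOfLE inf_le_right) (fres M inf_le_left m)
  obtain ⟨U, v, hv, hzU⟩ := hT z ⟨hz, hxV z⟩
  obtain ⟨c, hc⟩ := hc v hv
  let g : ∀ t, FS (covObj h𝔛.1 (V, n)) (V z) := fun t =>
    Mod48.freeOnEquiv (V z) (covObj h𝔛.1 (V, n))
      (Sigma.ι (fun p : Σ x : 𝔛.X 0, ULift.{u} (Fin (n x)) => ModSite.freeOn (𝔛.Osh h𝔛.1) (V p.1)) ⟨z, (e z).symm t⟩)
  have hg : ∀ t, ap π (g t) = (d z).a t := fun t => by
    refine (Mod48.freeOnEquiv_comp (V z) _ π).symm.trans ?_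
    rw [Sigma.ι_desc, Equiv.apply_symm_apply]
    exact congrArg (d z).a ((e z).apply_symm_apply t)
  refine ⟨U, (leOfHom v).trans inf_le_left, hzU, ∑ t, c t • fres _ ((leOfHom v).trans inf_le_right) (g t), ?_⟩
  rw [ap_fres_lincomb]
  simp only [hg]
  exact (hc.symm).trans (fres_fres M _ (leOfHom v) m)

theorem essentiallySmall_coh :
    ObjectProperty.EssentiallySmall.{u} (fun G : ModF 𝔛 h𝔛.1 => IsCohF 𝔛 h𝔛.1 G) := by
  have : IsGrothendieckAbelian.{u} (ModF 𝔛 h𝔛.1) :=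
    Coh69.sheafOfModules_isGrothendieckAbelian (ModSite.ringSh (𝔛.Osh h𝔛.1))
  have : WellPowered.{u} (ModF 𝔛 h𝔛.1) := IsGrothendieckAbelian.wellPowered _
  refine ⟨⟨ObjectProperty.ofObj fun σ : Σ i : CovIdx 𝔛, Subobject (covObj h𝔛.1 i) => cokernel σ.2.arrow,
    inferInstance, fun M hM => ?_⟩⟩
  obtain ⟨i, π, hπ⟩ := exists_covObj_epi (h𝔛 := h𝔛) hM
  let α : cokernel (kernel.ι π) ≅ M :=
    IsColimit.coconePointUniqueUpToIso (cokernelIsCokernel (kernel.ι π))
      (Abelian.epiIsCokernelOfKernel _ (limit.isLimit _))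
  let β : cokernel (kernel.ι π) ≅ cokernel (kernelSubobject π).arrow :=
    (cokernelEpiComp (kernelSubobjectIso π).hom (kernel.ι π)).symm ≪≫
      cokernelIsoOfEq (kernelSubobject_arrow π)
  exact ⟨cokernel (kernelSubobject π).arrow,
    ObjectProperty.ofObj.mk (X := fun σ : Σ i : CovIdx 𝔛, Subobject (covObj h𝔛.1 i) => cokernel σ.2.arrow)
      ⟨i, kernelSubobject π⟩, ⟨α.symm.trans β⟩⟩

theorem exists_lift_of_mono {C : Type*} [Category C] [Abelian C] {X Y T : C} (f : X ⟶ Y) [Mono f]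
    (g : T ⟶ Y) (hg : g ≫ cokernel.π f = 0) : ∃ q : T ⟶ X, q ≫ f = g :=
  ⟨Abelian.monoLift f g hg, Abelian.monoLift_comp f g hg⟩

section Approx

variable (h : 𝔛.IsFormal)

/-- Coherence as a property of modules. -/
abbrev cohP : ObjectProperty (ModF 𝔛 h) := fun G => IsCohF 𝔛 h G

variable {h} (F : ModF 𝔛 h)

/-- Coherent modules over `F`. -/
abbrev CohOver : Type (u + 1) := CostructuredArrow (cohP h).ι F

/-- An object over `F`. -/
abbrev cohOverMk (M : ModF 𝔛 h) (hM : IsCohF 𝔛 h M) (g : M ⟶ F) : CohOver F :=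
  CostructuredArrow.mk (S := (cohP h).ι) (Y := (⟨M, hM⟩ : (cohP h).FullSubcategory)) g

/-- A morphism over `F`. -/
abbrev cohOverHom {k l : CohOver F} (f : k.left.obj ⟶ l.left.obj) (w : f ≫ l.hom = k.hom) : k ⟶ l :=
  CostructuredArrow.homMk (ObjectProperty.homMk f) w

variable [EssentiallySmall.{u} (CohOver F)]

/-- The diagram of coherent modules over `F`. -/
def apxDiag : SmallModel.{u} (CohOver F) ⥤ ModF 𝔛 h :=
  (equivSmallModel.{u} (CohOver F)).inverse ⋙ CostructuredArrow.proj (cohP h).ι F ⋙ (cohP h).ι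

/-- The approximation of `F`. -/
def apx : ModF 𝔛 h := colimit (apxDiag F)

/-- The map from the approximation. -/
def apxHom : apx F ⟶ F :=
  colimit.desc (apxDiag F)
    { pt := F
      ι := { app := fun j => ((equivSmallModel.{u} (CohOver F)).inverse.obj j).hom
             naturality := fun _ _ f =>
               (CostructuredArrow.w ((equivSmallModel.{u} (CohOver F)).inverse.map f)).trans (Category.comp_id _).symm } }

/-- The insertion of a coherent module over `F`. -/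
def apxIns (k : CohOver F) : k.left.obj ⟶ apx F :=
  ((equivSmallModel.{u} (CohOver F)).unitIso.hom.app k).left.hom ≫
    colimit.ι (apxDiag F) ((equivSmallModel.{u} (CohOver F)).functor.obj k)

theorem apxIns_hom (k : CohOver F) : apxIns F k ≫ apxHom F = k.hom := by
  rw [apxIns, apxHom, Category.assoc, colimit.ι_desc]
  exact CostructuredArrow.w ((equivSmallModel.{u} (CohOver F)).unitIso.hom.app k)

theorem apxIns_w {k l : CohOver F} (g : k ⟶ l) : g.left.hom ≫ apxIns F l = apxIns F k := by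
  let e := equivSmallModel.{u} (CohOver F)
  have h1 : g.left.hom ≫ (e.unitIso.hom.app l).left.hom =
      (e.unitIso.hom.app k).left.hom ≫ (e.inverse.map (e.functor.map g)).left.hom :=
    congrArg (fun t => t.left.hom) (e.unitIso.hom.naturality g)
  rw [apxIns, apxIns, ← Category.assoc, h1, Category.assoc]
  exact congrArg (_ ≫ ·) (colimit.w (apxDiag F) (e.functor.map g))

theorem colimit_ι_apx (j : SmallModel.{u} (CohOver F)) :
    colimit.ι (apxDiag F) j = apxIns F ((equivSmallModel.{u} (CohOver F)).inverse.obj j) := by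
  let e := equivSmallModel.{u} (CohOver F)
  have h1 : (e.unitIso.hom.app (e.inverse.obj j)) = e.inverse.map (e.counitIso.inv.app j) :=
    e.unit_app_inverse j
  refine (colimit.w (apxDiag F) (e.counitIso.inv.app j)).symm.trans ?_
  exact congrArg (fun t => t.left.hom ≫ colimit.ι (apxDiag F) (e.functor.obj (e.inverse.obj j))) h1.symm

end Approx

variable (h𝔛) (F : ModF 𝔛 h𝔛.1) [EssentiallySmall.{u} (CohOver F)]

theorem isIndCoh_apx : IsIndCoh h𝔛.1 (apx F) :=
  isIndCoh_colimit (h𝔛 := h𝔛) (colimit.isColimit (apxDiag F)) fun j =>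
    ObjectProperty.le_ind _ _ ((equivSmallModel.{u} (CohOver F)).inverse.obj j).left.property

theorem apxIns_zero (M : ModF 𝔛 h𝔛.1) (hM : IsCohF 𝔛 h𝔛.1 M) : apxIns F (cohOverMk F M hM 0) = 0 := by
  have h0 : IsCohF 𝔛 h𝔛.1 (kernel (𝟙 M)) := isCohF_of_isZero (h𝔛 := h𝔛) (isZero_kernel_of_mono _)
  rw [← apxIns_w F (cohOverHom F (k := cohOverMk F M hM 0) (l := cohOverMk F _ h0 0) 0 zero_comp)]
  exact zero_comp

set_option maxHeartbeats 1000000 in
omit F [EssentiallySmall.{u} (CohOver F)] in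
theorem exists_coh_preimage {N I R F : ModF 𝔛 h𝔛.1} (hN : IsCohF 𝔛 h𝔛.1 N) (hI : IsCohF 𝔛 h𝔛.1 I)
    (hR : IsIndCoh h𝔛.1 R) (ι : I ⟶ R) [Mono ι] (ψ : N ⟶ R) (ε : R ⟶ F) (hιε : ι ≫ ε = 0) (g : N ⟶ F)
    (h2 : ψ ≫ ε = g) {W : (𝔛.X 0).Opens} (m : FS N W) (n : FS I W) (hmn : ap ψ m = ap ι n) :
    ∃ (P : ModF 𝔛 h𝔛.1) (_ : IsCohF 𝔛 h𝔛.1 P) (j : P ⟶ N) (m' : FS P W),
      ap j m' = m ∧ j ≫ g = 0 ∧ ∃ q : P ⟶ I, q ≫ ι = j ≫ ψ := by
  let κ : N ⟶ cokernel ι := ψ ≫ cokernel.π ι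
  have hc := qcoh_of_allAffine (h𝔛 := h𝔛) (F := kernel κ) fun V hV =>
    (qcAt_of_coh (h𝔛 := h𝔛) hN hV).kernel κ
      (QcAt.cokernel ι (qcAt_of_coh (h𝔛 := h𝔛) hI hV).2.1 (qcAt_of_ind (h𝔛 := h𝔛) hR hV))
  have hft := isFiniteType_of_mono_coh (h𝔛 := h𝔛) hN (kernel.ι κ)
  obtain ⟨q, hq⟩ := exists_lift_of_mono ι (kernel.ι κ ≫ ψ) ((Category.assoc _ _ _).trans (kernel.condition κ))
  obtain ⟨m', hm'⟩ := SiteMod.exists_of_ap_kernel κ (x := m) (by
    rw [SiteMod.ap_comp, hmn, ← SiteMod.ap_comp, cokernel.condition]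
    rfl)
  refine ⟨kernel κ, isCohF_of_qc_ft (h𝔛 := h𝔛), kernel.ι κ, m', hm', ?_, q, hq⟩
  rw [← h2, ← Category.assoc, ← hq, Category.assoc, hιε, comp_zero]

theorem exists_stage_sum {W : (𝔛.X 0).Opens} (S : Finset (SmallModel.{u} (CohOver F)))
    (y : ∀ k, FS ((apxDiag F).obj k) W) :
    ∃ (N : ModF 𝔛 h𝔛.1) (hN : IsCohF 𝔛 h𝔛.1 N) (g : N ⟶ F) (m : FS N W),
      ap (apxIns F (cohOverMk F N hN g)) m = ∑ k ∈ S, ap (colimit.ι (apxDiag F) k) (y k) := by
  classical
  induction S using Finset.induction_on with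
  | empty =>
    have h0 : IsCohF 𝔛 h𝔛.1 (kernel (𝟙 F)) := isCohF_of_isZero (h𝔛 := h𝔛) (isZero_kernel_of_mono _)
    exact ⟨_, h0, 0, 0, (map_zero _).trans Finset.sum_empty.symm⟩
  | insert k S hk ih =>
    obtain ⟨N, hN, g, m, hm⟩ := ih
    let k' := (equivSmallModel.{u} (CohOver F)).inverse.obj k
    have hB := isCohF_biprod (h𝔛 := h𝔛) k'.left.property hN
    let L := cohOverMk F (k'.left.obj ⊞ N) hB (biprod.desc k'.hom g)
    have w₁ : biprod.inl ≫ apxIns F L = colimit.ι (apxDiag F) k :=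
      (apxIns_w F (cohOverHom F (k := k') (l := L) biprod.inl (biprod.inl_desc _ _))).trans
        (colimit_ι_apx F k).symm
    have w₂ : biprod.inr ≫ apxIns F L = apxIns F (cohOverMk F N hN g) :=
      apxIns_w F (cohOverHom F (k := cohOverMk F N hN g) (l := L) biprod.inr (biprod.inr_desc _ _))
    refine ⟨_, hB, biprod.desc k'.hom g, ap biprod.inl (y k) + ap biprod.inr m, ?_⟩
    rw [Finset.sum_insert hk, ← hm]
    refine (map_add ((Mod48.fgt.map (apxIns F L)).app (op W)).hom _ _).trans (congrArg₂ (· + ·) ?_ ?_)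
    · exact (SiteMod.ap_comp _ _ _).symm.trans (congrArg (fun χ => ap χ (y k)) w₁)
    · exact (SiteMod.ap_comp _ _ _).symm.trans (congrArg (fun χ => ap χ m) w₂)

set_option maxHeartbeats 1000000 in
/-- A coherent submodule of the approximation killed in `F` is zero. -/
theorem image_ι_eq_zero {M : ModF 𝔛 h𝔛.1} (hM : IsCohF 𝔛 h𝔛.1 M) (f : M ⟶ apx F) (hf : f ≫ apxHom F = 0)
    {W : (𝔛.X 0).Opens} (n : FS (Abelian.image f) W) : ap (Abelian.image.ι f) n = 0 := by
  have hR := isIndCoh_apx h𝔛 F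
  have := qcoh_of_allAffine (h𝔛 := h𝔛) (F := apx F) fun V hV => qcAt_of_ind (h𝔛 := h𝔛) hR hV
  have hI : IsCohF 𝔛 h𝔛.1 (Abelian.image f) := isCohF_image (h𝔛 := h𝔛) hM f
  have hιε : Abelian.image.ι f ≫ apxHom F = 0 := by
    rw [← cancel_epi (Abelian.factorThruImage f), ← Category.assoc, Abelian.image.fac, hf, comp_zero]
  refine fs_eq_zero (apx F) _ fun z hz => ?_
  have hh := SiteMod.exists_local_sum (colimit.isColimit (apxDiag F)) (ap (Abelian.image.ι f) n)
  obtain ⟨T, hT, hsum⟩ := hh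
  obtain ⟨W₁, v, hv, hzW₁⟩ := hT z hz
  obtain ⟨S, y, hy⟩ := hsum v hv
  obtain ⟨N, hN, g, m, hm⟩ := exists_stage_sum h𝔛 F S y
  have hmn : ap (apxIns F (cohOverMk F N hN g)) m =
      fres (apx F) (leOfHom v) (ap (Abelian.image.ι f) n) := hm.trans hy.symm
  obtain ⟨P, hP, j, m', hm', hg, hI0⟩ := exists_coh_preimage h𝔛 hN hI hR (Abelian.image.ι f)
    (apxIns F (cohOverMk F N hN g)) (apxHom F) hιε g (apxIns_hom F _) m (fres _ (leOfHom v) n)
    (hmn.trans (fres_ap _ _ _))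
  have h3 : j ≫ apxIns F (cohOverMk F N hN g) = 0 :=
    (apxIns_w F (cohOverHom F (k := cohOverMk F P hP 0) (l := cohOverMk F N hN g) j hg)).trans
      (apxIns_zero h𝔛 F P hP)
  refine ⟨W₁, leOfHom v, hzW₁, ?_⟩
  refine hmn.symm.trans ((congrArg (ap (apxIns F (cohOverMk F N hN g))) hm'.symm).trans ?_)
  exact (SiteMod.ap_comp j _ m').symm.trans (congrArg (fun χ => ap χ m') h3)

theorem eq_zero_of_comp_apxHom {M : ModF 𝔛 h𝔛.1} (hM : IsCohF 𝔛 h𝔛.1 M) (f : M ⟶ apx F)
    (hf : f ≫ apxHom F = 0) : f = 0 := by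
  suffices hzero : Abelian.image.ι f = 0 by rw [← Abelian.image.fac f, hzero, comp_zero]
  apply Mod48.fgt.map_injective
  refine PresheafOfModules.hom_ext fun W => ModuleCat.hom_ext (LinearMap.ext fun n => ?_)
  obtain ⟨W⟩ := W
  exact image_ι_eq_zero h𝔛 F hM f hf n

theorem hom_ext_apx {G : ModF 𝔛 h𝔛.1} (hG : IsIndCoh h𝔛.1 G) (a b : G ⟶ apx F)
    (hab : a ≫ apxHom F = b ≫ apxHom F) : a = b := by
  obtain ⟨J, _, _, pres, hpres⟩ := hG
  refine pres.isColimit.hom_ext fun j => sub_eq_zero.1 (eq_zero_of_comp_apxHom h𝔛 F (hpres j) _ ?_)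
  rw [Preadditive.sub_comp, Category.assoc, Category.assoc, hab, sub_self]

theorem exists_lift_apx {G : ModF 𝔛 h𝔛.1} (hG : IsIndCoh h𝔛.1 G) (b : G ⟶ F) :
    ∃ a : G ⟶ apx F, a ≫ apxHom F = b := by
  obtain ⟨J, _, _, pres, hpres⟩ := hG
  let s : Cocone pres.diag :=
    { pt := apx F
      ι := { app := fun j => apxIns F (cohOverMk F (pres.diag.obj j) (hpres j) (pres.ι.app j ≫ b))
             naturality := fun i j f => by
               refine Eq.trans ?_ (Category.comp_id _).symm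
               exact apxIns_w F (cohOverHom F (k := cohOverMk F (pres.diag.obj i) (hpres i) (pres.ι.app i ≫ b))
                 (l := cohOverMk F (pres.diag.obj j) (hpres j) (pres.ι.app j ≫ b)) (pres.diag.map f)
                 ((Category.assoc _ _ _).symm.trans
                   (congrArg (· ≫ b) ((pres.ι.naturality f).trans (Category.comp_id _))))) } }
  refine ⟨pres.isColimit.desc s, pres.isColimit.hom_ext fun j => ?_⟩
  rw [pres.isColimit.fac_assoc]
  exact apxIns_hom F _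

omit F [EssentiallySmall.{u} (CohOver F)] in
/-- The inclusion of filtered colimits of coherent modules has a right adjoint. -/
theorem isLeftAdjoint_indCoh : (IsIndCoh h𝔛.1).ι.IsLeftAdjoint := by
  have := essentiallySmall_coh (h𝔛 := h𝔛)
  suffices H : ∀ F : ModF 𝔛 h𝔛.1, HasTerminal (CostructuredArrow (IsIndCoh h𝔛.1).ι F) from
    isLeftAdjoint_of_costructuredArrowTerminals _
  intro F
  have : EssentiallySmall.{u} (CohOver F) := inferInstance
  let T : CostructuredArrow (IsIndCoh h𝔛.1).ι F :=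
    CostructuredArrow.mk (S := (IsIndCoh h𝔛.1).ι)
      (Y := (⟨apx F, isIndCoh_apx h𝔛 F⟩ : (IsIndCoh h𝔛.1).FullSubcategory)) (apxHom F)
  exact IsTerminal.hasTerminal (X := T) (IsTerminal.ofUniqueHom
    (fun A => CostructuredArrow.homMk (ObjectProperty.homMk (exists_lift_apx h𝔛 F A.left.property A.hom).choose)
      (exists_lift_apx h𝔛 F A.left.property A.hom).choose_spec)
    fun A g => CostructuredArrow.hom_ext _ _ (ObjectProperty.hom_ext _
      (hom_ext_apx h𝔛 F A.left.property _ _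
        ((CostructuredArrow.w g).trans (exists_lift_apx h𝔛 F A.left.property A.hom).choose_spec.symm))))

end Groth.Agent.FCompl13
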