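import Groth.Agent.FCompl13.QcSum
import Groth.Agent.SiteMod.OpensMod
import Groth.Agent.Coh69.Grothendieck
import Mathlib.CategoryTheory.Subobject.Lattice
import Mathlib.CategoryTheory.EssentiallySmall

/-!
Filtered colimits of coherent modules as the quasi-coherent modules generated by coherent modules.
-/

set_option autoImplicit false
set_option backward.isDefEq.respectTransparency false
set_option linter.style.haveILetI false

noncomputable section

universe u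

open CategoryTheory CategoryTheory.Limits AlgebraicGeometry TopologicalSpace Opposite

namespace Groth.Agent.FCompl13

open _root_.FSch
open SiteMod (ap)

variable {𝔛 : Sys.{u}}

/-- Filtered colimits of coherent modules. -/
abbrev IsIndCoh (h : 𝔛.IsFormal) : ObjectProperty (ModF 𝔛 h) :=
  ObjectProperty.ind.{u} fun G : ModF 𝔛 h => IsCohF 𝔛 h G

/-- Every section is locally in the image of a coherent module. -/
def CohGen {h : 𝔛.IsFormal} (F : ModF 𝔛 h) : Prop :=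
  ∀ (W : (𝔛.X 0).Opens) (x : FS F W), ∀ z ∈ W, ∃ (W' : (𝔛.X 0).Opens) (i : W' ≤ W) (M : ModF 𝔛 h)
    (_ : IsCohF 𝔛 h M) (φ : M ⟶ F) (m : FS M W'), z ∈ W' ∧ ap φ m = fres F i x

/-- Images of coherent modules are coherent. -/
def CohImg {h : 𝔛.IsFormal} (F : ModF 𝔛 h) : Prop :=
  ∀ M : ModF 𝔛 h, IsCohF 𝔛 h M → ∀ φ : M ⟶ F, IsCohF 𝔛 h (Abelian.image φ)

variable {h𝔛 : 𝔛.IsLocNoethFormal}

theorem qcoh_of_allAffine {F : ModF 𝔛 h𝔛.1} (H : ∀ V : (𝔛.X 0).Opens, IsAffineOpen V → QcAt h𝔛 F V) :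
    SheafOfModules.IsQuasicoherent.{u} F :=
  isQuasicoherent_of_qcAt (h𝔛 := h𝔛) fun x => by
    obtain ⟨V, hV, hxV, -⟩ := exists_isAffineOpen_mem_and_subset (X := 𝔛.X 0) (x := x) (U := ⊤) trivial
    exact ⟨V, hxV, H V hV⟩

theorem isCohF_of_isZero {F : ModF 𝔛 h𝔛.1} (hF : IsZero F) : IsCohF 𝔛 h𝔛.1 F := by
  refine isCohF_of_affine (h𝔛 := h𝔛) F fun x => ?_
  obtain ⟨V, -, hxV, -⟩ := exists_isAffineOpen_mem_and_subset (X := 𝔛.X 0) (x := x) (U := ⊤) trivial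
  have h0 : ∀ {W : (𝔛.X 0).Opens} (y : FS F W), y = 0 := fun y =>
    congrArg (fun ψ : F ⟶ F => ap ψ y) (hF.eq_of_src (𝟙 F) 0)
  refine ⟨V, hxV, ⟨{ ι := PEmpty.{u + 1}, κ := PEmpty.{u + 1}, a := fun t => t.elim, r := fun t => t.elim
                     rel := fun t => t.elim, gen := fun W g y => ⟨⊤, GrothendieckTopology.top_mem _ W, fun U v _ => ?_⟩
                     kerr := fun W g c _ => ⟨⊤, GrothendieckTopology.top_mem _ W, fun U v _ => ?_⟩ }⟩⟩
  · exact ⟨fun t => t.elim, (h0 _).trans (h0 _).symm⟩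
  · exact ⟨fun t => t.elim, fun i => i.elim⟩

theorem isCohF_of_iso {F G : ModF 𝔛 h𝔛.1} (e : F ≅ G) (hF : IsCohF 𝔛 h𝔛.1 F) : IsCohF 𝔛 h𝔛.1 G := by
  refine isCohF_of_affine (h𝔛 := h𝔛) G fun x => ?_
  obtain ⟨V, hV, hxV, -⟩ := exists_isAffineOpen_mem_and_subset (X := 𝔛.X 0) (x := x) (U := ⊤) trivial
  obtain ⟨d⟩ := nonempty_locPres_coh (h𝔛 := h𝔛) hF hV
  exact ⟨V, hxV, locPres_of_iso e d⟩

theorem isQuasicoherent_of_coh {M : ModF 𝔛 h𝔛.1} (hM : IsCohF 𝔛 h𝔛.1 M) : SheafOfModules.IsQuasicoherent.{u} M :=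
  qcoh_of_allAffine (h𝔛 := h𝔛) fun _ hV => qcAt_of_coh (h𝔛 := h𝔛) hM hV

theorem isFiniteType_of_coh {M : ModF 𝔛 h𝔛.1} (hM : IsCohF 𝔛 h𝔛.1 M) : SheafOfModules.IsFiniteType.{u} M := by
  have : M.IsFinitePresentation := hM
  infer_instance

theorem isCohF_of_qc_ft {M : ModF 𝔛 h𝔛.1} [SheafOfModules.IsQuasicoherent.{u} M]
    [SheafOfModules.IsFiniteType.{u} M] : IsCohF 𝔛 h𝔛.1 M :=
  isCohF_of_mono (h𝔛 := h𝔛) (𝟙 M)

theorem QcAt.biprod {F G : ModF 𝔛 h𝔛.1} {V : (𝔛.X 0).Opens} (hF : QcAt h𝔛 F V) (hG : QcAt h𝔛 G V) :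
    QcAt h𝔛 (F ⊞ G) V := by
  let A : Bool → ModF 𝔛 h𝔛.1 := fun b => cond b F G
  refine qcAt_of_total A (K := F ⊞ G)
    (fun b => match b with | true => biprod.fst | false => biprod.snd)
    (fun b => match b with | true => biprod.inl | false => biprod.inr) ?_ hF.1
    (fun b => match b with | true => hF | false => hG)
  rw [Fintype.sum_bool]
  exact biprod.total

theorem isCohF_biprod {M N : ModF 𝔛 h𝔛.1} (hM : IsCohF 𝔛 h𝔛.1 M) (hN : IsCohF 𝔛 h𝔛.1 N) :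
    IsCohF 𝔛 h𝔛.1 (M ⊞ N) := by
  have := qcoh_of_allAffine (h𝔛 := h𝔛) (F := M ⊞ N) fun V hV => (qcAt_of_coh (h𝔛 := h𝔛) hM hV).biprod (qcAt_of_coh (h𝔛 := h𝔛) hN hV)
  let S := ShortComplex.mk (biprod.inl : M ⟶ M ⊞ N) biprod.snd biprod.inl_snd
  have hS : S.ShortExact := (ShortComplex.Splitting.ofHasBinaryBiproduct M N).shortExact
  have : S.X₁.IsFiniteType := isFiniteType_of_coh (h𝔛 := h𝔛) hM
  have : S.X₃.IsFiniteType := isFiniteType_of_coh (h𝔛 := h𝔛) hN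
  have : SheafOfModules.IsFiniteType.{u} (M ⊞ N) := SiteMod.isFiniteType_X₂ S hS
  exact isCohF_of_qc_ft (h𝔛 := h𝔛)

theorem isCohF_image {M F : ModF 𝔛 h𝔛.1} (hM : IsCohF 𝔛 h𝔛.1 M) [SheafOfModules.IsQuasicoherent.{u} F]
    (φ : M ⟶ F) : IsCohF 𝔛 h𝔛.1 (Abelian.image φ) := by
  have := isFiniteType_of_coh (h𝔛 := h𝔛) hM
  have : SheafOfModules.IsFiniteType.{u} (Abelian.image φ) := isFiniteType_of_epi' (Abelian.factorThruImage φ)
  exact isCohF_of_mono (h𝔛 := h𝔛) (Abelian.image.ι φ)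

theorem cohGen_of_local_sum {F : ModF 𝔛 h𝔛.1}
    (H : ∀ (W : (𝔛.X 0).Opens) (x : FS F W), ∀ z ∈ W, ∃ (W' : (𝔛.X 0).Opens) (i : W' ≤ W) (n : ℕ)
      (M : Fin n → ModF 𝔛 h𝔛.1) (φ : ∀ k, M k ⟶ F) (m : ∀ k, FS (M k) W'),
        (∀ k, IsCohF 𝔛 h𝔛.1 (M k)) ∧ z ∈ W' ∧ ∑ k, ap (φ k) (m k) = fres F i x) :
    CohGen F := by
  intro W x z hz
  obtain ⟨W', i, n, M, φ, m, hM, hzW', hsum⟩ := H W x z hz
  suffices h1 : ∀ n (M : Fin n → ModF 𝔛 h𝔛.1) (φ : ∀ k, M k ⟶ F) (m : ∀ k, FS (M k) W'),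
      (∀ k, IsCohF 𝔛 h𝔛.1 (M k)) → ∃ (N : ModF 𝔛 h𝔛.1) (_ : IsCohF 𝔛 h𝔛.1 N) (ψ : N ⟶ F) (m' : FS N W'),
        ap ψ m' = ∑ k, ap (φ k) (m k) by
    obtain ⟨N, hN, ψ, m', hm'⟩ := h1 n M φ m hM
    exact ⟨W', i, N, hN, ψ, m', hzW', hm'.trans hsum⟩
  intro n
  induction n with
  | zero =>
    intro M φ m hM
    refine ⟨kernel (𝟙 F), isCohF_of_isZero (h𝔛 := h𝔛) (isZero_kernel_of_mono _), 0, 0, ?_⟩
    rw [Fin.sum_univ_zero]
    exact map_zero _
  | succ n ih =>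
    intro M φ m hM
    obtain ⟨N, hN, ψ, m', hm'⟩ :=
      ih (fun k => M k.succ) (fun k => φ k.succ) (fun k => m k.succ) fun k => hM _
    refine ⟨M 0 ⊞ N, isCohF_biprod (h𝔛 := h𝔛) (hM 0) hN, biprod.desc (φ 0) ψ,
      ap biprod.inl (m 0) + ap biprod.inr m', ?_⟩
    rw [Fin.sum_univ_succ, ← hm']
    refine (map_add ((Mod48.fgt.map (biprod.desc (φ 0) ψ)).app (op W')).hom _ _).trans (congrArg₂ (· + ·) ?_ ?_)
    · exact (SiteMod.ap_comp _ _ _).symm.trans (congrArg (fun χ => ap χ (m 0)) (biprod.inl_desc _ _))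
    · exact (SiteMod.ap_comp _ _ _).symm.trans (congrArg (fun χ => ap χ m') (biprod.inr_desc _ _))

theorem cohGen_of_ind {F : ModF 𝔛 h𝔛.1} (hF : IsIndCoh h𝔛.1 F) : CohGen F := by
  intro W x z hz
  obtain ⟨J, _, _, pres, hpres⟩ := hF
  have hh := SiteMod.exists_local_rep pres.isColimit x
  obtain ⟨T, hT, hy⟩ := hh
  obtain ⟨W', v, hv, hzW'⟩ := hT z hz
  obtain ⟨k, y, hy⟩ := hy v hv
  exact ⟨W', leOfHom v, pres.diag.obj k, hpres k, pres.ι.app k, y, hzW', hy⟩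

section CohSub

variable {h : 𝔛.IsFormal} (F : ModF 𝔛 h)

/-- The coherent submodules. -/
abbrev CohSub : Type (u + 1) := {S : Subobject F // IsCohF 𝔛 h (S : ModF 𝔛 h)}

/-- The diagram of coherent submodules. -/
def cohSubDiag : CohSub F ⥤ ModF 𝔛 h :=
  (show Monotone (fun S : CohSub F => S.1) from fun _ _ e => e).functor ⋙ Subobject.underlying

/-- The inclusions of the coherent submodules. -/
def cohSubCocone : Cocone (cohSubDiag F) where
  pt := F
  ι := { app := fun S => S.1.arrow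
         naturality := fun _ _ _ => (Subobject.underlying_arrow _).trans (Category.comp_id _).symm }

end CohSub

variable (F : ModF 𝔛 h𝔛.1)

variable (hImg : CohImg F)

include hImg in
theorem exists_cohSub {M : ModF 𝔛 h𝔛.1} (hM : IsCohF 𝔛 h𝔛.1 M) (φ : M ⟶ F) :
    ∃ (S : CohSub F) (ψ : M ⟶ S.1), ψ ≫ S.1.arrow = φ := by
  refine ⟨⟨Subobject.mk (Abelian.image.ι φ), isCohF_of_iso (h𝔛 := h𝔛) (Subobject.underlyingIso _).symm (hImg M hM φ)⟩,
    Abelian.factorThruImage φ ≫ (Subobject.underlyingIso _).inv, ?_⟩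
  rw [Category.assoc, Subobject.underlyingIso_arrow, Abelian.image.fac]

include hImg in
theorem isFiltered_cohSub : IsFiltered (CohSub F) := by
  have h0 : Nonempty (CohSub F) := by
    obtain ⟨S, -⟩ := exists_cohSub (h𝔛 := h𝔛) F hImg (isCohF_of_isZero (h𝔛 := h𝔛) (isZero_zero _)) 0
    exact ⟨S⟩
  have : IsDirectedOrder (CohSub F) := ⟨fun S T => by
    obtain ⟨U, ψ, hψ⟩ := exists_cohSub (h𝔛 := h𝔛) F hImg (isCohF_biprod (h𝔛 := h𝔛) S.2 T.2) (biprod.desc S.1.arrow T.1.arrow)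
    refine ⟨U, Subobject.le_of_comm (biprod.inl ≫ ψ) ?_, Subobject.le_of_comm (biprod.inr ≫ ψ) ?_⟩ <;>
      simp [hψ]⟩
  infer_instance

theorem small_cohSub : Small.{u} (CohSub F) :=
  have : IsGrothendieckAbelian.{u} (ModF 𝔛 h𝔛.1) :=
    Coh69.sheafOfModules_isGrothendieckAbelian (ModSite.ringSh (𝔛.Osh h𝔛.1))
  have : WellPowered.{u} (ModF 𝔛 h𝔛.1) := IsGrothendieckAbelian.wellPowered _
  small_of_injective (f := fun S : CohSub F => S.1) Subtype.val_injective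

include hImg in
/-- A module generated by coherent modules with coherent images is the union of its coherent submodules. -/
theorem exists_presentation_mono' (hF : CohGen F) :
    ∃ (J : Type u) (_ : SmallCategory J) (_ : IsFiltered J) (pres : ColimitPresentation J F),
      (∀ j : J, IsCohF 𝔛 h𝔛.1 (pres.diag.obj j)) ∧ ∀ j : J, Mono (pres.ι.app j) := by
  have := small_cohSub (h𝔛 := h𝔛) F
  have := isFiltered_cohSub (h𝔛 := h𝔛) F hImg
  have : EssentiallySmall.{u} (CohSub F) := essentiallySmall_of_small_of_locallySmall _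
  let e := equivSmallModel.{u} (CohSub F)
  let D := e.inverse ⋙ cohSubDiag F
  have : IsFiltered (SmallModel.{u} (CohSub F)) := IsFiltered.of_equivalence e
  let c : Cocone D := (cohSubCocone F).whisker e.inverse
  have hepi : Epi (colimit.desc D c) := by
    refine (SiteMod.epi_iff_locSurj _).2 fun W x => ?_
    refine exists_sieve_of_near (fun U i => ∃ y : FS (colimit D) U, ap (colimit.desc D c) y = fres F i x)
      (fun U i U' j ⟨y, hy⟩ => ⟨fres (colimit D) j y,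
        (fres_ap (colimit.desc D c) j y).symm.trans ((congrArg (fres F j) hy).trans (fres_fres F i j x))⟩) fun z hz => ?_
    obtain ⟨W', i, M, hM, φ, m, hzW', hm⟩ := hF W x z hz
    obtain ⟨S, ψ, hψ⟩ := exists_cohSub (h𝔛 := h𝔛) F hImg hM φ
    let η := (e.unitIso.app S).hom
    refine ⟨W', i, hzW', ap (ψ ≫ (cohSubDiag F).map η ≫ colimit.ι D (e.functor.obj S)) m, ?_⟩
    rw [← SiteMod.ap_comp]
    refine Eq.trans (congrArg (fun χ => ap χ m) ?_) hm
    simp only [Category.assoc, colimit.ι_desc]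
    rw [← hψ]
    exact congrArg (ψ ≫ ·) ((cohSubCocone F).w η)
  have hmono : Mono (colimit.desc D c) := by
    refine SiteMod.mono_of_ap_injective _ fun W y hy => ?_
    have hh := SiteMod.exists_local_rep (colimit.isColimit D) y
    obtain ⟨T, hT, hr⟩ := hh
    refine SiteMod.eq_zero_of_locally hT fun U v hv => ?_
    obtain ⟨k, w, hw⟩ := hr v hv
    have : Mono (c.ι.app k) := inferInstanceAs (Mono (e.inverse.obj k).1.arrow)
    have h1 : ap (c.ι.app k) w = 0 := by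
      refine (congrArg (fun χ => ap χ w) (colimit.ι_desc c k)).symm.trans ((SiteMod.ap_comp _ _ _).trans ?_)
      refine (congrArg (ap (colimit.desc D c)) hw).trans ((SiteMod.res_ap (colimit.desc D c) v y).symm.trans ?_)
      exact (congrArg (Mod48.res (Mod48.pre c.pt) v.op) hy).trans (SiteMod.res_zero _ _)
    have h2 : w = 0 := ap_injective (c.ι.app k) (h1.trans (map_zero _).symm)
    refine (hw.symm.trans (congrArg (ap ((colimit.cocone D).ι.app k)) h2)).trans ?_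
    exact map_zero _
  have : IsIso (colimit.desc D c) := isIso_of_mono_of_epi _
  refine ⟨SmallModel.{u} (CohSub F), inferInstance, inferInstance,
    { diag := D, ι := c.ι, isColimit := haveI : IsIso ((colimit.isColimit D).desc c) := this
      IsColimit.ofPointIso (t := c) (colimit.isColimit D) }, fun j => ?_, fun j => ?_⟩
  · exact (e.inverse.obj j).2
  · exact inferInstanceAs (Mono (e.inverse.obj j).1.arrow)

include hImg in
theorem isIndCoh_of_cohImg (hF : CohGen F) : IsIndCoh h𝔛.1 F := by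
  obtain ⟨J, i₁, i₂, pres, hc, -⟩ := exists_presentation_mono' (h𝔛 := h𝔛) F hImg hF
  exact ⟨J, i₁, i₂, pres, hc⟩

variable [SheafOfModules.IsQuasicoherent.{u} F]

theorem cohImg_of_qcoh : CohImg F := fun _ hM φ => isCohF_image (h𝔛 := h𝔛) hM φ

/-- A quasi-coherent module generated by coherent modules is the union of its coherent submodules. -/
theorem exists_presentation_mono (hF : CohGen F) :
    ∃ (J : Type u) (_ : SmallCategory J) (_ : IsFiltered J) (pres : ColimitPresentation J F),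
      (∀ j : J, IsCohF 𝔛 h𝔛.1 (pres.diag.obj j)) ∧ ∀ j : J, Mono (pres.ι.app j) :=
  exists_presentation_mono' (h𝔛 := h𝔛) F (cohImg_of_qcoh (h𝔛 := h𝔛) F) hF

theorem isIndCoh_of_cohGen (hF : CohGen F) : IsIndCoh h𝔛.1 F :=
  isIndCoh_of_cohImg (h𝔛 := h𝔛) F (cohImg_of_qcoh (h𝔛 := h𝔛) F) hF

omit F [SheafOfModules.IsQuasicoherent.{u} F] in
/-- Filtered colimits of coherent modules are closed under colimits. -/
theorem isIndCoh_colimit {J : Type u} [SmallCategory J] {D : J ⥤ ModF 𝔛 h𝔛.1} {c : Cocone D} (hc : IsColimit c)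
    (hD : ∀ j, IsIndCoh h𝔛.1 (D.obj j)) : IsIndCoh h𝔛.1 c.pt := by
  have := qcoh_of_allAffine (h𝔛 := h𝔛) (F := c.pt) fun V hV => qcAt_colimit hc hV fun j => qcAt_of_ind (h𝔛 := h𝔛) (hD j) hV
  refine isIndCoh_of_cohGen (h𝔛 := h𝔛) c.pt (cohGen_of_local_sum (h𝔛 := h𝔛) fun W x z hz => ?_)
  have hh := SiteMod.exists_local_sum hc x
  obtain ⟨T, hT, hs⟩ := hh
  obtain ⟨W₁, v, hv, hzW₁⟩ := hT z hz
  obtain ⟨S, y, hy⟩ := hs v hv
  classical
  obtain ⟨W', i, -, hzW', hW'⟩ := exists_common_affine hzW₁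
    (P := fun k : S => fun U i => ∃ (M : ModF 𝔛 h𝔛.1) (_ : IsCohF 𝔛 h𝔛.1 M) (φ : M ⟶ D.obj k.1) (m : FS M U),
      ap φ m = fres (D.obj k.1) i (y k.1))
    (fun k U i U' j ⟨M, hM, φ, m, hm⟩ => ⟨M, hM, φ, fres M j m, by rw [← fres_ap, hm, fres_fres]⟩)
    (fun k => by
      obtain ⟨U, i, M, hM, φ, m, hzU, hm⟩ := cohGen_of_ind (h𝔛 := h𝔛) (hD k.1) W₁ (y k.1) z hzW₁
      exact ⟨U, i, hzU, M, hM, φ, m, hm⟩)
  choose M hM φ m hm using hW'
  let σ := S.equivFin.symm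
  refine ⟨W', i.trans (leOfHom v), S.card, fun k => M (σ k), fun k => φ (σ k) ≫ c.ι.app (σ k).1,
    fun k => m (σ k), fun k => hM _, hzW', ?_⟩
  rw [← fres_fres c.pt (leOfHom v) i, show fres c.pt (leOfHom v) x = _ from hy, fres_sum,
    ← Finset.sum_coe_sort S, ← σ.sum_comp]
  exact Finset.sum_congr rfl fun k _ => (SiteMod.ap_comp _ _ _).trans
    ((congrArg (ap (c.ι.app (σ k).1)) (hm (σ k))).trans (fres_ap (c.ι.app (σ k).1) i _).symm)

end Groth.Agent.FCompl13
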