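import Groth.Agent.FCompl13.IndFree
import Groth.Agent.SiteMod.GlueGen
import Mathlib.AlgebraicGeometry.Noetherian
import Mathlib.CategoryTheory.Abelian.Exact

/-!
Extensions of filtered colimits of coherent modules on a Noetherian formal scheme.
-/

set_option autoImplicit false
set_option backward.isDefEq.respectTransparency false
set_option linter.style.haveILetI false

noncomputable section

universe u

open CategoryTheory CategoryTheory.Limits AlgebraicGeometry TopologicalSpace Opposite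

namespace Groth.Agent.FCompl13

open _root_.FSch
open SiteMod (ap)

variable {𝔛 : Sys.{u}}

theorem exists_shortExact_of_five {C : Type*} [Category C] [Abelian C] (S : ComposableArrows C 4) (hS : S.Exact) :
    ∃ (a : cokernel (S.map' 0 1) ⟶ S.obj 2) (b : S.obj 2 ⟶ kernel (S.map' 3 4)) (w : a ≫ b = 0),
      (ShortComplex.mk a b w).ShortExact := by
  have e₁ := hS.exact 0
  have e₂ := hS.exact 1
  have e₃ := hS.exact 2
  let a : cokernel (S.map' 0 1) ⟶ S.obj 2 := cokernel.desc (S.map' 0 1) (S.map' 1 2) (hS.toIsComplex.zero 0)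
  let b : S.obj 2 ⟶ kernel (S.map' 3 4) := kernel.lift (S.map' 3 4) (S.map' 2 3) (hS.toIsComplex.zero 2)
  have : Mono a := (ShortComplex.exact_iff_mono_cokernel_desc _).1 e₁
  have : Epi b := (ShortComplex.exact_iff_epi_kernel_lift _).1 e₃
  have hz : a ≫ S.map' 2 3 = 0 := by
    rw [← cancel_epi (cokernel.π (S.map' 0 1)), ← Category.assoc, cokernel.π_desc, comp_zero]
    exact hS.toIsComplex.zero 1
  have w : a ≫ b = 0 := by
    rw [← cancel_mono (kernel.ι (S.map' 3 4)), Category.assoc, kernel.lift_ι, zero_comp]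
    exact hz
  refine ⟨a, b, w, { exact := ?_, mono_f := inferInstanceAs (Mono a), epi_g := inferInstanceAs (Epi b) }⟩
  let T := ShortComplex.mk a (S.map' 2 3) hz
  let φ₁ : S.sc hS.toIsComplex 1 ⟶ T := ShortComplex.homMk (cokernel.π _) (𝟙 _) (𝟙 _)
    ((cokernel.π_desc _ _ _).trans (Category.comp_id _).symm)
    ((Category.id_comp _).trans (Category.comp_id _).symm)
  have : Epi φ₁.τ₁ := inferInstanceAs (Epi (cokernel.π _))
  have : IsIso φ₁.τ₂ := inferInstanceAs (IsIso (𝟙 _))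
  have : Mono φ₁.τ₃ := inferInstanceAs (Mono (𝟙 _))
  have hT : T.Exact := (ShortComplex.exact_iff_of_epi_of_isIso_of_mono φ₁).1 e₂
  let φ₂ : ShortComplex.mk a b w ⟶ T := ShortComplex.homMk (𝟙 _) (𝟙 _) (kernel.ι _)
    ((Category.id_comp _).trans (Category.comp_id _).symm)
    ((Category.id_comp _).trans (kernel.lift_ι _ _ _).symm)
  have : Epi φ₂.τ₁ := inferInstanceAs (Epi (𝟙 _))
  have : IsIso φ₂.τ₂ := inferInstanceAs (IsIso (𝟙 _))
  have : Mono φ₂.τ₃ := inferInstanceAs (Mono (kernel.ι _))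
  exact (ShortComplex.exact_iff_of_epi_of_isIso_of_mono φ₂).2 hT

theorem pullback_section_props {C : Type*} [Category C] [Abelian C] {N A E B : C} (f : A ⟶ E) (g : E ⟶ B)
    (w : f ≫ g = 0) (θ : N ⟶ A) (σ : B ⟶ cokernel (θ ≫ f))
    (hσ : σ ≫ cokernel.desc (θ ≫ f) g (by rw [Category.assoc, w, comp_zero]) = 𝟙 B) :
    pullback.fst (cokernel.π (θ ≫ f)) σ ≫ g = pullback.snd (cokernel.π (θ ≫ f)) σ ∧
      ∃ q : Abelian.image (θ ≫ f) ⟶ kernel (pullback.snd (cokernel.π (θ ≫ f)) σ), Epi q := by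
  let π := cokernel.π (θ ≫ f)
  let q : Abelian.image (θ ≫ f) ⟶ kernel (pullback.snd π σ) :=
    kernel.lift _ (pullback.lift (Abelian.image.ι (θ ≫ f)) 0 (by
      rw [zero_comp]
      exact kernel.condition _)) (pullback.lift_snd _ _ _)
  let r : kernel (pullback.snd π σ) ⟶ Abelian.image (θ ≫ f) :=
    kernel.lift π (kernel.ι _ ≫ pullback.fst π σ) (by
      rw [Category.assoc, pullback.condition, ← Category.assoc]
      exact (congrArg (· ≫ σ) (kernel.condition _)).trans zero_comp)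
  have hrq : r ≫ q = 𝟙 _ := by
    rw [← cancel_mono (kernel.ι (pullback.snd π σ)), Category.assoc, kernel.lift_ι, Category.id_comp]
    refine pullback.hom_ext ?_ ?_
    · rw [Category.assoc, pullback.lift_fst]
      exact kernel.lift_ι _ _ _
    · rw [Category.assoc, pullback.lift_snd, comp_zero, kernel.condition]
  refine ⟨?_, q, ?_⟩
  · rw [show g = π ≫ cokernel.desc (θ ≫ f) g (by rw [Category.assoc, w, comp_zero]) from
      (cokernel.π_desc _ _ _).symm, ← Category.assoc, pullback.condition, Category.assoc, hσ, Category.comp_id]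
  · have : Epi (r ≫ q) := by rw [hrq]; infer_instance
    exact epi_of_epi r q

section Helpers

variable {h : 𝔛.IsFormal}

theorem exists_preimage_ker {S : ShortComplex (ModF 𝔛 h)} (hS : S.ShortExact) {W : (𝔛.X 0).Opens}
    {x : FS S.X₂ W} (hx : ap S.g x = 0) : ∃ y : FS S.X₁ W, ap S.f y = x :=
  have := hS.mono_f
  SiteMod.exists_preimage_of_ap_eq_zero hS.exact hx

/-- Relations in an extension are finitely generated. -/
theorem relFin_extension {S : ShortComplex (ModF 𝔛 h)} (hS : S.ShortExact) {V : (𝔛.X 0).Opens}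
    (hA : RelFin S.X₁ V) (hB : RelFin S.X₃ V) : RelFin S.X₂ V := by
  intro ι _ y
  obtain ⟨κ, _, r, hr, hgen⟩ := hB ι inferInstance fun t => ap S.g (y t)
  have hz : ∀ s, ap S.g (∑ t, r s t • y t) = 0 := fun s => (SiteMod.ap_lincomb S.g (r s) y).trans (hr s)
  choose α hα using fun s => exists_preimage_ker hS (hz s)
  obtain ⟨κ', _, r', hr', hgen'⟩ := hA κ inferInstance α
  refine ⟨κ', inferInstance, fun s' t => ∑ s, r' s' s * r s t, fun s' => ?_, fun W i hW c hc => ?_⟩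
  · have e : ∑ t, (∑ s, r' s' s * r s t) • y t = ∑ s, r' s' s • ∑ t, r s t • y t := by
      simp only [Finset.sum_smul, Finset.smul_sum, mul_smul]
      exact Finset.sum_comm
    rw [e]
    simp only [← hα]
    rw [← SiteMod.ap_lincomb, hr' s']
    exact map_zero _
  · have h0 : ∑ t, c t • fres S.X₃ i (ap S.g (y t)) = 0 := by
      rw [← ap_fres_lincomb, hc]
      exact map_zero _
    obtain ⟨d, hd⟩ := (Submodule.mem_span_range_iff_exists_fun _).1 (hgen W i hW c h0)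
    have hd' : ∀ t, c t = ∑ s, d s * FBlow13.res 𝔛 h i (r s t) := fun t => by
      have h1 := congrFun hd t
      simp only [Finset.sum_apply, Pi.smul_apply, smul_eq_mul, vres] at h1
      exact h1.symm
    have h1 : ∑ s, d s • fres S.X₁ i (α s) = 0 := by
      have := hS.mono_f
      refine ap_injective S.f ?_
      change ap S.f _ = ap S.f 0
      rw [ap_fres_lincomb, show ap S.f (0 : FS S.X₁ W) = 0 from map_zero _]
      refine Eq.trans ?_ hc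
      simp only [hα, fres_sum, fres_smul, Finset.smul_sum, hd', Finset.sum_smul, mul_smul]
      exact Finset.sum_comm
    obtain ⟨e, he⟩ := (Submodule.mem_span_range_iff_exists_fun _).1 (hgen' W i hW d h1)
    refine (Submodule.mem_span_range_iff_exists_fun _).2 ⟨e, funext fun t => ?_⟩
    have he' : ∀ s, d s = ∑ s', e s' * FBlow13.res 𝔛 h i (r' s' s) := fun s => by
      have h2 := congrFun he s
      simp only [Finset.sum_apply, Pi.smul_apply, smul_eq_mul, vres] at h2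
      exact h2.symm
    simp only [Finset.sum_apply, Pi.smul_apply, smul_eq_mul, vres, map_sum, map_mul, hd', he',
      Finset.mul_sum, Finset.sum_mul, mul_assoc]
    exact Finset.sum_comm

/-- The section is locally in the image of the map. -/
def InIm {N A : ModF 𝔛 h} (θ : N ⟶ A) {U : (𝔛.X 0).Opens} (x : FS A U) : Prop :=
  ∀ z ∈ U, ∃ (W : (𝔛.X 0).Opens) (i : W ≤ U) (n : FS N W), z ∈ W ∧ ap θ n = fres A i x

theorem InIm.ap_cokernel {N A E : ModF 𝔛 h} {θ : N ⟶ A} {U : (𝔛.X 0).Opens} {x : FS A U}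
    (hx : InIm θ x) (f : A ⟶ E) : ap (cokernel.π (θ ≫ f)) (ap f x) = 0 := by
  refine fs_eq_zero _ _ fun z hz => ?_
  obtain ⟨W, i, n, hzW, hn⟩ := hx z hz
  refine ⟨W, i, hzW, ?_⟩
  rw [fres_ap, fres_ap, ← hn, ← SiteMod.ap_comp, ← SiteMod.ap_comp, ← Category.assoc, cokernel.condition]
  rfl

theorem comb_transfer (G : ModF 𝔛 h) {W W' U V₁ V₂ : (𝔛.X 0).Opens} (g : W ≤ V₁) (g' : W ≤ V₂)
    (i : W' ≤ W) (k : W' ≤ U) (u₁ : U ≤ V₁) (u₂ : U ≤ V₂) {q₁ q₂ : Type u} [Fintype q₁] [Fintype q₂]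
    (a₁ : q₁ → FS G V₁) (a₂ : q₂ → FS G V₂) (γ : q₁ → q₂ → FBlow13.Sec 𝔛 h U)
    (hγ : ∀ t, fres G u₁ (a₁ t) = ∑ l, γ t l • fres G u₂ (a₂ l))
    (c : q₁ → FBlow13.Sec 𝔛 h W) (c' : q₂ → FBlow13.Sec 𝔛 h W) :
    fres G i (∑ t, c t • fres G g (a₁ t)) - fres G i (∑ l, c' l • fres G g' (a₂ l)) =
      ∑ l, (∑ t, FBlow13.res 𝔛 h i (c t) * FBlow13.res 𝔛 h k (γ t l) - FBlow13.res 𝔛 h i (c' l)) •
        fres G (i.trans g') (a₂ l) := by
  have h1 : ∀ t, fres G (i.trans g) (a₁ t) =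
      ∑ l, FBlow13.res 𝔛 h k (γ t l) • fres G (i.trans g') (a₂ l) := fun t => by
    have h2 := congrArg (fres G k) (hγ t)
    rw [fres_fres, fres_sum] at h2
    simp only [fres_smul, fres_fres] at h2
    exact h2
  simp only [fres_sum, fres_smul, fres_fres, sub_smul, Finset.sum_sub_distrib, Finset.sum_smul, mul_smul]
  refine congrArg (· - _) ?_
  rw [Finset.sum_comm]
  refine Finset.sum_congr rfl fun t _ => ?_
  rw [h1 t, Finset.smul_sum]

end Helpers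

variable {h𝔛 : 𝔛.IsLocNoethFormal}

theorem isCohF_kernel {N R : ModF 𝔛 h𝔛.1} (hN : IsCohF 𝔛 h𝔛.1 N)
    (hR : ∀ V, IsAffineOpen V → QcAt h𝔛 R V) (κ : N ⟶ R) : IsCohF 𝔛 h𝔛.1 (kernel κ) := by
  have := qcoh_of_allAffine (h𝔛 := h𝔛) (F := kernel κ) fun V hV =>
    (qcAt_of_coh (h𝔛 := h𝔛) hN hV).kernel κ (hR V hV)
  have := isFiniteType_of_mono_coh (h𝔛 := h𝔛) hN (kernel.ι κ)
  exact isCohF_of_qc_ft (h𝔛 := h𝔛)

theorem isIndCoh_kernel {F G : ModF 𝔛 h𝔛.1} (φ : F ⟶ G) (hF : IsIndCoh h𝔛.1 F) (hG : IsIndCoh h𝔛.1 G) :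
    IsIndCoh h𝔛.1 (kernel φ) := by
  have := qcoh_of_allAffine (h𝔛 := h𝔛) (F := kernel φ) fun V hV =>
    (qcAt_of_ind (h𝔛 := h𝔛) hF hV).kernel φ (qcAt_of_ind (h𝔛 := h𝔛) hG hV)
  refine isIndCoh_of_cohGen (h𝔛 := h𝔛) _ fun W x z hz => ?_
  obtain ⟨W', i, M, hM, ψ, m, hzW', hm⟩ := cohGen_of_ind (h𝔛 := h𝔛) hF W (ap (kernel.ι φ) x) z hz
  have hm0 : ap (ψ ≫ φ) m = 0 := by
    rw [SiteMod.ap_comp, hm, ← fres_ap, ← SiteMod.ap_comp, kernel.condition]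
    exact fres_zero _ _
  obtain ⟨m', hm'⟩ := SiteMod.exists_of_ap_kernel (ψ ≫ φ) hm0
  refine ⟨W', i, kernel (ψ ≫ φ), isCohF_kernel hM (fun V hV => qcAt_of_ind (h𝔛 := h𝔛) hG hV) _,
    kernel.lift φ (kernel.ι (ψ ≫ φ) ≫ ψ) (by rw [Category.assoc]; exact kernel.condition _), m', hzW',
    ap_injective (kernel.ι φ) ?_⟩
  change ap (kernel.ι φ) _ = ap (kernel.ι φ) _
  rw [← SiteMod.ap_comp, kernel.lift_ι, SiteMod.ap_comp, hm', hm, fres_ap]

theorem isCohF_image_extension {S : ShortComplex (ModF 𝔛 h𝔛.1)} (hS : S.ShortExact)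
    (hA : ∀ V, IsAffineOpen V → QcAt h𝔛 S.X₁ V) (hB : ∀ V, IsAffineOpen V → QcAt h𝔛 S.X₃ V)
    {M : ModF 𝔛 h𝔛.1} [SheafOfModules.IsFiniteType.{u} M] (φ : M ⟶ S.X₂) :
    IsCohF 𝔛 h𝔛.1 (Abelian.image φ) := by
  have : SheafOfModules.IsFiniteType.{u} (Abelian.image φ) := isFiniteType_of_epi' (Abelian.factorThruImage φ)
  refine isCohF_of_affine (h𝔛 := h𝔛) _ fun x => ?_
  have hh := SiteMod.exists_genAt_cover (O := 𝔛.Osh h𝔛.1) (Abelian.image φ) ⊤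
  obtain ⟨T, hT, hg⟩ := hh
  obtain ⟨Y, v, hv, hxY⟩ := hT x trivial
  obtain ⟨q, _, a, ha⟩ := hg v hv
  obtain ⟨V, hV, hxV, hVY⟩ := exists_isAffineOpen_mem_and_subset hxY
  exact ⟨V, hxV, nonempty_locPres_of_mono (h𝔛 := h𝔛) (Abelian.image.ι φ)
    (relFin_extension hS (hA V hV).relFin (hB V hV).relFin) (ha.pullback (homOfLE hVY))⟩

theorem exists_coh_contains {A : ModF 𝔛 h𝔛.1} (hA : CohGen A) {α : Type u} [Fintype α]
    (U : α → (𝔛.X 0).Opens) (hU : ∀ k, IsCompact (U k : Set (𝔛.X 0))) (x : ∀ k, FS A (U k)) :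
    ∃ (N : ModF 𝔛 h𝔛.1) (_ : IsCohF 𝔛 h𝔛.1 N) (θ : N ⟶ A), ∀ k, InIm θ (x k) := by
  classical
  choose W i M hM ψ m hz hm using fun p : Σ k, {z : 𝔛.X 0 // z ∈ U k} => hA (U p.1) (x p.1) p.2.1 p.2.2
  have hcov : ∀ k, ∃ s : Finset {z : 𝔛.X 0 // z ∈ U k}, (U k : Set (𝔛.X 0)) ⊆ ⋃ z ∈ s, (W ⟨k, z⟩ : Set (𝔛.X 0)) :=
    fun k => (hU k).elim_finite_subcover (fun z => (W ⟨k, z⟩ : Set (𝔛.X 0))) (fun z => (W ⟨k, z⟩).2)
      fun y hy => Set.mem_iUnion.2 ⟨⟨y, hy⟩, hz ⟨k, ⟨y, hy⟩⟩⟩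
  choose s hs using hcov
  suffices H : ∀ T : Finset (Σ k, {z : 𝔛.X 0 // z ∈ U k}), ∃ (N : ModF 𝔛 h𝔛.1) (_ : IsCohF 𝔛 h𝔛.1 N)
      (θ : N ⟶ A), ∀ p ∈ T, ∃ u : M p ⟶ N, u ≫ θ = ψ p by
    obtain ⟨N, hN, θ, hθ⟩ := H (Finset.univ.sigma s)
    refine ⟨N, hN, θ, fun k z hzk => ?_⟩
    obtain ⟨w, hw, hzw⟩ := Set.mem_iUnion₂.1 (hs k hzk)
    obtain ⟨v, hv⟩ := hθ ⟨k, w⟩ (Finset.mem_sigma.2 ⟨Finset.mem_univ k, hw⟩)
    refine ⟨W ⟨k, w⟩, i ⟨k, w⟩, ap v (m ⟨k, w⟩), hzw, ?_⟩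
    rw [← SiteMod.ap_comp, hv, hm]
  intro T
  induction T using Finset.induction_on with
  | empty =>
    exact ⟨kernel (𝟙 A), isCohF_of_isZero (h𝔛 := h𝔛) (isZero_kernel_of_mono _), 0, fun p hp =>
      absurd hp (Finset.notMem_empty p)⟩
  | insert p T hp ih =>
    obtain ⟨N, hN, θ, hθ⟩ := ih
    refine ⟨M p ⊞ N, isCohF_biprod (h𝔛 := h𝔛) (hM p) hN, biprod.desc (ψ p) θ, fun p' hp' => ?_⟩
    rcases Finset.mem_insert.1 hp' with rfl | hp'
    · exact ⟨biprod.inl, biprod.inl_desc _ _⟩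
    · obtain ⟨v, hv⟩ := hθ p' hp'
      exact ⟨v ≫ biprod.inr, by rw [Category.assoc, biprod.inr_desc, hv]⟩

theorem exists_overlap {B : ModF 𝔛 h𝔛.1} {V₁ V₂ : (𝔛.X 0).Opens} {q₁ : Type u} [Fintype q₁]
    (a₁ : q₁ → FS B V₁) (d : SiteMod.LocPres (Mod48.pre B) V₂) {z : 𝔛.X 0} (hz : z ∈ V₁ ⊓ V₂) :
    ∃ (U : (𝔛.X 0).Opens) (u₁ : U ≤ V₁) (u₂ : U ≤ V₂), z ∈ U ∧ ∃ γ : q₁ → d.ι → FBlow13.Sec 𝔛 h𝔛.1 U,
      ∀ t, fres B u₁ (a₁ t) = ∑ l, γ t l • fres B u₂ (d.a l) := by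
  obtain ⟨U, i, -, hzU, hγ⟩ := exists_common_affine hz
    (P := fun t U i => ∃ γ : d.ι → FBlow13.Sec 𝔛 h𝔛.1 U,
      fres B (i.trans inf_le_left) (a₁ t) = ∑ l, γ l • fres B (i.trans inf_le_right) (d.a l))
    (fun t U i U' j ⟨γ, hγ⟩ => ⟨fun l => FBlow13.res 𝔛 h𝔛.1 j (γ l), by
      have h1 := congrArg (fres B j) hγ
      rw [fres_fres, fres_sum] at h1
      simp only [fres_smul, fres_fres] at h1
      exact h1⟩)
    (fun t => by
      obtain ⟨T, hT, hc⟩ := d.gen (V₁ ⊓ V₂) (homOfLE inf_le_right) (fres B inf_le_left (a₁ t))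
      obtain ⟨U, v, hv, hzU⟩ := hT z hz
      obtain ⟨c, hc⟩ := hc v hv
      exact ⟨U, leOfHom v, hzU, c, (fres_fres B inf_le_left (leOfHom v) _).symm.trans hc⟩)
  choose γ hγ using hγ
  exact ⟨U, i.trans inf_le_left, i.trans inf_le_right, hzU, γ, hγ⟩

set_option maxHeartbeats 1600000 in
/-- Generators over a finite cover with compatible lifts. -/
theorem exists_coh_lift [CompactSpace (𝔛.X 0)] {S : ShortComplex (ModF 𝔛 h𝔛.1)} (hS : S.ShortExact)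
    (hA : IsIndCoh h𝔛.1 S.X₁) (hB : IsCohF 𝔛 h𝔛.1 S.X₃) :
    ∃ (P : ModF 𝔛 h𝔛.1) (_ : IsCohF 𝔛 h𝔛.1 P) (j : P ⟶ S.X₂), Epi (j ≫ S.g) := by
  classical
  have := h𝔛.2.2 0
  have : IsNoetherian (𝔛.X 0) := {}
  have := hS.epi_g
  have hloc : ∀ x : 𝔛.X 0, ∃ (V : (𝔛.X 0).Opens) (d : SiteMod.LocPres (Mod48.pre S.X₃) V)
      (y : d.ι → FS S.X₂ V), x ∈ V ∧ ∀ t, ap S.g (y t) = d.a t := fun x => by
    obtain ⟨V₀, hV₀, hxV₀, -⟩ := exists_isAffineOpen_mem_and_subset (X := 𝔛.X 0) (x := x) (U := ⊤) trivial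
    obtain ⟨d₀⟩ := nonempty_locPres_coh (h𝔛 := h𝔛) hB hV₀
    obtain ⟨V, i, -, hxV, hy⟩ := exists_common_affine hxV₀
      (P := fun t W i => ∃ y : FS S.X₂ W, ap S.g y = fres S.X₃ i (d₀.a t))
      (fun t W i W' j ⟨y, hy⟩ => ⟨fres S.X₂ j y, by rw [← fres_ap, hy, fres_fres]⟩)
      (fun t => by
        obtain ⟨W, i, y, -, hxW, hy⟩ := exists_affine_preimage S.g (d₀.a t) hxV₀
        exact ⟨W, i, hxW, y, hy⟩)
    choose y hy using hy
    exact ⟨V, d₀.pullback (homOfLE i), y, hxV, hy⟩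
  choose V d y hxV hy using hloc
  obtain ⟨s, hs⟩ := isCompact_univ.elim_finite_subcover (fun x => (V x : Set (𝔛.X 0))) (fun x => (V x).2)
    fun x _ => Set.mem_iUnion.2 ⟨x, hxV x⟩
  choose U u₁ u₂ hzU γ hγ using fun (p : s × s) (z : {z : 𝔛.X 0 // z ∈ V p.1.1 ⊓ V p.2.1}) =>
    exists_overlap (h𝔛 := h𝔛) (d p.1.1).a (d p.2.1) z.2
  have hF : ∀ p : s × s, ∃ F : Finset {z : 𝔛.X 0 // z ∈ V p.1.1 ⊓ V p.2.1},
      ((V p.1.1 ⊓ V p.2.1 : (𝔛.X 0).Opens) : Set (𝔛.X 0)) ⊆ ⋃ z ∈ F, (U p z : Set (𝔛.X 0)) := fun p =>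
    (NoetherianSpace.isCompact _).elim_finite_subcover (fun z => (U p z : Set (𝔛.X 0))) (fun z => (U p z).2)
      fun w hw => Set.mem_iUnion.2 ⟨⟨w, hw⟩, hzU p ⟨w, hw⟩⟩
  choose F hF using hF
  have hα : ∀ a : Σ i : s, (d i.1).κ, ∃ α : FS S.X₁ (V a.1.1),
      ap S.f α = ∑ t, (d a.1.1).r a.2 t • y a.1.1 t := fun a => exists_preimage_ker hS (by
    rw [SiteMod.ap_lincomb]
    simp only [hy]
    exact (d a.1.1).rel a.2)
  choose α hα using hα
  have hβ : ∀ b : Σ q : (Σ p : s × s, F p), (d q.1.1.1).ι, ∃ β : FS S.X₁ (U b.1.1 b.1.2.1),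
      ap S.f β = fres S.X₂ (u₁ b.1.1 b.1.2.1) (y b.1.1.1.1 b.2) -
        ∑ l, γ b.1.1 b.1.2.1 b.2 l • fres S.X₂ (u₂ b.1.1 b.1.2.1) (y b.1.1.2.1 l) := fun b => exists_preimage_ker hS (by
    refine (map_sub ((Mod48.fgt.map S.g).app (op _)).hom _ _).trans (sub_eq_zero.2 ?_)
    change ap S.g _ = ap S.g _
    rw [ap_fres_lincomb, ← fres_ap]
    simp only [hy]
    exact hγ b.1.1 b.1.2.1 b.2)
  choose β hβ using hβ
  let UU : (Σ i : s, (d i.1).κ) ⊕ (Σ q : (Σ p : s × s, F p), (d q.1.1.1).ι) → (𝔛.X 0).Opens :=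
    Sum.elim (fun a => V a.1.1) fun b => U b.1.1 b.1.2.1
  let xx : ∀ k, FS S.X₁ (UU k) := fun k => match k with
    | Sum.inl a => α a
    | Sum.inr b => β b
  obtain ⟨N, hN, θ, hθ⟩ := exists_coh_contains (h𝔛 := h𝔛) (cohGen_of_ind (h𝔛 := h𝔛) hA) UU
    (fun k => NoetherianSpace.isCompact _) xx
  let π : S.X₂ ⟶ cokernel (θ ≫ S.f) := cokernel.π _
  have hrel : ∀ (i : s) (k : (d i.1).κ), ∑ t, (d i.1).r k t • ap π (y i.1 t) = 0 := fun i k => by
    rw [← SiteMod.ap_lincomb, ← hα ⟨i, k⟩]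
    exact InIm.ap_cokernel (hθ (Sum.inl ⟨i, k⟩)) S.f
  have hov : ∀ (p : s × s) (z : F p) (t : (d p.1.1).ι), fres (cokernel (θ ≫ S.f)) (u₁ p z.1) (ap π (y p.1.1 t)) =
      ∑ l, γ p z.1 t l • fres (cokernel (θ ≫ S.f)) (u₂ p z.1) (ap π (y p.2.1 l)) := fun p z t => by
    rw [← ap_fres_lincomb, fres_ap, ← sub_eq_zero]
    refine (map_sub ((Mod48.fgt.map π).app (op _)).hom _ _).symm.trans ?_
    have h1 := InIm.ap_cokernel (hθ (Sum.inr ⟨⟨p, z⟩, t⟩)) S.f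
    change ap π (ap S.f (β ⟨⟨p, z⟩, t⟩)) = 0 at h1
    rw [hβ] at h1
    exact h1
  have hcov : (Opens.grothendieckTopology (𝔛.X 0).carrier).CoversTop fun j : s => V j.1 := fun W z hz => by
    obtain ⟨x, hx, hzx⟩ := Set.mem_iUnion₂.1 (hs (Set.mem_univ z))
    exact ⟨W ⊓ V x, homOfLE inf_le_left,
      (Sieve.mem_ofObjects_iff ..).2 ⟨⟨x, hx⟩, ⟨homOfLE inf_le_right⟩⟩, hz, hzx⟩
  have hcompat : SiteMod.Compat (G := S.X₃) (F := cokernel (θ ≫ S.f)) (fun j : s => (d j.1).a)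
      (fun j : s => fun t => ap π (y j.1 t)) := by
    intro j j' W g g' c c' e
    refine fs_ext _ _ _ fun z hz => ?_
    obtain ⟨w, hw, hzw⟩ := Set.mem_iUnion₂.1 (hF (j, j') ⟨leOfHom g hz, leOfHom g' hz⟩)
    refine ⟨W ⊓ U (j, j') w, inf_le_left, ⟨hz, hzw⟩, sub_eq_zero.1 ?_⟩
    refine (comb_transfer (cokernel (θ ≫ S.f)) (leOfHom g) (leOfHom g') inf_le_left inf_le_right
      (u₁ (j, j') w) (u₂ (j, j') w) (fun t => ap π (y j.1 t)) (fun l => ap π (y j'.1 l)) (γ (j, j') w)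
      (hov (j, j') ⟨w, hw⟩) c c').trans ?_
    refine (d j'.1).lincomb_eq_zero (fun l => ap π (y j'.1 l)) (hrel j') (homOfLE (inf_le_left.trans (leOfHom g'))) _ ?_
    refine (comb_transfer S.X₃ (leOfHom g) (leOfHom g') inf_le_left inf_le_right
      (u₁ (j, j') w) (u₂ (j, j') w) (d j.1).a (d j'.1).a (γ (j, j') w) (hγ (j, j') w) c c').symm.trans
      (sub_eq_zero.2 (congrArg (fres S.X₃ _) e))
  have hgen : ∀ j : s, SiteMod.GenAt (Mod48.pre S.X₃) (V j.1) (d j.1).a := fun j => (d j.1).gen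
  obtain ⟨σ, hσ⟩ := SiteMod.exists_hom_genAt hcompat hcov hgen
  let π' : cokernel (θ ≫ S.f) ⟶ S.X₃ := cokernel.desc _ S.g (by rw [Category.assoc, S.zero, comp_zero])
  have hσπ : σ ≫ π' = 𝟙 _ := SiteMod.hom_ext_genAt _ hcov hgen fun j t => by
    rw [SiteMod.ap_comp, hσ, ← SiteMod.ap_comp, cokernel.π_desc, hy]
    rfl
  let fst := pullback.fst π σ
  let snd := pullback.snd π σ
  have : Epi snd := inferInstanceAs (Epi (pullback.snd (cokernel.π (θ ≫ S.f)) σ))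
  obtain ⟨hfst, q, hq⟩ := pullback_section_props S.f S.g S.zero θ σ hσπ
  have hker : SheafOfModules.IsFiniteType.{u} (kernel snd) := by
    have := isFiniteType_of_coh (h𝔛 := h𝔛) hN
    have : SheafOfModules.IsFiniteType.{u} (Abelian.image (θ ≫ S.f)) :=
      isFiniteType_of_epi' (Abelian.factorThruImage (θ ≫ S.f))
    exact isFiniteType_of_epi' q
  have := isFiniteType_of_coh (h𝔛 := h𝔛) hB
  have : SheafOfModules.IsFiniteType.{u} (pullback π σ) :=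
    SiteMod.isFiniteType_X₂ (ShortComplex.mk (kernel.ι snd) snd (kernel.condition snd))
      { exact := ShortComplex.exact_of_f_is_kernel _ (kernelIsKernel snd) }
  refine ⟨Abelian.image fst, isCohF_image_extension hS (fun V hV => qcAt_of_ind (h𝔛 := h𝔛) hA hV)
    (fun V hV => qcAt_of_coh (h𝔛 := h𝔛) hB hV) fst, Abelian.image.ι fst, ?_⟩
  have : Epi (Abelian.factorThruImage fst ≫ Abelian.image.ι fst ≫ S.g) := by
    rw [← Category.assoc, Abelian.image.fac, hfst]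
    infer_instance
  exact epi_of_epi (Abelian.factorThruImage fst) _

set_option maxHeartbeats 1600000 in
/-- Extensions. -/
theorem isIndCoh_extension [CompactSpace (𝔛.X 0)] {S : ShortComplex (ModF 𝔛 h𝔛.1)} (hS : S.ShortExact)
    (hA : IsIndCoh h𝔛.1 S.X₁) (hB : IsIndCoh h𝔛.1 S.X₃) : IsIndCoh h𝔛.1 S.X₂ := by
  have := hS.mono_f
  have := hS.epi_g
  refine isIndCoh_of_cohImg (h𝔛 := h𝔛) S.X₂ (fun M hM φ => ?_) fun W e z hz => ?_
  · have := isFiniteType_of_coh (h𝔛 := h𝔛) hM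
    exact isCohF_image_extension hS (fun V hV => qcAt_of_ind (h𝔛 := h𝔛) hA hV)
      (fun V hV => qcAt_of_ind (h𝔛 := h𝔛) hB hV) φ
  obtain ⟨W₁, i₁, M, hM, ψ, m, hzW₁, hm⟩ := cohGen_of_ind (h𝔛 := h𝔛) hB W (ap S.g e) z hz
  let kf : S.X₁ ⟶ pullback S.g ψ := pullback.lift S.f 0 (by rw [S.zero, zero_comp])
  let S' := ShortComplex.mk kf (pullback.snd S.g ψ) (pullback.lift_snd _ _ _)
  have hS' : S'.ShortExact :=
    { exact := ShortComplex.exact_of_f_is_kernel S' (KernelFork.IsLimit.ofι' kf (pullback.lift_snd _ _ _)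
        (hi := mono_of_mono_fac (pullback.lift_fst S.f 0 (by rw [S.zero, zero_comp])))
        fun {T} k hk => ⟨hS.exact.lift (k ≫ pullback.fst S.g ψ) (by
          rw [Category.assoc, pullback.condition, ← Category.assoc, hk, zero_comp]), pullback.hom_ext
            (by rw [Category.assoc, pullback.lift_fst, ShortComplex.Exact.lift_f])
            (by rw [Category.assoc, pullback.lift_snd, comp_zero, hk])⟩)
      mono_f := mono_of_mono_fac (pullback.lift_fst S.f 0 (by rw [S.zero, zero_comp]))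
      epi_g := inferInstanceAs (Epi (pullback.snd S.g ψ)) }
  obtain ⟨P, hP, j, hj⟩ := exists_coh_lift (h𝔛 := h𝔛) hS' hA hM
  obtain ⟨W₂, i₂, p, -, hzW₂, hp⟩ := exists_affine_preimage (j ≫ S'.g) m hzW₁
  have h0 : ap S.g (fres S.X₂ (i₂.trans i₁) e - ap (j ≫ pullback.fst S.g ψ) p) = 0 := by
    refine (map_sub ((Mod48.fgt.map S.g).app (op W₂)).hom _ _).trans (sub_eq_zero.2 ?_)
    change ap S.g _ = ap S.g _
    rw [← fres_ap, ← fres_fres S.X₃ i₁ i₂, ← hm, fres_ap, ← hp, ← SiteMod.ap_comp, ← SiteMod.ap_comp]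
    simp only [Category.assoc, pullback.condition]
    rfl
  obtain ⟨a, ha⟩ := exists_preimage_ker hS h0
  obtain ⟨W₃, i₃, M', hM', ψ', m', hzW₃, hm'⟩ := cohGen_of_ind (h𝔛 := h𝔛) hA W₂ a z hzW₂
  refine ⟨W₃, i₃.trans (i₂.trans i₁), P ⊞ M', isCohF_biprod (h𝔛 := h𝔛) hP hM',
    biprod.desc (j ≫ pullback.fst S.g ψ) (ψ' ≫ S.f), ap biprod.inl (fres P i₃ p) + ap biprod.inr m',
    hzW₃, ?_⟩
  refine (map_add ((Mod48.fgt.map (biprod.desc (j ≫ pullback.fst S.g ψ) (ψ' ≫ S.f))).app (op W₃)).hom _ _).trans ?_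
  change ap _ _ + ap _ _ = _
  rw [← SiteMod.ap_comp, ← SiteMod.ap_comp, biprod.inl_desc, biprod.inr_desc, SiteMod.ap_comp ψ', hm', ← fres_ap,
    ← fres_ap S.f, ha, ← fres_fres S.X₂ (i₂.trans i₁) i₃]
  exact (map_add ((Mod48.pre S.X₂).map (homOfLE i₃).op).hom _ _).symm.trans
    (congrArg (fres S.X₂ i₃) (add_sub_cancel _ _))

/-- The five term property. -/
theorem isIndCoh_five [CompactSpace (𝔛.X 0)] (S : ComposableArrows (ModF 𝔛 h𝔛.1) 4) (hS : S.Exact)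
    (h₀ : IsIndCoh h𝔛.1 (S.obj 0)) (h₁ : IsIndCoh h𝔛.1 (S.obj 1))
    (h₃ : IsIndCoh h𝔛.1 (S.obj 3)) (h₄ : IsIndCoh h𝔛.1 (S.obj 4)) : IsIndCoh h𝔛.1 (S.obj 2) := by
  have hA := isIndCoh_cokernel (h𝔛 := h𝔛) (S.map' 0 1) h₀ h₁
  have hB := isIndCoh_kernel (h𝔛 := h𝔛) (S.map' 3 4) h₃ h₄
  obtain ⟨a, b, w, hS'⟩ := exists_shortExact_of_five S hS
  exact isIndCoh_extension (h𝔛 := h𝔛) (S := ShortComplex.mk a b w) hS' hA hB

end Groth.Agent.FCompl13
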