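import Groth.Agent.SiteMod.FinType

/-!
The structure module is of finite presentation.
-/

set_option autoImplicit false
set_option backward.isDefEq.respectTransparency false

noncomputable section

universe u

open CategoryTheory Opposite

namespace Groth.Agent.FCompl13

variable {C : Type u} [SmallCategory C] {J : GrothendieckTopology C} (O : Sheaf J CommRingCat.{u})

theorem isFinitePresentation_unit [HasWeakSheafify J AddCommGrpCat.{u}] [J.WEqualsLocallyBijective AddCommGrpCat.{u}] [∀ X : C, (J.over X).WEqualsLocallyBijective AddCommGrpCat.{u}]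
    [∀ X : C, HasWeakSheafify (J.over X) AddCommGrpCat.{u}] :
    SheafOfModules.IsFinitePresentation.{u, u, u} (R := ModSite.ringSh O) (ModSite.unit O) := by
  refine SiteMod.isFinitePresentation_of_locPres _ fun X => ⟨⊤, J.top_mem X, fun Y g _ => ?_⟩
  have hres : ∀ {W : C} (g : W ⟶ Y), Mod48.res (Mod48.pre (ModSite.unit O)) g.op (1 : O.obj.obj (op Y)) =
      (1 : O.obj.obj (op W)) := fun g => map_one (O.obj.map g.op).hom
  refine ⟨{ ι := PUnit, κ := PEmpty, a := fun _ => (1 : O.obj.obj (op Y)), r := fun t => t.elim
            rel := fun t => t.elim, gen := fun W g x => ⟨⊤, J.top_mem W, fun V v _ => ?_⟩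
            kerr := fun W g c hc => ⟨⊤, J.top_mem W, fun V v _ => ⟨fun t => t.elim, fun i => ?_⟩⟩ }⟩
  · refine ⟨fun _ => Mod48.res (Mod48.pre (ModSite.unit O)) v.op x, ?_⟩
    rw [Fintype.sum_unique, hres]
    exact (@mul_one (O.obj.obj (op V)) _ _).symm
  · rw [Fintype.sum_unique, hres] at hc
    have hc0 : c default = 0 := (@mul_one (O.obj.obj (op W)) _ (c default)).symm.trans hc
    rw [Fintype.sum_empty, show i = default from Subsingleton.elim _ _, hc0]
    exact map_zero (O.obj.map v.op).hom

end Groth.Agent.FCompl13
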