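import Groth.Agent.FCompl13.IndCoh
import Groth.Agent.FCompl13.UnitFP

/-!
Free modules, quotients, and free presentations over affine formal schemes.
-/

set_option autoImplicit false
set_option backward.isDefEq.respectTransparency false
set_option linter.style.haveILetI false

noncomputable section

universe u

open CategoryTheory CategoryTheory.Limits AlgebraicGeometry TopologicalSpace Opposite

namespace Groth.Agent.FCompl13

open _root_.FSch
open SiteMod (ap)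

variable {𝔛 : Sys.{u}} {h𝔛 : 𝔛.IsLocNoethFormal}

theorem isIndCoh_free (α : Type u) : IsIndCoh h𝔛.1 (SheafOfModules.free α : ModF 𝔛 h𝔛.1) :=
  isIndCoh_colimit (h𝔛 := h𝔛) (SheafOfModules.isColimitFreeCofan (R := ModSite.ringSh (𝔛.Osh h𝔛.1)) α)
    fun _ => ObjectProperty.le_ind _ _ (isFinitePresentation_unit (𝔛.Osh h𝔛.1))

theorem isIndCoh_cokernel {F G : ModF 𝔛 h𝔛.1} (φ : F ⟶ G) (hF : IsIndCoh h𝔛.1 F) (hG : IsIndCoh h𝔛.1 G) :
    IsIndCoh h𝔛.1 (cokernel φ) := by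
  have := qcoh_of_allAffine (h𝔛 := h𝔛) (F := cokernel φ) fun V hV =>
    QcAt.cokernel φ (qcAt_of_ind (h𝔛 := h𝔛) hF hV).2.1 (qcAt_of_ind (h𝔛 := h𝔛) hG hV)
  refine isIndCoh_of_cohGen (h𝔛 := h𝔛) _ fun W x z hz => ?_
  obtain ⟨W₁, j, g, -, hzW₁, hg⟩ := exists_affine_preimage (cokernel.π φ) x hz
  obtain ⟨W', i, M, hM, ψ, m, hzW', hm⟩ := cohGen_of_ind (h𝔛 := h𝔛) hG W₁ g z hzW₁
  refine ⟨W', i.trans j, M, hM, ψ ≫ cokernel.π φ, m, hzW', ?_⟩
  rw [SiteMod.ap_comp, hm, ← fres_ap, hg, fres_fres]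

/-- A module generated by global sections is a quotient of a free module. -/
theorem exists_free_epi {h : 𝔛.IsFormal} {F : ModF 𝔛 h} (hF : GenBy F ⊤) :
    ∃ (I : Type u) (π : (SheafOfModules.free I : ModF 𝔛 h) ⟶ F), Epi π := by
  let hT : IsTerminal (⊤ : (𝔛.X 0).Opens) := isTerminalTop
  refine ⟨FS F ⊤, SiteMod.freeTo (O := 𝔛.Osh h) hT (G := F) id, (SiteMod.epi_iff_locSurj _).2 fun W x => ?_⟩
  let S : Sieve W :=
    { arrows := fun V v => ∃ y, ap (SiteMod.freeTo (O := 𝔛.Osh h) hT (G := F) id) y =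
        Mod48.res (Mod48.pre F) v.op x
      downward_closed := by
        rintro V V' v ⟨y, hy⟩ w
        exact ⟨Mod48.res _ w.op y, by rw [← SiteMod.res_ap, hy, Mod48.res_res, ← op_comp]⟩ }
  refine ⟨S, fun z hz => ?_, fun V v hv => hv⟩
  obtain ⟨W', j, hzW', hm⟩ := hF W le_top x z hz
  obtain ⟨R, d, hd⟩ := fres_mem_span_finset _ hm
  classical
  refine ⟨W', homOfLE j, ⟨∑ a ∈ R, ap (SiteMod.inF (O := 𝔛.Osh h) a)
    (SiteMod.toU (if ha : a ∈ R then d ⟨a, ha⟩ else 0)), ?_⟩, hzW'⟩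
  refine (ap_freeTo_sum (O := 𝔛.Osh h) hT (G := F) id R _).trans ?_
  refine Eq.trans ?_ hd.symm
  rw [← Finset.sum_coe_sort R]
  exact Finset.sum_congr rfl fun a _ => by rw [dif_pos a.2]; rfl

/-- A filtered colimit of coherent modules on an affine formal scheme has a free presentation. -/
theorem exists_free_presentation (htop : IsAffineOpen (⊤ : (𝔛.X 0).Opens)) {F : ModF 𝔛 h𝔛.1}
    (hF : IsIndCoh h𝔛.1 F) :
    ∃ (α β : Type u) (φ : (SheafOfModules.free α : ModF 𝔛 h𝔛.1) ⟶ SheafOfModules.free β),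
      Nonempty (cokernel φ ≅ F) := by
  have hq := qcAt_of_ind (h𝔛 := h𝔛) hF htop
  obtain ⟨β, π, hπ⟩ := exists_free_epi hq.2.1
  have hK := (qcAt_of_ind (h𝔛 := h𝔛) (isIndCoh_free (h𝔛 := h𝔛) β) htop).kernel π hq
  obtain ⟨α, p, hp⟩ := exists_free_epi hK.2.1
  exact ⟨α, β, p ≫ kernel.ι π, ⟨cokernelEpiComp p (kernel.ι π) ≪≫
    IsColimit.coconePointUniqueUpToIso (cokernelIsCokernel (kernel.ι π))
      (Abelian.epiIsCokernelOfKernel _ (limit.isLimit _))⟩⟩

end Groth.Agent.FCompl13
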