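import Groth.Agent.FCompl13.SubSheaf

/-!
Solutions of linear systems with coefficients sections over an affine open restrict to generators.
-/

set_option autoImplicit false
set_option backward.isDefEq.respectTransparency false
set_option linter.style.haveILetI false

noncomputable section

universe u

open CategoryTheory CategoryTheory.Limits AlgebraicGeometry TopologicalSpace Opposite

namespace Groth.Agent.FCompl13

open _root_.FSch

variable {𝔛 : Sys.{u}} (h𝔛 : 𝔛.IsLocNoethFormal) {U V : (𝔛.X 0).Opens}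

theorem mem_span_solutions_fin (hU : IsAffineOpen U) (hV : IsAffineOpen V) (i : V ≤ U) :
    ∀ (p : ℕ) {q : Type u} [Fintype q] (A : Fin p → q → FBlow13.Sec 𝔛 h𝔛.1 U)
      (c : q → FBlow13.Sec 𝔛 h𝔛.1 V), (∀ j, ∑ t, c t * FBlow13.res 𝔛 h𝔛.1 i (A j t) = 0) →
      c ∈ Submodule.span (FBlow13.Sec 𝔛 h𝔛.1 V)
        (vres h𝔛.1 i '' {b | ∀ j, ∑ t, b t * A j t = 0}) := by
  intro p
  induction p with
  | zero =>
    intro q _ A c _
    classical
    rw [pi_eq_sum_univ c]
    refine Submodule.sum_mem _ fun t _ => Submodule.smul_mem _ _ (Submodule.subset_span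
      ⟨fun s => if t = s then 1 else 0, fun j => j.elim0, funext fun s => ?_⟩)
    simp only [vres]
    split_ifs
    · exact map_one _
    · exact map_zero _
  | succ p ih =>
    intro q _ A c hc
    classical
    obtain ⟨hN, -, -⟩ := secRing h𝔛 hU
    have := hN
    obtain ⟨m, r₀, hr₀⟩ := exists_fin_generators
      (LinearMap.ker (Fintype.linearCombination (FBlow13.Sec 𝔛 h𝔛.1 U) (A 0)))
    let r : ULift.{u} (Fin m) → q → FBlow13.Sec 𝔛 h𝔛.1 U := fun s => r₀ s.down
    have hr : ∀ b : q → FBlow13.Sec 𝔛 h𝔛.1 U, ∑ t, b t * A 0 t = 0 ↔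
        b ∈ Submodule.span (FBlow13.Sec 𝔛 h𝔛.1 U) (Set.range r) := fun b => by
      rw [show Set.range r = Set.range r₀ from
        Set.ext fun x => ⟨fun ⟨t, e⟩ => ⟨t.down, e⟩, fun ⟨t, e⟩ => ⟨⟨t⟩, e⟩⟩, hr₀,
        LinearMap.mem_ker, Fintype.linearCombination_apply]
      rfl
    obtain ⟨e, he⟩ := (Submodule.mem_span_range_iff_exists_fun _).1
      (mem_span_rel_sec h𝔛 hU hV i (A 0) r (fun b hb => (hr b).1 hb) c (hc 0))
    let A' : Fin p → ULift.{u} (Fin m) → FBlow13.Sec 𝔛 h𝔛.1 U := fun j s => ∑ t, r s t * A j.succ t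
    have he' : ∀ j, ∑ s, e s * FBlow13.res 𝔛 h𝔛.1 i (A' j s) = 0 := fun j => by
      refine Eq.trans ?_ (hc j.succ)
      rw [← he]
      simp only [A', map_sum, map_mul, Finset.mul_sum, Finset.sum_apply, Pi.smul_apply, smul_eq_mul,
        Finset.sum_mul]
      rw [Finset.sum_comm]
      exact Finset.sum_congr rfl fun t _ => Finset.sum_congr rfl fun s _ => (mul_assoc _ _ _).symm
    obtain ⟨n, f, g, hfg⟩ := Submodule.mem_span_set'.1 (ih A' e he')
    rw [← he]
    choose a ha ha' using fun l => (g l).2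
    refine (Submodule.span_le.2 ?_ : Submodule.span _ (Set.range fun l : Fin n =>
      vres h𝔛.1 i (∑ s, a l s • r s)) ≤ _) ?_
    · rintro _ ⟨l, rfl⟩
      refine Submodule.subset_span ⟨_, fun j => ?_, rfl⟩
      induction j using Fin.cases with
      | zero =>
        exact (hr _).2 (Submodule.sum_mem _ fun s _ => Submodule.smul_mem _ _ (Submodule.subset_span ⟨s, rfl⟩))
      | succ j =>
        refine Eq.trans ?_ (ha l j)
        simp only [A', Finset.sum_apply, Pi.smul_apply, smul_eq_mul, Finset.sum_mul, Finset.mul_sum]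
        rw [Finset.sum_comm]
        exact Finset.sum_congr rfl fun t _ => Finset.sum_congr rfl fun s _ => mul_assoc _ _ _
    · refine (Submodule.mem_span_range_iff_exists_fun _).2 ⟨f, ?_⟩
      rw [← hfg]
      funext t
      simp only [Finset.sum_apply, Pi.smul_apply, smul_eq_mul, vres, map_sum, map_mul, Finset.mul_sum,
        Finset.sum_mul]
      rw [Finset.sum_comm]
      refine Finset.sum_congr rfl fun s _ => Finset.sum_congr rfl fun l _ => ?_
      rw [← congrFun (ha' l) s]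
      simp only [vres]
      ring

theorem mem_span_solutions (hU : IsAffineOpen U) (hV : IsAffineOpen V) (i : V ≤ U) {m : Type*}
    {q : Type u} [Fintype q] (A : m → q → FBlow13.Sec 𝔛 h𝔛.1 U)
    (c : q → FBlow13.Sec 𝔛 h𝔛.1 V) (hc : ∀ j, ∑ t, c t * FBlow13.res 𝔛 h𝔛.1 i (A j t) = 0) :
    c ∈ Submodule.span (FBlow13.Sec 𝔛 h𝔛.1 V)
      (vres h𝔛.1 i '' {b | ∀ j, ∑ t, b t * A j t = 0}) := by
  classical
  obtain ⟨hN, -, -⟩ := secRing h𝔛 hU
  have := hN
  obtain ⟨p, B, hB⟩ := exists_fin_generators (Submodule.span (FBlow13.Sec 𝔛 h𝔛.1 U) (Set.range A))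
  have hcB : ∀ j, ∑ t, c t * FBlow13.res 𝔛 h𝔛.1 i (B j t) = 0 := fun j => by
    have hj : B j ∈ Submodule.span (FBlow13.Sec 𝔛 h𝔛.1 U) (Set.range A) :=
      hB.le (Submodule.subset_span ⟨j, rfl⟩)
    refine Submodule.span_induction (p := fun b _ => ∑ t, c t * FBlow13.res 𝔛 h𝔛.1 i (b t) = 0) ?_ ?_ ?_ ?_ hj
    · rintro _ ⟨l, rfl⟩
      exact hc l
    · simp
    · intro a b _ _ ha hb
      simp [mul_add, Finset.sum_add_distrib, ha, hb]
    · intro s a _ ha
      refine Eq.trans (Finset.sum_congr rfl fun t _ => ?_)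
        ((Finset.mul_sum _ _ (FBlow13.res 𝔛 h𝔛.1 i s)).symm.trans (by rw [ha, mul_zero]))
      simp only [Pi.smul_apply, smul_eq_mul, map_mul]
      ring
  refine Submodule.span_mono (Set.image_mono fun b hb j => ?_)
    (mem_span_solutions_fin h𝔛 hU hV i p B c hcB)
  have hj : A j ∈ Submodule.span (FBlow13.Sec 𝔛 h𝔛.1 U) (Set.range B) :=
    hB.ge (Submodule.subset_span ⟨j, rfl⟩)
  refine Submodule.span_induction (p := fun a _ => ∑ t, b t * a t = 0) ?_ ?_ ?_ ?_ hj
  · rintro _ ⟨l, rfl⟩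
    exact hb l
  · simp
  · intro a a' _ _ ha hb
    simp [mul_add, Finset.sum_add_distrib, ha, hb]
  · intro s a _ ha
    refine Eq.trans (Finset.sum_congr rfl fun t _ => ?_)
      ((Finset.mul_sum _ _ s).symm.trans (by rw [ha, mul_zero]))
    simp only [Pi.smul_apply, smul_eq_mul]
    ring

end Groth.Agent.FCompl13
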