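import Groth.Agent.FCompl13.ModStr
import Groth.Agent.SiteMod.FinType
import Mathlib.RingTheory.Nakayama

/-!
The module attached to a coherent system is of finite presentation: generators and relations of
the sections over an affine open present it there.
-/

set_option autoImplicit false
set_option backward.isDefEq.respectTransparency false
set_option linter.style.haveILetI false

noncomputable section

universe u

open CategoryTheory CategoryTheory.Limits AlgebraicGeometry TopologicalSpace Opposite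

namespace Groth.Agent.FCompl13

open _root_.FSch

section Alg

variable {A : Type*} [CommRing A] {I : Ideal A} [IsAdicComplete I A]

/-- Over an adically complete ring, generators of a finite module modulo the ideal generate. -/
theorem eq_top_of_sup_smul_eq_top {M : Type*} [AddCommGroup M] [Module A M] [Module.Finite A M]
    (N : Submodule A M) (h : N ⊔ I • ⊤ = ⊤) : N = ⊤ :=
  top_le_iff.1 (Submodule.le_of_le_smul_of_le_jacobson_bot Module.Finite.fg_top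
    (IsAdicComplete.le_jacobson_bot I) h.ge)

/-- Over an adically complete Noetherian ring, submodules of finite modules are closed. -/
theorem mem_of_forall_mem_sup [IsNoetherianRing A] {M : Type*} [AddCommGroup M] [Module A M]
    [Module.Finite A M] (N : Submodule A M) (x : M) (h : ∀ n, x ∈ N ⊔ I ^ n • ⊤) : x ∈ N := by
  rw [← Submodule.Quotient.mk_eq_zero]
  have h1 : Submodule.Quotient.mk (p := N) x ∈ (⨅ n, I ^ n • ⊤ : Submodule A (M ⧸ N)) := by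
    rw [Submodule.mem_iInf]
    intro n
    obtain ⟨a, ha, b, hb, e⟩ := Submodule.mem_sup.1 (h n)
    have h2 : Submodule.Quotient.mk (p := N) b ∈ (I ^ n • ⊤ : Submodule A (M ⧸ N)) := by
      have h3 := Submodule.mem_map_of_mem (f := N.mkQ) hb
      rw [Submodule.map_smul''] at h3
      exact Submodule.smul_mono le_rfl le_top h3
    rw [← e, Submodule.Quotient.mk_add, (Submodule.Quotient.mk_eq_zero N).2 ha, zero_add]
    exact h2
  rwa [Ideal.iInf_pow_smul_eq_bot_of_le_jacobson I (IsAdicComplete.le_jacobson_bot I),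
    Submodule.mem_bot] at h1

theorem mem_pow_smul_pi {q : Type*} [Fintype q] (J : Ideal A) (x : q → A) (h : ∀ t, x t ∈ J) :
    x ∈ J • (⊤ : Submodule A (q → A)) := by
  classical
  rw [pi_eq_sum_univ x]
  exact Submodule.sum_mem _ fun t _ => Submodule.smul_mem_smul (h t) trivial

end Alg

variable {𝔛 : Sys.{u}} (h𝔛 : 𝔛.IsLocNoethFormal) (𝔐 : ModSys 𝔛) (h𝔐 : 𝔐.IsCoh)

/-- Sections of the attached module, restricted. -/
abbrev mres {U V : (𝔛.X 0).Opens} (i : V ≤ U) (x : MSec 𝔐 h𝔛.1 U) : MSec 𝔐 h𝔛.1 V :=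
  Mod48.res (Mod48.pre (realLim 𝔛 h𝔛.1 𝔐.F 𝔐.toPush)) (homOfLE i).op x

include h𝔐 in
theorem mres_span_eq_top {U V : (𝔛.X 0).Opens} (hU : IsAffineOpen U) (hV : IsAffineOpen V)
    (i : V ≤ U) {q : Type u} [Finite q] (a : q → MSec 𝔐 h𝔛.1 U)
    (ha : Submodule.span (FBlow13.Sec 𝔛 h𝔛.1 U) (Set.range a) = ⊤) :
    Submodule.span (FBlow13.Sec 𝔛 h𝔛.1 V) (Set.range fun t => mres h𝔛 𝔐 i (a t)) = ⊤ := by
  have := Fintype.ofFinite q
  obtain ⟨-, hCV, hpV⟩ := secRing h𝔛 hV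
  obtain ⟨hfin, -, hMV⟩ := modSec 𝔐 h𝔛 h𝔐 hV
  obtain ⟨-, -, hMU⟩ := modSec 𝔐 h𝔛 h𝔐 hU
  have := hCV
  have := (h𝔐 0).1
  refine eq_top_of_sup_smul_eq_top (I := secIdeal 𝔛 h𝔛.1 V) _ (eq_top_iff.2 fun x _ => ?_)
  have htop : Submodule.span Γ(𝔛.X 0, 𝔛.lvU h𝔛.1 0 U)
      (Set.range fun t => mproj h𝔛.1 𝔐.F 𝔐.toPush U 0 (a t)) = ⊤ := by
    refine eq_top_iff.2 fun y _ => ?_
    obtain ⟨z, rfl⟩ := (hMU 0).1 y
    obtain ⟨c, rfl⟩ := (Submodule.mem_span_range_iff_exists_fun _).1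
      (ha ▸ trivial : z ∈ Submodule.span (FBlow13.Sec 𝔛 h𝔛.1 U) (Set.range a))
    rw [map_sum]
    refine Submodule.sum_mem _ fun t _ => ?_
    rw [mproj_smul]
    exact Submodule.smul_mem _ _ (Submodule.subset_span ⟨t, rfl⟩)
  have hspan := span_res_eq_top (𝔐.F 0) (FBlow13.isAffineOpen_lvU (h := h𝔛.1) hU 0)
    (FBlow.lvU_mono 𝔛 h𝔛.1 0 i) (FBlow13.isAffineOpen_lvU (h := h𝔛.1) hV 0) _ htop
  obtain ⟨c, hc⟩ := (Submodule.mem_span_range_iff_exists_fun _).1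
    (hspan.ge (trivial : mproj h𝔛.1 𝔐.F 𝔐.toPush V 0 x ∈ ⊤))
  choose d hd using fun t => (hpV 0).1 (c t)
  have h0 : mproj h𝔛.1 𝔐.F 𝔐.toPush V 0 (x - ∑ t, d t • mres h𝔛 𝔐 i (a t)) = 0 := by
    rw [map_sub, map_sum, sub_eq_zero, ← hc]
    refine Finset.sum_congr rfl fun t _ => ?_
    rw [mproj_smul, hd, mres, mproj_res]
  rw [(hMV 0).2, pow_one] at h0
  exact Submodule.mem_sup.2 ⟨∑ t, d t • mres h𝔛 𝔐 i (a t),
    Submodule.sum_mem _ fun t _ => Submodule.smul_mem _ _ (Submodule.subset_span ⟨t, rfl⟩),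
    _, h0, add_sub_cancel _ _⟩

include h𝔐 in
theorem mem_span_rel_mres {U V : (𝔛.X 0).Opens} (hU : IsAffineOpen U) (hV : IsAffineOpen V)
    (i : V ≤ U) {q κ : Type u} [Fintype q] [Finite κ] (a : q → MSec 𝔐 h𝔛.1 U)
    (ha : Submodule.span (FBlow13.Sec 𝔛 h𝔛.1 U) (Set.range a) = ⊤)
    (r : κ → q → FBlow13.Sec 𝔛 h𝔛.1 U)
    (hr : ∀ c : q → FBlow13.Sec 𝔛 h𝔛.1 U, ∑ t, c t • a t = 0 →
      c ∈ Submodule.span (FBlow13.Sec 𝔛 h𝔛.1 U) (Set.range r))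
    (c : q → FBlow13.Sec 𝔛 h𝔛.1 V) (hc : ∑ t, c t • mres h𝔛 𝔐 i (a t) = 0) :
    c ∈ Submodule.span (FBlow13.Sec 𝔛 h𝔛.1 V)
      (Set.range fun s t => FBlow13.res 𝔛 h𝔛.1 i (r s t)) := by
  classical
  have := Fintype.ofFinite κ
  obtain ⟨hN, hCV, hpV⟩ := secRing h𝔛 hV
  obtain ⟨-, -, hpU⟩ := secRing h𝔛 hU
  obtain ⟨-, -, hMU⟩ := modSec 𝔐 h𝔛 h𝔐 hU
  have := hN
  have := hCV
  refine mem_of_forall_mem_sup (I := secIdeal 𝔛 h𝔛.1 V) _ _ fun n => ?_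
  have hmono : secIdeal 𝔛 h𝔛.1 V ^ (n + 1) • (⊤ : Submodule (FBlow13.Sec 𝔛 h𝔛.1 V) (q → FBlow13.Sec 𝔛 h𝔛.1 V)) ≤
      secIdeal 𝔛 h𝔛.1 V ^ n • ⊤ := Submodule.pow_smul_top_le _ _ (Nat.le_succ n)
  refine sup_le_sup_left hmono _ ?_
  have := (h𝔐 n).1
  -- relations at level `n` come from relations of the sections over `U`
  have hrel : ∀ b : q → Γ(𝔛.X n, 𝔛.lvU h𝔛.1 n U),
      ∑ t, b t • mproj h𝔛.1 𝔐.F 𝔐.toPush U n (a t) = 0 → b ∈ Submodule.span Γ(𝔛.X n, 𝔛.lvU h𝔛.1 n U)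
        (Set.range fun s t => FBlow13.proj 𝔛 h𝔛.1 U n (r s t)) := by
    intro b hb
    choose β hβ using fun t => (hpU n).1 (b t)
    have h0 : mproj h𝔛.1 𝔐.F 𝔐.toPush U n (∑ t, β t • a t) = 0 := by
      rw [map_sum, ← hb]
      exact Finset.sum_congr rfl fun t _ => by rw [mproj_smul, hβ]
    rw [(hMU n).2, ← ha, Submodule.mem_ideal_smul_span_iff_exists_sum] at h0
    obtain ⟨e, he, hsum⟩ := h0
    rw [Finsupp.sum_fintype] at hsum
    swap
    · exact fun t => zero_smul (FBlow13.Sec 𝔛 h𝔛.1 U) (a t)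
    have hmem := hr (fun t => β t - e t) (by
      simp only [sub_smul, Finset.sum_sub_distrib, hsum, sub_self])
    obtain ⟨w, hw⟩ := (Submodule.mem_span_range_iff_exists_fun _).1 hmem
    refine (Submodule.mem_span_range_iff_exists_fun _).2
      ⟨fun s => FBlow13.proj 𝔛 h𝔛.1 U n (w s), ?_⟩
    funext t
    have ht := congrArg (FBlow13.proj 𝔛 h𝔛.1 U n) (congrFun hw t)
    have he0 : FBlow13.proj 𝔛 h𝔛.1 U n (e t) = 0 := by
      have := (hpU n).2.ge (he t)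
      exact RingHom.mem_ker.1 this
    simp only [Finset.sum_apply, Pi.smul_apply, smul_eq_mul, map_sum, map_mul, map_sub, he0,
      sub_zero, hβ] at ht ⊢
    exact ht
  have hcn : ∑ t, FBlow13.proj 𝔛 h𝔛.1 V n (c t) •
      QC70.res (𝔐.F n) (FBlow.lvU_mono 𝔛 h𝔛.1 n i) (mproj h𝔛.1 𝔐.F 𝔐.toPush U n (a t)) = 0 := by
    rw [← map_zero (mproj h𝔛.1 𝔐.F 𝔐.toPush V n), ← hc, map_sum]
    refine Finset.sum_congr rfl fun t _ => ?_
    rw [mproj_smul, mres, mproj_res]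
  obtain ⟨d, hd⟩ := (Submodule.mem_span_range_iff_exists_fun _).1
    (mem_span_rel_res (𝔐.F n) (FBlow13.isAffineOpen_lvU (h := h𝔛.1) hU n)
      (FBlow.lvU_mono 𝔛 h𝔛.1 n i) (FBlow13.isAffineOpen_lvU (h := h𝔛.1) hV n) _ _ hrel _ hcn)
  choose δ hδ using fun s => (hpV n).1 (d s)
  refine Submodule.mem_sup.2 ⟨∑ s, δ s • (fun t => FBlow13.res 𝔛 h𝔛.1 i (r s t)),
    Submodule.sum_mem _ fun s _ => Submodule.smul_mem _ _ (Submodule.subset_span ⟨s, rfl⟩),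
    c - ∑ s, δ s • (fun t => FBlow13.res 𝔛 h𝔛.1 i (r s t)), ?_, add_sub_cancel _ _⟩
  refine mem_pow_smul_pi _ _ fun t => ?_
  rw [← (hpV n).2, RingHom.mem_ker]
  have ht := congrFun hd t
  simp only [Finset.sum_apply, Pi.smul_apply, smul_eq_mul] at ht
  simp only [Pi.sub_apply, Finset.sum_apply, Pi.smul_apply, smul_eq_mul, map_sub, map_sum, map_mul,
    hδ, FBlow13.proj_res_apply]
  exact sub_eq_zero.2 ht.symm

/-- The opens contained in an affine open inside `W` cover `W`. -/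
theorem affineSieve_mem (W : (𝔛.X 0).Opens) :
    ({ arrows := fun V _ => ∃ V' : (𝔛.X 0).Opens, IsAffineOpen V' ∧ V ≤ V' ∧ V' ≤ W
       downward_closed := fun {V Y f} h g => by
        obtain ⟨V', h1, h2, h3⟩ := h
        exact ⟨V', h1, (leOfHom g).trans h2, h3⟩ } : Sieve W) ∈
      Opens.grothendieckTopology (𝔛.X 0).carrier W := fun x hx => by
  obtain ⟨V, hV, hxV, hVW⟩ := exists_isAffineOpen_mem_and_subset hx
  exact ⟨V, homOfLE hVW, ⟨V, hV, le_rfl, hVW⟩, hxV⟩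

include h𝔐 in
theorem nonempty_locPres {U : (𝔛.X 0).Opens} (hU : IsAffineOpen U) :
    Nonempty (SiteMod.LocPres (Mod48.pre (realLim 𝔛 h𝔛.1 𝔐.F 𝔐.toPush)) U) := by
  classical
  obtain ⟨hN, hC, hp⟩ := secRing h𝔛 hU
  obtain ⟨hfin, -, hM⟩ := modSec 𝔐 h𝔛 h𝔐 hU
  have := hN
  have := hfin
  obtain ⟨q, a, ha⟩ := Module.Finite.exists_fin (R := FBlow13.Sec 𝔛 h𝔛.1 U) (M := MSec 𝔐 h𝔛.1 U)
  let a' : ULift.{u} (Fin q) → MSec 𝔐 h𝔛.1 U := fun t => a t.down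
  have ha' : Submodule.span (FBlow13.Sec 𝔛 h𝔛.1 U) (Set.range a') = ⊤ := by
    rw [← ha]; exact congrArg _ (Set.ext fun x => ⟨fun ⟨t, e⟩ => ⟨t.down, e⟩, fun ⟨t, e⟩ => ⟨⟨t⟩, e⟩⟩)
  obtain ⟨m, r, hr⟩ := Submodule.fg_iff_exists_fin_generating_family.1
    (IsNoetherian.noetherian (LinearMap.ker (Fintype.linearCombination (FBlow13.Sec 𝔛 h𝔛.1 U) a')))
  let r' : ULift.{u} (Fin m) → ULift.{u} (Fin q) → FBlow13.Sec 𝔛 h𝔛.1 U := fun s => r s.down
  have hr' : ∀ c : ULift.{u} (Fin q) → FBlow13.Sec 𝔛 h𝔛.1 U, ∑ t, c t • a' t = 0 ↔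
      c ∈ Submodule.span (FBlow13.Sec 𝔛 h𝔛.1 U) (Set.range r') := fun c => by
    rw [show Set.range r' = Set.range r from
      Set.ext fun x => ⟨fun ⟨t, e⟩ => ⟨t.down, e⟩, fun ⟨t, e⟩ => ⟨⟨t⟩, e⟩⟩, hr,
      LinearMap.mem_ker, Fintype.linearCombination_apply]
  refine ⟨{
    ι := ULift.{u} (Fin q)
    κ := ULift.{u} (Fin m)
    a := a'
    r := r'
    rel := fun s => (hr' _).2 (Submodule.subset_span ⟨s, rfl⟩)
    gen := ?_
    kerr := ?_ }⟩
  · intro W g x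
    refine ⟨_, affineSieve_mem W, fun V v hv => ?_⟩
    obtain ⟨V', hV', hVV', hV'W⟩ := hv
    have hspan := mres_span_eq_top h𝔛 𝔐 h𝔐 hU hV' (hV'W.trans (leOfHom g)) a' ha'
    obtain ⟨c, hc⟩ := (Submodule.mem_span_range_iff_exists_fun _).1
      (hspan.ge (trivial : mres h𝔛 𝔐 hV'W x ∈ ⊤))
    refine ⟨fun t => FBlow13.res 𝔛 h𝔛.1 hVV' (c t), ?_⟩
    have h1 := congrArg (Mod48.res (Mod48.pre (realLim 𝔛 h𝔛.1 𝔐.F 𝔐.toPush)) (homOfLE hVV').op) hc.symm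
    rw [SiteMod.res_sum] at h1
    simp only [mres, Mod48.res_res] at h1
    refine Eq.trans ?_ (h1.trans (Finset.sum_congr rfl fun t _ => ?_))
    · exact congrArg (fun z => Mod48.res _ z x) (Subsingleton.elim _ _)
    · exact (Mod48.res_smul _ _ _ _).trans (congrArg (_ • ·) ((Mod48.res_res _ _ _ _).trans
        (congrArg (fun z => Mod48.res _ z (a' t)) (Subsingleton.elim _ _))))
  · intro W g c hc
    refine ⟨_, affineSieve_mem W, fun V v hv => ?_⟩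
    obtain ⟨V', hV', hVV', hV'W⟩ := hv
    have h0 : ∑ t, FBlow13.res 𝔛 h𝔛.1 hV'W (c t) • mres h𝔛 𝔐 (hV'W.trans (leOfHom g)) (a' t) = 0 := by
      refine Eq.trans ?_ ((congrArg (mres h𝔛 𝔐 hV'W) hc).trans (SiteMod.res_zero _ _))
      rw [mres, SiteMod.res_sum]
      refine Finset.sum_congr rfl fun t _ => ?_
      exact ((Mod48.res_smul _ _ _ _).trans (congrArg (_ • ·) ((Mod48.res_res _ _ _ _).trans
        (congrArg (fun z => Mod48.res _ z (a' t)) (Subsingleton.elim _ _))))).symm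
    obtain ⟨d, hd⟩ := (Submodule.mem_span_range_iff_exists_fun _).1
      (mem_span_rel_mres h𝔛 𝔐 h𝔐 hU hV' (hV'W.trans (leOfHom g)) a' ha' r'
        (fun e he => (hr' e).1 he) _ h0)
    refine ⟨fun s => FBlow13.res 𝔛 h𝔛.1 hVV' (d s), fun t => ?_⟩
    have h1 := congrArg (FBlow13.res 𝔛 h𝔛.1 hVV') (congrFun hd t).symm
    simp only [Finset.sum_apply, Pi.smul_apply, smul_eq_mul, map_sum, map_mul] at h1
    have hrr : ∀ {A B C : (𝔛.X 0).Opens} (i : B ≤ A) (j : C ≤ B) (s : FBlow13.Sec 𝔛 h𝔛.1 A),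
        FBlow13.res 𝔛 h𝔛.1 j (FBlow13.res 𝔛 h𝔛.1 i s) = FBlow13.res 𝔛 h𝔛.1 (j.trans i) s :=
      fun i j s => (SiteMod.rres_rres (O := 𝔛.Osh h𝔛.1) (homOfLE i).op (homOfLE j).op s).trans
        (congrArg (fun z => (𝔛.Osh h𝔛.1).obj.map z s) (Subsingleton.elim _ _))
    rw [hrr] at h1
    refine Eq.trans ?_ (h1.trans (Finset.sum_congr rfl fun s _ => congrArg (_ * ·) ?_))
    · exact congrArg (fun z => (𝔛.Osh h𝔛.1).obj.map z (c t)) (Subsingleton.elim _ _)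
    · rw [hrr]
      exact congrArg (fun z => (𝔛.Osh h𝔛.1).obj.map z (r' s t)) (Subsingleton.elim _ _)

include h𝔐 in
/-- The attached module is of finite presentation. -/
theorem isCohF_realMod : IsCohF 𝔛 h𝔛.1 (𝔐.realMod h𝔛.1) := by
  refine SiteMod.isFinitePresentation_of_locPres _ fun X => ⟨_, affineSieve_mem X, fun Y g hg => ?_⟩
  obtain ⟨V, hV, hYV, -⟩ := hg
  obtain ⟨d⟩ := nonempty_locPres h𝔛 𝔐 h𝔐 hV
  exact ⟨d.pullback (homOfLE hYV)⟩

end Groth.Agent.FCompl13
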