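import Groth.Agent.FCompl13.ModPres
import Groth.Agent.FCompl13.IdealGen
import Mathlib.RingTheory.Filtration

/-!
Artin–Rees for sections of attached modules, uniformly in smaller affine opens.
-/

set_option autoImplicit false
set_option backward.isDefEq.respectTransparency false
set_option linter.style.haveILetI false

noncomputable section

universe u

open CategoryTheory CategoryTheory.Limits AlgebraicGeometry TopologicalSpace Opposite

namespace Groth.Agent.FCompl13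

open _root_.FSch

variable {𝔛 : Sys.{u}} (h𝔛 : 𝔛.IsLocNoethFormal) (𝔐 : ModSys 𝔛) (h𝔐 : 𝔐.IsCoh)

include h𝔐 in
theorem exists_rel_bound {U : (𝔛.X 0).Opens} (hU : IsAffineOpen U) {q κ : Type u} [Fintype q]
    [Finite κ] (a : q → MSec 𝔐 h𝔛.1 U) (r : κ → q → FBlow13.Sec 𝔛 h𝔛.1 U)
    (hr : ∀ c : q → FBlow13.Sec 𝔛 h𝔛.1 U, ∑ t, c t • a t = 0 →
      c ∈ Submodule.span (FBlow13.Sec 𝔛 h𝔛.1 U) (Set.range r)) :
    ∃ k, ∀ (V : (𝔛.X 0).Opens) (_ : IsAffineOpen V) (i : V ≤ U) (m : ℕ), k ≤ m →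
      ∀ c : q → FBlow13.Sec 𝔛 h𝔛.1 V,
        mproj h𝔛.1 𝔐.F 𝔐.toPush V m (∑ t, c t • mres h𝔛 𝔐 i (a t)) = 0 →
        c ∈ Submodule.span (FBlow13.Sec 𝔛 h𝔛.1 V) (Set.range fun s t => FBlow13.res 𝔛 h𝔛.1 i (r s t)) ⊔
          secIdeal 𝔛 h𝔛.1 V ^ (m + 1 - k) • ⊤ := by
  classical
  have := Fintype.ofFinite κ
  obtain ⟨hNU, -, hpU⟩ := secRing h𝔛 hU
  obtain ⟨hMf, -, hMU⟩ := modSec 𝔐 h𝔛 h𝔐 hU
  have := hNU
  have := hMf
  let A := FBlow13.Sec 𝔛 h𝔛.1 U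
  let J := secIdeal 𝔛 h𝔛.1 U
  let P : Submodule A (MSec 𝔐 h𝔛.1 U) := Submodule.span A (Set.range a)
  obtain ⟨k, hk⟩ := J.exists_pow_inf_eq_pow_smul P
  refine ⟨k, fun V hV i m hm c hc => ?_⟩
  obtain ⟨-, -, hpV⟩ := secRing h𝔛 hV
  have := (h𝔐 m).1
  set N' := Submodule.span (FBlow13.Sec 𝔛 h𝔛.1 V) (Set.range fun s t => FBlow13.res 𝔛 h𝔛.1 i (r s t))
    with hN'
  let ρ : (q → A) → (q → FBlow13.Sec 𝔛 h𝔛.1 V) := fun x t => FBlow13.res 𝔛 h𝔛.1 i (x t)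
  let Nn : Submodule A (q → A) := Submodule.span A (Set.range r) ⊔ J ^ (m + 1 - k) • ⊤
  obtain ⟨p, g, hg⟩ := Submodule.fg_iff_exists_fin_generating_family.1 (IsNoetherian.noetherian Nn)
  have hrel : ∀ b : q → Γ(𝔛.X m, 𝔛.lvU h𝔛.1 m U),
      ∑ t, b t • mproj h𝔛.1 𝔐.F 𝔐.toPush U m (a t) = 0 → b ∈ Submodule.span Γ(𝔛.X m, 𝔛.lvU h𝔛.1 m U)
        (Set.range fun s t => FBlow13.proj 𝔛 h𝔛.1 U m (g s t)) := by
    intro b hb
    choose β hβ using fun t => (hpU m).1 (b t)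
    have h0 : ∑ t, β t • a t ∈ J ^ (m + 1) • (⊤ : Submodule A (MSec 𝔐 h𝔛.1 U)) ⊓ P := by
      refine ⟨((hMU m).2 _).1 ?_, Submodule.sum_mem _ fun t _ =>
        Submodule.smul_mem P (β t) (Submodule.subset_span ⟨t, rfl⟩)⟩
      rw [map_sum, ← hb]
      exact Finset.sum_congr rfl fun t _ => by rw [mproj_smul, hβ]
    rw [hk (m + 1) (hm.trans (Nat.le_succ _))] at h0
    have h1 : ∑ t, β t • a t ∈ J ^ (m + 1 - k) • P := Submodule.smul_mono le_rfl inf_le_right h0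
    obtain ⟨e, he, hsum⟩ := (Submodule.mem_ideal_smul_span_iff_exists_sum _ _ _).1 h1
    rw [Finsupp.sum_fintype] at hsum
    swap
    · exact fun t => zero_smul A (a t)
    have hmem : β ∈ Nn := by
      refine Submodule.mem_sup.2 ⟨fun t => β t - e t, hr _ ?_, fun t => e t,
        mem_pow_smul_pi _ _ he, funext fun t => sub_add_cancel _ _⟩
      simp only [sub_smul, Finset.sum_sub_distrib, hsum, sub_self]
    obtain ⟨w, hw⟩ := (Submodule.mem_span_range_iff_exists_fun _).1 (hg.ge hmem)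
    refine (Submodule.mem_span_range_iff_exists_fun _).2
      ⟨fun s => FBlow13.proj 𝔛 h𝔛.1 U m (w s), ?_⟩
    funext t
    have ht := congrArg (FBlow13.proj 𝔛 h𝔛.1 U m) (congrFun hw t)
    simp only [Finset.sum_apply, Pi.smul_apply, smul_eq_mul, map_sum, map_mul, hβ] at ht ⊢
    exact ht
  have hcm : ∑ t, FBlow13.proj 𝔛 h𝔛.1 V m (c t) •
      QC70.res (𝔐.F m) (FBlow.lvU_mono 𝔛 h𝔛.1 m i) (mproj h𝔛.1 𝔐.F 𝔐.toPush U m (a t)) = 0 := by
    rw [← hc, map_sum]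
    refine Finset.sum_congr rfl fun t _ => ?_
    rw [mproj_smul, mres, mproj_res]
  obtain ⟨d, hd⟩ := (Submodule.mem_span_range_iff_exists_fun _).1
    (mem_span_rel_res (𝔐.F m) (FBlow13.isAffineOpen_lvU (h := h𝔛.1) hU m)
      (FBlow.lvU_mono 𝔛 h𝔛.1 m i) (FBlow13.isAffineOpen_lvU (h := h𝔛.1) hV m) _ _ hrel _ hcm)
  choose δ hδ using fun s => (hpV m).1 (d s)
  have hρ : ∀ x ∈ Nn, ρ x ∈ N' ⊔ secIdeal 𝔛 h𝔛.1 V ^ (m + 1 - k) • ⊤ := by
    intro x hx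
    obtain ⟨y, hy, z, hz, rfl⟩ := Submodule.mem_sup.1 hx
    rw [show ρ (y + z) = ρ y + ρ z from funext fun t => map_add (FBlow13.res 𝔛 h𝔛.1 i).hom _ _]
    refine Submodule.add_mem _ (Submodule.mem_sup_left ?_) (Submodule.mem_sup_right ?_)
    · obtain ⟨w, rfl⟩ := (Submodule.mem_span_range_iff_exists_fun _).1 hy
      rw [show ρ (∑ s, w s • r s) = ∑ s, FBlow13.res 𝔛 h𝔛.1 i (w s) • (fun t => FBlow13.res 𝔛 h𝔛.1 i (r s t))
        from funext fun t => by simp [ρ, Finset.sum_apply]]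
      exact Submodule.sum_mem _ fun s _ => Submodule.smul_mem _ _ (Submodule.subset_span ⟨s, rfl⟩)
    · refine mem_pow_smul_pi _ _ fun t => ?_
      have h3 := Submodule.mem_map_of_mem (f := (LinearMap.proj t : (q → A) →ₗ[A] A)) hz
      rw [Submodule.map_smul''] at h3
      have h4 := Submodule.smul_mono (le_refl (J ^ (m + 1 - k))) le_top h3
      rw [smul_eq_mul, Ideal.mul_top] at h4
      have h5 := Ideal.mem_map_of_mem (FBlow13.res 𝔛 h𝔛.1 i).hom h4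
      rwa [secIdeal_pow_map_res h𝔛 hU hV i] at h5
  have hmain : ∑ s, δ s • ρ (g s) ∈ N' ⊔ secIdeal 𝔛 h𝔛.1 V ^ (m + 1 - k) • ⊤ :=
    Submodule.sum_mem _ fun s _ => Submodule.smul_mem _ _ (hρ _ (hg.le (Submodule.subset_span ⟨s, rfl⟩)))
  rw [← sub_add_cancel c (∑ s, δ s • ρ (g s))]
  refine Submodule.add_mem _ (Submodule.mem_sup_right ?_) hmain
  refine Submodule.smul_mono (Ideal.pow_le_pow_right (Nat.sub_le _ _)) le_rfl
    (mem_pow_smul_pi _ _ fun t => ?_)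
  rw [← (hpV m).2, RingHom.mem_ker]
  have ht := congrFun hd t
  simp only [Finset.sum_apply, Pi.smul_apply, smul_eq_mul] at ht
  simp only [Pi.sub_apply, Finset.sum_apply, Pi.smul_apply, smul_eq_mul, map_sub, map_sum, map_mul,
    hδ, ρ, FBlow13.proj_res_apply]
  exact sub_eq_zero.2 ht.symm

end Groth.Agent.FCompl13
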