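import Groth.Agent.FCompl13.Basic
import Groth.Agent.FlatMor67.ClosedNhd
import Groth.Agent.FlatMor68.FlatInfNbhd
import Groth.Agent.An92.FSch.Basic
import Mathlib.RingTheory.Filtration
import Mathlib.AlgebraicGeometry.Morphisms.Proper

/-!
Closed immersions and isomorphisms detected on all thickenings, near the support.
-/

set_option autoImplicit false
set_option linter.style.haveILetI false

universe u

open CategoryTheory CategoryTheory.Limits AlgebraicGeometry TopologicalSpace

namespace Groth.Agent.FCompl13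

variable {X Y : Scheme.{u}} (f : X ⟶ Y) (J : Y.IdealSheafData)

theorem comap_eq_bot_of_isReduced {P : Scheme.{u}} [IsReduced P] (g : P ⟶ Y)
    (h : ∀ p, g p ∈ J.support) : J.comap g = ⊥ := by
  refine eq_bot_iff.2 fun V => ?_
  refine (ideal_le_nilradical _ (fun p => ?_) V).trans ?_
  · rw [Scheme.IdealSheafData.support_comap]
    exact h p
  · rw [nilradical_eq_zero]
    exact bot_le

theorem fibre_of_isClosedImmersion_zero (h0 : IsClosedImmersion (pullback.snd f J.subschemeι))
    (y : Y) (hy : y ∈ J.support) :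
    IsEmpty ↥(f.fiber y) ∨ IsIso (f.fiberToSpecResidueField y) := by
  let g := Y.fromSpecResidueField y
  have hle : J.subschemeι.ker ≤ g.ker := by
    rw [Scheme.IdealSheafData.ker_subschemeι, ← Scheme.IdealSheafData.map_bot g,
      Scheme.IdealSheafData.le_map_iff_comap_le, comap_eq_bot_of_isReduced J g fun p => ?_]
    have : g p = y := by simp [g]
    rwa [this]
  let l := IsClosedImmersion.lift J.subschemeι g hle
  have hl : l ≫ J.subschemeι = g := IsClosedImmersion.lift_fac _ _ _
  have hbig : IsPullback (f.fiberι y) (f.fiberToSpecResidueField y) f (l ≫ J.subschemeι) := by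
    rw [hl]
    exact IsPullback.of_hasPullback f g
  have hci : IsClosedImmersion (f.fiberToSpecResidueField y) :=
    MorphismProperty.of_isPullback
      (IsPullback.of_right' hbig (IsPullback.of_hasPullback f J.subschemeι)) h0
  by_cases hne : IsEmpty ↥(f.fiber y)
  · exact Or.inl hne
  right
  haveI : Nonempty ↥(f.fiber y) := not_isEmpty_iff.1 hne
  haveI : Surjective (f.fiberToSpecResidueField y) :=
    ⟨fun z => ⟨Classical.arbitrary _, Subsingleton.elim (α := PrimeSpectrum _) _ _⟩⟩
  exact isIso_of_isClosedImmersion_of_surjective _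

theorem isClosedImmersion_restrict_iSup {ι : Type*} (W : ι → Y.Opens)
    (h : ∀ i, IsClosedImmersion (f ∣_ W i)) : IsClosedImmersion (f ∣_ ⨆ i, W i) := by
  let U := ⨆ i, W i
  have hcov : ⨆ i, U.ι ⁻¹ᵁ W i = ⊤ := top_unique fun x _ => by
    obtain ⟨i, hi⟩ := Opens.mem_iSup.1 x.2
    exact Opens.mem_iSup.2 ⟨i, hi⟩
  refine (IsZariskiLocalAtTarget.iff_of_iSup_eq_top (P := @IsClosedImmersion) _ hcov).2 fun i => ?_
  have e := morphismRestrictRestrict f U (U.ι ⁻¹ᵁ W i)
  refine (MorphismProperty.arrow_mk_iso_iff @IsClosedImmersion e).2 ?_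
  have heq : U.ι ''ᵁ (U.ι ⁻¹ᵁ W i) = W i := by
    rw [Scheme.Hom.image_preimage_eq_opensRange_inf, Scheme.Opens.opensRange_ι]
    exact inf_eq_right.2 (le_iSup W i)
  rw [heq]
  exact h i

theorem exists_closedImmersion_nhd_support [LocallyOfFiniteType f] [UniversallyClosed f]
    (h0 : IsClosedImmersion (pullback.snd f J.subschemeι)) :
    ∃ W : Y.Opens, (J.support : Set Y) ⊆ W ∧ IsClosedImmersion (f ∣_ W) := by
  choose W hyW hW using fun y : J.support =>
    FlatMor67.ClosedNhd.exists_closedImmersion_nhd f y.1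
      (fibre_of_isClosedImmersion_zero f J h0 y.1 y.2) ⊤ trivial
      (hV := IsZariskiLocalAtTarget.restrict ‹UniversallyClosed f› _)
  exact ⟨⨆ y, W y, fun y hy => Opens.mem_iSup.2 ⟨⟨y, hy⟩, hyW _⟩,
    isClosedImmersion_restrict_iSup f W hW⟩

/-- A closed immersion which is an isomorphism on all thickenings is one near the support. -/
theorem exists_iso_nhd_support [IsLocallyNoetherian Y] [IsClosedImmersion f]
    (h : ∀ n : ℕ, IsIso (pullback.snd f (J ^ (n + 1)).subschemeι)) :
    ∃ W : Y.Opens, (J.support : Set Y) ⊆ W ∧ IsIso (f ∣_ W) := by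
  classical
  have hle : ∀ n : ℕ, f.ker ≤ J ^ (n + 1) := fun n => by
    have := h n
    have e : (inv (pullback.snd f (J ^ (n + 1)).subschemeι) ≫ pullback.fst f _) ≫ f =
        (J ^ (n + 1)).subschemeι := by
      rw [Category.assoc, pullback.condition, IsIso.inv_hom_id_assoc]
    calc f.ker ≤ ((inv (pullback.snd f (J ^ (n + 1)).subschemeι) ≫ pullback.fst f _) ≫ f).ker :=
          Scheme.Hom.le_ker_comp _ _
      _ = J ^ (n + 1) := by rw [e, Scheme.IdealSheafData.ker_subschemeι]
  have hstalk : ∀ y ∈ J.support, Div89.stalkIdeal f.ker y = ⊥ := by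
    intro y hy
    have hne : Div89.stalkIdeal J y ≠ ⊤ := by
      obtain ⟨z, rfl⟩ : y ∈ Set.range J.subschemeι := by
        rw [Scheme.IdealSheafData.range_subschemeι]
        exact hy
      rw [show Div89.stalkIdeal J (J.subschemeι z) = RingHom.ker (J.subschemeι.stalkMap z).hom by
        rw [FlatMor68.FlatInfNbhd.ker_stalkMap_closedImmersion, Scheme.IdealSheafData.ker_subschemeι]]
      exact RingHom.ker_ne_top _
    have : IsNoetherianRing (Y.presheaf.stalk y) := inferInstance
    refine eq_bot_iff.2 ?_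
    rw [← Ideal.iInf_pow_eq_bot_of_isLocalRing _ hne]
    refine le_iInf fun n => ?_
    refine le_trans ?_ (Ideal.pow_le_pow_right (Nat.le_succ n))
    rw [← Div89.stalkIdeal_pow]
    obtain ⟨U, hU⟩ := Div89.exists_affine_mem y
    rw [Div89.stalkIdeal_eq _ U _ hU, Div89.stalkIdeal_eq _ U _ hU]
    exact Ideal.map_mono (hle n U)
  have key : ∀ y ∈ J.support, ∃ W : Y.Opens, y ∈ W ∧ ∀ V : Y.affineOpens, V.1 ≤ W →
      f.ker.ideal V = ⊥ := by
    intro y hy
    obtain ⟨U, hU⟩ := Div89.exists_affine_mem y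
    have hnoeth := IsLocallyNoetherian.component_noetherian U
    obtain ⟨s, hs⟩ := (IsNoetherian.noetherian (f.ker.ideal U))
    letI := Div89.stalkAlg U.1 y hU
    haveI := Div89.isLocalization_stalk U y hU
    haveI := Div89.primeAt_isPrime U y hU
    have hkill : ∀ a ∈ f.ker.ideal U, ∃ c ∈ (Div89.primeAt U y hU).primeCompl, c * a = 0 := by
      intro a ha
      have h1 : algebraMap Γ(Y, U.1) (Y.presheaf.stalk y) a = 0 := by
        have h2 : (Y.presheaf.germ U.1 y hU).hom a ∈ Div89.stalkIdeal f.ker y := by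
          rw [Div89.stalkIdeal_eq _ U _ hU]
          exact Ideal.mem_map_of_mem _ ha
        rwa [hstalk y hy, Ideal.mem_bot] at h2
      obtain ⟨⟨c, hc⟩, hca⟩ := (IsLocalization.map_eq_zero_iff
        (Div89.primeAt U y hU).primeCompl (Y.presheaf.stalk y) a).1 h1
      exact ⟨c, hc, hca⟩
    choose c hc hca using fun a : {a // a ∈ s} => hkill a.1 (hs ▸ Ideal.subset_span a.2)
    let d := ∏ a, c a
    have hd : d ∈ (Div89.primeAt U y hU).primeCompl := prod_mem fun a _ => hc a
    have hda : ∀ a ∈ f.ker.ideal U, d * a = 0 := by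
      intro a ha
      rw [← hs] at ha
      induction ha using Submodule.span_induction with
      | mem x hx =>
        show (∏ b, c b) * x = 0
        rw [← Finset.mul_prod_erase _ _ (Finset.mem_univ ⟨x, hx⟩), mul_right_comm,
          hca ⟨x, hx⟩, zero_mul]
      | zero => rw [mul_zero]
      | add p q _ _ hp hq => rw [mul_add, hp, hq, add_zero]
      | smul r p _ hp => rw [smul_eq_mul, mul_left_comm, hp, mul_zero]
    have hyd : y ∈ Y.basicOpen d := by
      rw [Scheme.mem_basicOpen Y d y hU]
      exact IsLocalization.map_units (Y.presheaf.stalk y) ⟨d, hd⟩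
    refine ⟨Y.basicOpen d, hyd, fun V hV => ?_⟩
    let B : Y.affineOpens := Y.affineBasicOpen d
    have hB : f.ker.ideal B = ⊥ := by
      rw [← f.ker.map_ideal_basicOpen U d]
      refine le_bot_iff.1 (Ideal.map_le_iff_le_comap.2 ?_)
      intro a ha
      refine Ideal.mem_bot.2 ?_
      have hunit : IsUnit ((Y.presheaf.map (homOfLE (Y.basicOpen_le d)).op).hom d) :=
        RingedSpace.isUnit_res_basicOpen _ d
      refine hunit.mul_right_eq_zero.1 ?_
      rw [← map_mul, hda a ha, map_zero]
    rw [← f.ker.map_ideal (U := V) (V := B) hV, hB, Ideal.map_bot]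
  choose W hyW hW using fun y : J.support => key y.1 y.2
  refine ⟨⨆ y, W y, fun y hy => Opens.mem_iSup.2 ⟨⟨y, hy⟩, hyW _⟩, ?_⟩
  have hci : IsClosedImmersion (f ∣_ ⨆ y, W y) := inferInstance
  have hker : (f ∣_ ⨆ y, W y).ker = ⊥ := by
    refine eq_bot_iff.2 (MP99.le_of_local fun x => ?_)
    obtain ⟨y, hxy⟩ := Opens.mem_iSup.1 x.2
    obtain ⟨_, ⟨V, hV, rfl⟩, hxV, hVW⟩ := (⨆ y, W y).toScheme.isBasis_affineOpens.exists_subset_of_mem_open
      (show x ∈ ((⨆ y, W y).ι ⁻¹ᵁ W y : Set _) from hxy) ((⨆ y, W y).ι ⁻¹ᵁ W y).isOpen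
    refine ⟨⟨V, hV⟩, hxV, ?_⟩
    rw [show (f ∣_ ⨆ y, W y).ker = f.ker.comap (⨆ y, W y).ι from
      (by rw [← Scheme.IdealSheafData.ker_fst_of_isClosedImmersion,
        ← (isPullback_morphismRestrict f _).isoPullback_hom_fst]; exact (Scheme.Hom.ker_comp_of_isIso _ _)),
      Scheme.IdealSheafData.ideal_comap_of_isOpenImmersion]
    rw [hW y ⟨_, hV.image_of_isOpenImmersion _⟩ (fun p hp => by
      obtain ⟨q, hq, rfl⟩ := hp
      exact hVW hq)]
    intro a ha
    rw [Ideal.mem_comap, Ideal.mem_bot] at ha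
    rw [Scheme.IdealSheafData.ideal_bot, Pi.bot_apply, Ideal.mem_bot]
    exact (ConcreteCategory.bijective_of_isIso ((⨆ y, W y).ι.appIso V).inv).1
      (ha.trans (map_zero _).symm)
  exact IsClosedImmersion.isIso_of_ker_eq (f ∣_ ⨆ y, W y) (𝟙 _) (f ∣_ ⨆ y, W y) (Category.comp_id _)
    (by rw [hker, Scheme.Hom.ker_eq_bot_of_isIso])

end Groth.Agent.FCompl13

namespace Groth.Agent.FCompl13

variable {X Y Z : Scheme.{u}}

theorem isPullback_completionMap (f : X ⟶ Y) (I : X.IdealSheafData) (K : Y.IdealSheafData)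
    (e : I = K.comap f) (hc : FSch.PowCompat f I K) (n : ℕ) :
    IsPullback (FSch.completionToX X I n) ((FSch.completionMap f I K hc : FSch.Hom _ _).app n) f
      (FSch.completionToX Y K n) := by
  refine isPullback_of_isClosedImmersion (I ^ (n + 1)).subschemeι (K ^ (n + 1)).subschemeι
    (Scheme.IdealSheafData.subschemeMap (I ^ (n + 1)) (K ^ (n + 1)) f
      (Scheme.IdealSheafData.le_map_iff_comap_le.mpr (hc n))) f
    (Scheme.IdealSheafData.subschemeMap_subschemeι _ _ _ _).symm ?_
  rw [Scheme.IdealSheafData.ker_subschemeι, Scheme.IdealSheafData.ker_subschemeι,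
    An92.FSch.comap_pow, e]

theorem restrict_of_le (P : MorphismProperty Scheme.{u}) [P.IsStableUnderBaseChange] (f : X ⟶ Y)
    {U W : Y.Opens} (hUW : U ≤ W) (h : P (f ∣_ W)) : P (f ∣_ U) := by
  have h1 := isPullback_morphismRestrict f U
  have h2 := isPullback_morphismRestrict f W
  rw [← Y.homOfLE_ι hUW] at h1
  exact MorphismProperty.of_isPullback (IsPullback.of_right' h1.flip h2.flip) h

/-- A property stable under base change passes from a neighbourhood of the support to the levels. -/
theorem snd_of_restrict (P : MorphismProperty Scheme.{u}) [P.IsStableUnderBaseChange] (f : X ⟶ Y)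
    (K : Y.IdealSheafData) (W : Y.Opens) (hW : (K.support : Set Y) ⊆ W) (h : P (f ∣_ W)) :
    P (pullback.snd f K.subschemeι) := by
  have hr : Set.range K.subschemeι ⊆ Set.range W.ι := by
    rw [Scheme.IdealSheafData.range_subschemeι, Scheme.Opens.range_ι]
    exact hW
  have e := IsOpenImmersion.lift_fac W.ι K.subschemeι hr
  have h1 := IsPullback.of_hasPullback f K.subschemeι
  have key : ∀ ι' : K.subscheme ⟶ Y, ι' = K.subschemeι →
      IsPullback (pullback.fst f K.subschemeι) (pullback.snd f K.subschemeι) f ι' := fun ι' hι => by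
    subst hι
    exact h1
  exact MorphismProperty.of_isPullback
    (IsPullback.of_right' (key _ e) (isPullback_morphismRestrict f W).flip) h

/-- Neighbourhoods of a preimage under a closed map contain preimages of neighbourhoods. -/
theorem exists_open_preimage_le (h : Y ⟶ Z) [UniversallyClosed h] (S : Set Z) (W : Y.Opens)
    (hW : h ⁻¹' S ⊆ W) : ∃ U : Z.Opens, S ⊆ U ∧ h ⁻¹ᵁ U ≤ W := by
  refine ⟨⟨(h '' (W : Set Y)ᶜ)ᶜ, (h.isClosedMap _ W.2.isClosed_compl).isOpen_compl⟩, ?_, ?_⟩
  · rintro z hz ⟨y, hy, rfl⟩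
    exact hy (hW hz)
  · intro y hy
    by_contra hne
    exact hy ⟨y, hne, rfl⟩

end Groth.Agent.FCompl13

namespace Groth.Agent.FCompl13

variable {X Y Z : Scheme.{u}}

theorem level_iff (P : MorphismProperty Scheme.{u}) [P.RespectsIso] (f : X ⟶ Y)
    (I : X.IdealSheafData) (K : Y.IdealSheafData) (e : I = K.comap f) (hc : FSch.PowCompat f I K)
    (n : ℕ) : P ((FSch.completionMap f I K hc : FSch.Hom _ _).app n) ↔
      P (pullback.snd f (K ^ (n + 1)).subschemeι) := by
  have hsq := isPullback_completionMap f I K e hc n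
  rw [← hsq.isoPullback_hom_snd]
  exact P.cancel_left_of_respectsIso _ _

theorem completion_closedImmersion_iff [IsLocallyNoetherian Z] (g : X ⟶ Z) (h : Y ⟶ Z)
    [IsProper g] [IsProper h] (f : X ⟶ Y) (w : f ≫ h = g) (J : Z.IdealSheafData)
    (hc : FSch.PowCompat f (J.comap g) (J.comap h)) :
    (∀ n : ℕ, IsClosedImmersion
        ((FSch.completionMap f (J.comap g) (J.comap h) hc : FSch.Hom _ _).app n)) ↔
      ∃ U : Z.Opens, (J.support : Set Z) ⊆ U ∧ IsClosedImmersion (f ∣_ h ⁻¹ᵁ U) := by
  have hI : J.comap g = (J.comap h).comap f := by rw [← w, Scheme.IdealSheafData.comap_comp]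
  have hsupp : ((J.comap h).support : Set Y) = h ⁻¹' (J.support : Set Z) := by
    rw [Scheme.IdealSheafData.support_comap]; rfl
  constructor
  · intro hn
    have : IsProper (f ≫ h) := by rw [w]; infer_instance
    have : IsProper f := IsProper.of_comp f h
    have h0 := (level_iff @IsClosedImmersion f _ _ hI hc 0).1 (hn 0)
    have h1 : IsClosedImmersion (pullback.snd f (J.comap h).subschemeι) := by
      have key : ∀ K' : Y.IdealSheafData, K' = J.comap h →
          IsClosedImmersion (pullback.snd f K'.subschemeι) →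
          IsClosedImmersion (pullback.snd f (J.comap h).subschemeι) := by
        rintro K' rfl hK
        exact hK
      exact key _ (pow_one _) h0
    obtain ⟨W, hW, hW'⟩ := exists_closedImmersion_nhd_support f (J.comap h) h1
    obtain ⟨U, hU, hUW⟩ := exists_open_preimage_le h (J.support : Set Z) W (hsupp ▸ hW)
    exact ⟨U, hU, restrict_of_le @IsClosedImmersion f hUW hW'⟩
  · rintro ⟨U, hU, hU'⟩ n
    refine (level_iff @IsClosedImmersion f _ _ hI hc n).2 (snd_of_restrict _ f _ (h ⁻¹ᵁ U) ?_ hU')
    rw [Scheme.IdealSheafData.support_pow_succ, hsupp]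
    exact fun y hy => hU hy

theorem completion_iso_iff [IsLocallyNoetherian Z] (g : X ⟶ Z) (h : Y ⟶ Z)
    [IsProper g] [IsProper h] (f : X ⟶ Y) (w : f ≫ h = g) (J : Z.IdealSheafData)
    (hc : FSch.PowCompat f (J.comap g) (J.comap h)) :
    (∀ n : ℕ, IsIso ((FSch.completionMap f (J.comap g) (J.comap h) hc : FSch.Hom _ _).app n)) ↔
      ∃ U : Z.Opens, (J.support : Set Z) ⊆ U ∧ IsIso (f ∣_ h ⁻¹ᵁ U) := by
  have hI : J.comap g = (J.comap h).comap f := by rw [← w, Scheme.IdealSheafData.comap_comp]
  have hsupp : ((J.comap h).support : Set Y) = h ⁻¹' (J.support : Set Z) := by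
    rw [Scheme.IdealSheafData.support_comap]; rfl
  constructor
  · intro hn
    have : IsProper (f ≫ h) := by rw [w]; infer_instance
    have : IsProper f := IsProper.of_comp f h
    have : IsLocallyNoetherian Y := LocallyOfFiniteType.isLocallyNoetherian h
    have hk : ∀ n : ℕ, IsIso (pullback.snd f ((J.comap h) ^ (n + 1)).subschemeι) := fun n =>
      (level_iff (MorphismProperty.isomorphisms Scheme) f _ _ hI hc n).1 (hn n)
    have h0 : IsClosedImmersion (pullback.snd f ((J.comap h) ^ (0 + 1)).subschemeι) := by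
      have := hk 0
      infer_instance
    have h1 : IsClosedImmersion (pullback.snd f (J.comap h).subschemeι) := by
      have key : ∀ K' : Y.IdealSheafData, K' = J.comap h →
          IsClosedImmersion (pullback.snd f K'.subschemeι) →
          IsClosedImmersion (pullback.snd f (J.comap h).subschemeι) := by
        rintro K' rfl hK
        exact hK
      exact key _ (pow_one _) h0
    obtain ⟨W, hW, hW'⟩ := exists_closedImmersion_nhd_support f (J.comap h) h1
    let K := (J.comap h).comap W.ι
    have hlev : ∀ n : ℕ, IsIso (pullback.snd (f ∣_ W) (K ^ (n + 1)).subschemeι) := fun n => by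
      have e : K ^ (n + 1) = ((J.comap h) ^ (n + 1)).comap W.ι := (An92.FSch.comap_pow _ _ _).symm
      let m := Scheme.IdealSheafData.subschemeMap (K ^ (n + 1)) ((J.comap h) ^ (n + 1)) W.ι
        (Scheme.IdealSheafData.le_map_iff_comap_le.mpr e.ge)
      have hm : m ≫ ((J.comap h) ^ (n + 1)).subschemeι = (K ^ (n + 1)).subschemeι ≫ W.ι :=
        Scheme.IdealSheafData.subschemeMap_subschemeι _ _ _ _
      have big := (IsPullback.of_hasPullback (f ∣_ W) (K ^ (n + 1)).subschemeι).paste_horiz
        (isPullback_morphismRestrict f W).flip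
      rw [← hm] at big
      exact MorphismProperty.of_isPullback (P := MorphismProperty.isomorphisms Scheme)
        (IsPullback.of_right' big (IsPullback.of_hasPullback f _)) (hk n)
    obtain ⟨W', hsub, hiso⟩ := exists_iso_nhd_support (f ∣_ W) K hlev
    have hle : W.ι ''ᵁ W' ≤ W := W.ι_image_le _
    have hiso' : IsIso (f ∣_ W.ι ''ᵁ W') :=
      (MorphismProperty.arrow_mk_iso_iff (MorphismProperty.isomorphisms Scheme)
        (morphismRestrictRestrict f W W')).1 hiso
    obtain ⟨U, hU, hUW⟩ := exists_open_preimage_le h (J.support : Set Z) (W.ι ''ᵁ W') (by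
      rw [← hsupp]
      intro y hy
      refine ⟨⟨y, hW hy⟩, hsub ?_, rfl⟩
      show (⟨y, hW hy⟩ : W.toScheme) ∈ K.support
      rw [Scheme.IdealSheafData.support_comap]
      exact hy)
    exact ⟨U, hU, restrict_of_le (MorphismProperty.isomorphisms Scheme) f hUW hiso'⟩
  · rintro ⟨U, hU, hU'⟩ n
    refine (level_iff (MorphismProperty.isomorphisms Scheme) f _ _ hI hc n).2
      (snd_of_restrict _ f _ (h ⁻¹ᵁ U) ?_ hU')
    rw [Scheme.IdealSheafData.support_pow_succ, hsupp]
    exact fun y hy => hU hy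

end Groth.Agent.FCompl13
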