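import Groth.Agent.FCompl13.CohReal
import Groth.Agent.FCompl13.ModRel

/-!
Surjectivity is detected on the smallest level; injective and surjective morphisms form open sets.
-/

set_option autoImplicit false
set_option backward.isDefEq.respectTransparency false
set_option linter.style.haveILetI false

noncomputable section

universe u

open CategoryTheory CategoryTheory.Limits AlgebraicGeometry TopologicalSpace Opposite

namespace Groth.Agent.FCompl13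

open _root_.FSch
open SiteMod (ap)

variable {𝔛 : Sys.{u}} (h𝔛 : 𝔛.IsLocNoethFormal)

theorem epi_of_epi_pull_zero {𝔉 𝔊 : ModF 𝔛 h𝔛.1} [𝔉.IsFinitePresentation] [𝔊.IsFinitePresentation]
    (θ : 𝔉 ⟶ 𝔊) [Epi ((levelMor 𝔛 h𝔛.1 0).pull.map θ)] : Epi θ := by
  let L := levelMor 𝔛 h𝔛.1 0
  have := SiteMod.isFinitePresentation_cokernel θ
  have hπ : L.pull.map (cokernel.π θ) = 0 := by
    rw [← cancel_epi (L.pull.map θ), ← L.pull.map_comp, cokernel.condition, comp_zero]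
    apply (L.adj.homEquiv _ _).injective
    rw [Adjunction.homEquiv_unit, Adjunction.homEquiv_unit]
    rw [L.adj.unit_naturality]
    simp
  have : PreservesColimitsOfSize.{0, 0} L.pull := L.adj.leftAdjoint_preservesColimits
  have hz : IsZero (L.pull.obj (cokernel θ)) := by
    rw [IsZero.iff_id_eq_zero, ← cancel_epi (L.pull.map (cokernel.π θ)), hπ]
    simp
  have hcoh := isCoh_sysOf h𝔛.1 (cokernel θ)
  have hzero : ∀ (V : (𝔛.X 0).Opens), IsAffineOpen V →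
      ∀ x : MSec (sysOf h𝔛.1 (cokernel θ)) h𝔛.1 V, x = 0 := fun V hV x => by
    obtain ⟨-, hC, -⟩ := secRing h𝔛 hV
    obtain ⟨hfin, -, hM⟩ := modSec _ h𝔛 hcoh hV
    have := hC
    have := hfin
    have htop : (⊥ : Submodule (FBlow13.Sec 𝔛 h𝔛.1 V) (MSec (sysOf h𝔛.1 (cokernel θ)) h𝔛.1 V)) = ⊤ := by
      refine eq_top_of_sup_smul_eq_top (I := secIdeal 𝔛 h𝔛.1 V) _ (eq_top_iff.2 fun y _ => ?_)
      refine Submodule.mem_sup_right ?_
      have h0 : mproj h𝔛.1 _ _ V 0 y = 0 :=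
        congrArg (fun φ => ap φ (SiteMod.ofPush L (L.pull.obj (cokernel θ)) (mproj h𝔛.1 _ _ V 0 y)))
          (hz.eq_of_src (𝟙 (L.pull.obj (cokernel θ))) 0)
      rw [(hM 0).2, pow_one] at h0
      exact h0
    exact (Submodule.mem_bot _).1 (htop.ge Submodule.mem_top)
  have hall : cokernel.π θ = 0 := by
    have := isIso_toReal h𝔛 (cokernel θ)
    rw [← cancel_mono (toReal h𝔛.1 (cokernel θ)), zero_comp]
    apply Mod48.fgt.map_injective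
    refine PresheafOfModules.hom_ext fun W => ?_
    ext z
    refine SiteMod.eq_zero_of_locally (affineSieve_mem W.unop) fun Y v hv => ?_
    obtain ⟨V', hV', hYV', hV'W⟩ := hv
    rw [show v = homOfLE hYV' ≫ homOfLE hV'W from Subsingleton.elim _ _, op_comp, ← Mod48.res_res]
    exact (congrArg (Mod48.res _ (homOfLE hYV').op) (hzero V' hV' _)).trans (SiteMod.res_zero _ _)
  exact Abelian.epi_of_cokernel_π_eq_zero θ hall

theorem unit_comp_eq_zero {𝔉 𝔊 : ModF 𝔛 h𝔛.1} (ψ : 𝔉 ⟶ 𝔊) (n : ℕ)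
    (hψ : ψ ≫ (levelMor 𝔛 h𝔛.1 n).adj.unit.app 𝔊 = 0) :
    ψ ≫ (levelMor 𝔛 h𝔛.1 0).adj.unit.app 𝔊 = 0 := by
  induction n with
  | zero => exact hψ
  | succ n ih =>
    refine ih ?_
    rw [← unit_levelTrans, ← Category.assoc, hψ, zero_comp]

theorem epi_add {𝔉 𝔊 : ModF 𝔛 h𝔛.1} [𝔉.IsFinitePresentation] [𝔊.IsFinitePresentation]
    (θ ψ : 𝔉 ⟶ 𝔊) (n : ℕ) (hψ : ψ ≫ (levelMor 𝔛 h𝔛.1 n).adj.unit.app 𝔊 = 0) [Epi θ] :
    Epi (θ + ψ) := by
  let L := levelMor 𝔛 h𝔛.1 0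
  have : PreservesColimitsOfSize.{0, 0} L.pull := L.adj.leftAdjoint_preservesColimits
  have h0 := unit_comp_eq_zero h𝔛 ψ n hψ
  have hmap : L.pull.map (θ + ψ) = L.pull.map θ := by
    apply (L.adj.homEquiv _ _).injective
    rw [Adjunction.homEquiv_unit, Adjunction.homEquiv_unit, L.adj.unit_naturality,
      L.adj.unit_naturality, Preadditive.add_comp, h0, add_zero]
  have : Epi (L.pull.map (θ + ψ)) := by rw [hmap]; infer_instance
  exact epi_of_epi_pull_zero h𝔛 (θ + ψ)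

variable {𝔐 𝔑 : ModSys 𝔛} (h𝔐 : 𝔐.IsCoh) (h𝔑 : 𝔑.IsCoh) (θ : 𝔐.realMod h𝔛.1 ⟶ 𝔑.realMod h𝔛.1)

/-- A morphism on sections. -/
def secMap {V : (𝔛.X 0).Opens} :
    MSec 𝔐 h𝔛.1 V →ₗ[FBlow13.Sec 𝔛 h𝔛.1 V] MSec 𝔑 h𝔛.1 V :=
  ((Mod48.fgt.map θ).app (op V)).hom

theorem secMap_res {U V : (𝔛.X 0).Opens} (i : V ≤ U) (x : MSec 𝔐 h𝔛.1 U) :
    secMap h𝔛 θ (mres h𝔛 𝔐 i x) = mres h𝔛 𝔑 i (secMap h𝔛 θ x) :=
  (SiteMod.res_ap θ (homOfLE i) x).symm

include h𝔐 h𝔑 in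
theorem exists_mono_bound [CompactSpace (𝔛.X 0)] [Mono θ] :
    ∃ n : ℕ, ∀ ψ : 𝔐.realMod h𝔛.1 ⟶ 𝔑.realMod h𝔛.1,
      ψ ≫ realProj 𝔛 h𝔛.1 𝔑.F 𝔑.toPush n = 0 → Mono (θ + ψ) := by
  classical
  have hinj : ∀ V, Function.Injective (secMap h𝔛 θ (V := V)) := fun V =>
    PresheafOfModules.injective_of_mono (Mod48.fgt.map θ) (op V)
  -- bounds on affine opens
  have key : ∀ U : (𝔛.X 0).Opens, IsAffineOpen U → ∃ (q : ℕ) (a : Fin q → MSec 𝔐 h𝔛.1 U) (k : ℕ),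
      ∀ (V : (𝔛.X 0).Opens) (_ : IsAffineOpen V) (i : V ≤ U) (m : ℕ), k ≤ m →
        ∀ x : MSec 𝔐 h𝔛.1 V, mproj h𝔛.1 𝔑.F 𝔑.toPush V m (secMap h𝔛 θ x) = 0 →
          x ∈ secIdeal 𝔛 h𝔛.1 V ^ (m + 1 - k) • (⊤ : Submodule (FBlow13.Sec 𝔛 h𝔛.1 V) (MSec 𝔐 h𝔛.1 V)) := by
    intro U hU
    obtain ⟨hN, -, -⟩ := secRing h𝔛 hU
    obtain ⟨hfin, -, -⟩ := modSec 𝔐 h𝔛 h𝔐 hU
    have := hN
    have := hfin
    obtain ⟨q, a, ha⟩ := Module.Finite.exists_fin (R := FBlow13.Sec 𝔛 h𝔛.1 U) (M := MSec 𝔐 h𝔛.1 U)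
    let a' : ULift.{u} (Fin q) → MSec 𝔐 h𝔛.1 U := fun t => a t.down
    have ha' : Submodule.span (FBlow13.Sec 𝔛 h𝔛.1 U) (Set.range a') = ⊤ := by
      rw [← ha]; exact congrArg _ (Set.ext fun x => ⟨fun ⟨t, e⟩ => ⟨t.down, e⟩, fun ⟨t, e⟩ => ⟨⟨t⟩, e⟩⟩)
    obtain ⟨p, r, hr⟩ := Submodule.fg_iff_exists_fin_generating_family.1
      (IsNoetherian.noetherian (LinearMap.ker (Fintype.linearCombination (FBlow13.Sec 𝔛 h𝔛.1 U) a')))
    let r' : ULift.{u} (Fin p) → ULift.{u} (Fin q) → FBlow13.Sec 𝔛 h𝔛.1 U := fun s => r s.down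
    have hr' : ∀ c : ULift.{u} (Fin q) → FBlow13.Sec 𝔛 h𝔛.1 U, ∑ t, c t • a' t = 0 ↔
        c ∈ Submodule.span (FBlow13.Sec 𝔛 h𝔛.1 U) (Set.range r') := fun c => by
      rw [show Set.range r' = Set.range r from
        Set.ext fun x => ⟨fun ⟨t, e⟩ => ⟨t.down, e⟩, fun ⟨t, e⟩ => ⟨⟨t⟩, e⟩⟩, hr,
        LinearMap.mem_ker, Fintype.linearCombination_apply]
    obtain ⟨k, hk⟩ := exists_rel_bound h𝔛 𝔑 h𝔑 hU (fun t => secMap h𝔛 θ (a' t)) r' fun c hc =>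
      (hr' c).1 (hinj U (by rw [map_sum, map_zero, ← hc]; simp only [map_smul]))
    refine ⟨q, a, k, fun V hV i m hm x hx => ?_⟩
    obtain ⟨c, hc⟩ := (Submodule.mem_span_range_iff_exists_fun _).1
      ((mres_span_eq_top h𝔛 𝔐 h𝔐 hU hV i a' ha').ge (Submodule.mem_top (x := x)))
    have hmem := hk V hV i m hm c (by
      rw [← hx, ← hc]
      refine congrArg _ ((map_sum (secMap h𝔛 θ) _ _).trans (Finset.sum_congr rfl fun t _ => ?_)).symm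
      rw [map_smul, secMap_res])
    obtain ⟨y, hy, z, hz, hyz⟩ := Submodule.mem_sup.1 hmem
    let Φ := Fintype.linearCombination (FBlow13.Sec 𝔛 h𝔛.1 V) fun t => mres h𝔛 𝔐 i (a' t)
    have hy0 : Φ y = 0 := by
      refine LinearMap.mem_ker.1 ((Submodule.span_le.2 ?_) hy)
      rintro _ ⟨s, rfl⟩
      refine LinearMap.mem_ker.2 ((Fintype.linearCombination_apply ..).trans ?_)
      refine Eq.trans ?_ ((congrArg (mres h𝔛 𝔐 i) ((hr' (r' s)).2 (Submodule.subset_span ⟨s, rfl⟩))).trans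
        (SiteMod.res_zero _ _))
      rw [mres, SiteMod.res_sum]
      exact Finset.sum_congr rfl fun t _ => (Mod48.res_smul _ _ _ _).symm
    have hxΦ : x = Φ y + Φ z := by rw [← map_add, hyz, Fintype.linearCombination_apply, hc]
    rw [hxΦ, hy0, zero_add]
    have h1 := Submodule.mem_map_of_mem (f := Φ) hz
    rw [Submodule.map_smul''] at h1
    exact Submodule.smul_mono le_rfl le_top h1
  choose U hU hxU using fun x : 𝔛.X 0 =>
    let h := exists_isAffineOpen_mem_and_subset (U := (⊤ : (𝔛.X 0).Opens)) (x := x) trivial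
    (⟨h.choose, h.choose_spec.1, h.choose_spec.2.1⟩ :
      ∃ U : (𝔛.X 0).Opens, IsAffineOpen U ∧ x ∈ U)
  choose q a k hk using fun x => key (U x) (hU x)
  obtain ⟨t, ht⟩ := isCompact_univ.elim_finite_subcover (fun x => (U x : Set (𝔛.X 0)))
    (fun x => (U x).isOpen) fun x _ => Set.mem_iUnion.2 ⟨x, hxU x⟩
  refine ⟨t.sup k, fun ψ hψ => SiteMod.mono_of_ap_injective _ fun W z hz => ?_⟩
  let S : Sieve W :=
    { arrows := fun V v => Mod48.res (Mod48.pre (𝔐.realMod h𝔛.1)) v.op z = 0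
      downward_closed := by
        intro V V' v hv w
        rw [op_comp, ← Mod48.res_res, hv, SiteMod.res_zero] }
  refine SiteMod.eq_zero_of_locally (S := S) (fun x hx => ?_) fun V v hv => hv
  obtain ⟨j, hj, hxj⟩ := Set.mem_iUnion₂.1 (ht (Set.mem_univ x))
  obtain ⟨V, hV, hxV, hVW⟩ := exists_isAffineOpen_mem_and_subset (U := W ⊓ U j) (x := x) ⟨hx, hxj⟩
  obtain ⟨hN, hC, hp⟩ := secRing h𝔛 hV
  obtain ⟨hMf, -, -⟩ := modSec 𝔐 h𝔛 h𝔐 hV
  obtain ⟨-, -, hNp⟩ := modSec 𝔑 h𝔛 h𝔑 hV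
  have := hN
  have := hC
  have := hMf
  let n := t.sup k
  let J := secIdeal 𝔛 h𝔛.1 V
  let xV : MSec 𝔐 h𝔛.1 V := mres h𝔛 𝔐 (hVW.trans inf_le_left) z
  refine ⟨V, homOfLE (hVW.trans inf_le_left), ?_, hxV⟩
  change xV = 0
  have hsum : secMap h𝔛 θ xV + secMap h𝔛 ψ xV = 0 :=
    ((SiteMod.res_ap (θ + ψ) (homOfLE (hVW.trans inf_le_left)) z).symm.trans
      ((congrArg _ hz).trans (SiteMod.res_zero _ _)))
  have hψn : ∀ y, secMap h𝔛 ψ y ∈ J ^ (n + 1) • (⊤ : Submodule (FBlow13.Sec 𝔛 h𝔛.1 V) (MSec 𝔑 h𝔛.1 V)) := fun y =>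
    ((hNp n).2 _).1 (congrArg (fun φ => ap φ (W := V) y) hψ)
  suffices hmem : ∀ e, xV ∈ J ^ e • (⊤ : Submodule (FBlow13.Sec 𝔛 h𝔛.1 V) (MSec 𝔐 h𝔛.1 V)) by
    refine (Submodule.mem_bot (R := FBlow13.Sec 𝔛 h𝔛.1 V)).1 ?_
    rw [← Ideal.iInf_pow_smul_eq_bot_of_le_jacobson J (IsAdicComplete.le_jacobson_bot J)]
    exact Submodule.mem_iInf _ |>.2 hmem
  intro e
  induction e with
  | zero => rw [pow_zero, Ideal.one_eq_top, Submodule.top_smul]; trivial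
  | succ e ih =>
    have h1 : secMap h𝔛 ψ xV ∈ J ^ (e + (n + 1)) • (⊤ : Submodule (FBlow13.Sec 𝔛 h𝔛.1 V) (MSec 𝔑 h𝔛.1 V)) := by
      rw [pow_add, Submodule.mul_smul]
      have h2 := Submodule.mem_map_of_mem (f := secMap h𝔛 ψ) ih
      rw [Submodule.map_smul''] at h2
      exact Submodule.smul_mono le_rfl (fun y hy => by obtain ⟨w, -, rfl⟩ := hy; exact hψn w) h2
    have h2 : mproj h𝔛.1 𝔑.F 𝔑.toPush V (e + n) (secMap h𝔛 θ xV) = 0 := by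
      rw [(hNp (e + n)).2, eq_neg_of_add_eq_zero_left hsum, Submodule.neg_mem_iff, add_assoc]
      exact h1
    have hkn : k j ≤ n := Finset.le_sup hj
    exact Submodule.pow_smul_top_le J _ (by omega)
      (hk j V hV (hVW.trans inf_le_right) (e + n) (hkn.trans (Nat.le_add_left _ _)) xV h2)

end Groth.Agent.FCompl13
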