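import Groth.Agent.FCompl13.FreeCoord
import Groth.Agent.SiteMod.LocPres

/-!
The coordinates of a presentation of a restricted module.
-/

set_option autoImplicit false
set_option backward.isDefEq.respectTransparency false

noncomputable section

universe u

open CategoryTheory Limits Opposite

namespace Groth.Agent.FCompl13

open Groth.Agent.SiteMod Groth.Agent.Mod48

variable {C : Type u} [SmallCategory C] {J : GrothendieckTopology C} {O : Sheaf J CommRingCat.{u}}
  [∀ X : C, HasWeakSheafify (J.over X) AddCommGrpCat.{u}]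
  [∀ X : C, (J.over X).WEqualsLocallyBijective AddCommGrpCat.{u}]
  {U : C} {F : ModSite.Mod O} (σ : ((ModSite.restr O U).obj F).Presentation)

/-- The generators of a presentation. -/
abbrev pGen (k : σ.generators.I) (o : Over U) : (pre ((ModSite.restr O U).obj F)).obj (op o) :=
  secV (σ.generators.s k) o

/-- The relations of a presentation. -/
abbrev pRel (k : σ.relations.I) (o : Over U) :
    (pre (freeM (O := O.over U) σ.generators.I)).obj (op o) :=
  ap (kernel.ι σ.generators.π) (secV (σ.relations.s k) o)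

/-- The coefficients of the relations of a presentation. -/
abbrev pCoef [DecidableEq σ.generators.I] (k : σ.relations.I) (l : σ.generators.I) (o : Over U) :
    (O.over U).obj.obj (op o) :=
  ofU (ap (coord l) (pRel σ k o))

theorem res_pGen (k : σ.generators.I) {o o' : Over U} (g : o' ⟶ o) :
    res (pre ((ModSite.restr O U).obj F)) g.op (pGen σ k o) = pGen σ k o' :=
  (σ.generators.s k).property (j := op o) (j' := op o') g.op

theorem res_pRel (k : σ.relations.I) {o o' : Over U} (g : o' ⟶ o) :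
    res (pre (freeM (O := O.over U) σ.generators.I)) g.op (pRel σ k o) = pRel σ k o' :=
  (res_ap _ _ _).trans (congrArg (ap (kernel.ι σ.generators.π))
    ((σ.relations.s k).property (j := op o) (j' := op o') g.op))

theorem res_pCoef [DecidableEq σ.generators.I] (k : σ.relations.I) (l : σ.generators.I) {o o' : Over U}
    (g : o' ⟶ o) : (O.over U).obj.map g.op (pCoef σ k l o) = pCoef σ k l o' :=
  (res_ap (coord l) g (pRel σ k o)).trans (congrArg (fun t => ofU (ap (coord l) t)) (res_pRel σ k g))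

theorem ap_pi_sum (o : Over U) (S : Finset σ.generators.I)
    (c : σ.generators.I → (O.over U).obj.obj (op o)) :
    ap σ.generators.π (∑ k ∈ S, ap (inF (O := O.over U) k) (toU (c k))) = ∑ k ∈ S, c k • pGen σ k o := by
  refine (map_sum ((fgt.map σ.generators.π).app (op o)).hom _ S).trans (Finset.sum_congr rfl fun k _ => ?_)
  have hπ : ap (inF (O := O.over U) k ≫ σ.generators.π) (toU (1 : (O.over U).obj.obj (op o))) = pGen σ k o :=
    congrArg (fun s : σ.generators.I → ((ModSite.restr O U).obj F).sections => (s k).val (op o))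
      ((SheafOfModules.freeHomEquiv _).apply_symm_apply σ.generators.s)
  exact (ap_comp _ _ _).symm.trans ((ap_unit_eq_smul _ (c k)).trans (congrArg (c k • ·) hπ))

theorem ap_relations_sum (o : Over U) (T : Finset σ.relations.I)
    (d : σ.relations.I → (O.over U).obj.obj (op o)) :
    ap (kernel.ι σ.generators.π) (ap σ.relations.π (∑ k ∈ T, ap (inF (O := O.over U) k) (toU (d k)))) =
      ∑ k ∈ T, d k • pRel σ k o := by
  refine (congrArg (ap (kernel.ι σ.generators.π))
    (map_sum ((fgt.map σ.relations.π).app (op o)).hom _ T)).trans ?_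
  refine (map_sum ((fgt.map (kernel.ι σ.generators.π)).app (op o)).hom _ T).trans
    (Finset.sum_congr rfl fun k _ => ?_)
  have hκ : ap (inF (O := O.over U) k ≫ σ.relations.π) (toU (1 : (O.over U).obj.obj (op o))) =
      secV (σ.relations.s k) o :=
    congrArg (fun s : σ.relations.I → (kernel σ.generators.π).sections => (s k).val (op o))
      ((SheafOfModules.freeHomEquiv _).apply_symm_apply σ.relations.s)
  exact (congrArg (ap (kernel.ι σ.generators.π)) ((ap_comp _ _ _).symm.trans
    ((ap_unit_eq_smul _ (d k)).trans (congrArg (_ • ·) hκ)))).trans (ap_smul_of _ _ _)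
where
  ap_smul_of {M N : ModSite.Mod (O.over U)} (φ : M ⟶ N) {o : Over U} (a : (O.over U).obj.obj (op o))
      (x : (pre M).obj (op o)) : ap φ (a • x) = a • ap φ x := map_smul _ _ _

/-- Every section is locally a combination of the generators. -/
theorem pGen_local (o : Over U) (x : (pre ((ModSite.restr O U).obj F)).obj (op o)) :
    ∃ T ∈ (J.over U) o, ∀ ⦃o₁ : Over U⦄ (v : o₁ ⟶ o), T v → ∃ T' ∈ (J.over U) o₁,
      ∀ ⦃o₂ : Over U⦄ (v' : o₂ ⟶ o₁), T' v' → ∃ (S : Finset σ.generators.I)
        (c : σ.generators.I → (O.over U).obj.obj (op o₂)),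
          res (pre ((ModSite.restr O U).obj F)) (v' ≫ v).op x = ∑ k ∈ S, c k • pGen σ k o₂ := by
  obtain ⟨T, hT, hy⟩ := (epi_iff_locSurj σ.generators.π).1 σ.generators.epi o x
  refine ⟨T, hT, fun o₁ v hv => ?_⟩
  obtain ⟨y, hy⟩ := hy v hv
  obtain ⟨T', hT', hs⟩ := exists_local_sum_free y
  refine ⟨T', hT', fun o₂ v' hv' => ?_⟩
  obtain ⟨S, c, hsum⟩ := hs v' hv'
  refine ⟨S, c, ?_⟩
  rw [← ap_pi_sum, ← hsum, ← res_ap, hy, res_res, op_comp]

omit σ in
theorem ap_coord_sum_inF' {I : Type u} [DecidableEq I] {o : Over U} {l : I} {S : Finset I}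
    {c : I → (O.over U).obj.obj (op o)} :
    ap (coord (O := O.over U) l) (∑ k ∈ S, ap (inF (O := O.over U) k) (toU (c k))) =
      toU (if l ∈ S then c l else 0) := ap_coord_sum_inF l S c

/-- A relation between generators is locally a combination of the relations. -/
theorem pRel_local [DecidableEq σ.generators.I] (o : Over U) (S : Finset σ.generators.I)
    (e : σ.generators.I → (O.over U).obj.obj (op o)) (he : ∑ k ∈ S, e k • pGen σ k o = 0) :
    ∃ T ∈ (J.over U) o, ∀ ⦃o₁ : Over U⦄ (v : o₁ ⟶ o), T v → ∃ T' ∈ (J.over U) o₁,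
      ∀ ⦃o₂ : Over U⦄ (v' : o₂ ⟶ o₁), T' v' → ∃ (R : Finset σ.relations.I)
        (d : σ.relations.I → (O.over U).obj.obj (op o₂)),
          ∀ l, (O.over U).obj.map (v' ≫ v).op (if l ∈ S then e l else 0) =
            ∑ k ∈ R, d k * pCoef σ k l o₂ := by
  rw [← ap_pi_sum] at he
  obtain ⟨w, hw⟩ := exists_of_ap_kernel σ.generators.π he
  obtain ⟨T, hT, hη⟩ := (epi_iff_locSurj σ.relations.π).1 σ.relations.epi o w
  refine ⟨T, hT, fun o₁ v hv => ?_⟩
  obtain ⟨η, hη⟩ := hη v hv
  obtain ⟨T', hT', hs⟩ := exists_local_sum_free η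
  refine ⟨T', hT', fun o₂ v' hv' => ?_⟩
  obtain ⟨R, d, hsum⟩ := hs v' hv'
  refine ⟨R, d, fun l => ?_⟩
  have h1 := congrArg (fun t => ap (kernel.ι σ.generators.π) (ap σ.relations.π t)) hsum
  rw [← res_ap σ.relations.π, hη, res_res, ← op_comp, ← res_ap, hw, ap_relations_sum] at h1
  have h2 := congrArg (fun t => ofU (ap (coord l) t)) h1
  rw [← res_ap, ap_coord_sum_inF'] at h2
  refine h2.trans ?_
  refine (map_sum ((fgt.map (coord (O := O.over U) l)).app (op o₂)).hom _ R).trans
    (Finset.sum_congr rfl fun k _ => ?_)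
  exact map_smul ((fgt.map (coord (O := O.over U) l)).app (op o₂)).hom _ _

/-- Coefficients of a combination of the relations are a relation. -/
theorem pRel_rel [DecidableEq σ.generators.I] (o : Over U) (S : Finset σ.generators.I)
    (e : σ.generators.I → (O.over U).obj.obj (op o)) (T : Finset σ.relations.I)
    (d : σ.relations.I → (O.over U).obj.obj (op o))
    (he : ∀ l, (if l ∈ S then e l else 0) = ∑ k ∈ T, d k * pCoef σ k l o) :
    ∑ k ∈ S, e k • pGen σ k o = 0 := by
  rw [← ap_pi_sum σ o S e]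
  have h1 : (∑ k ∈ S, ap (inF (O := O.over U) k) (toU (e k))) = ∑ k ∈ T, d k • pRel σ k o := by
    rw [← sub_eq_zero]
    refine eq_zero_of_coord _ fun l => ?_
    refine (map_sub ((fgt.map (coord (O := O.over U) l)).app (op o)).hom _ _).trans (sub_eq_zero.2 ?_)
    refine (ap_coord_sum_inF (O := O.over U) l S e).trans ((he l).trans ?_)
    refine Eq.symm ((map_sum ((fgt.map (coord (O := O.over U) l)).app (op o)).hom _ T).trans
      (Finset.sum_congr rfl fun k _ => ?_))
    exact map_smul ((fgt.map (coord (O := O.over U) l)).app (op o)).hom _ _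
  rw [h1]
  refine (map_sum ((fgt.map σ.generators.π).app (op o)).hom _ T).trans (Finset.sum_eq_zero fun k _ => ?_)
  refine (map_smul ((fgt.map σ.generators.π).app (op o)).hom (d k) _).trans ?_
  rw [show ((fgt.map σ.generators.π).app (op o)).hom (pRel σ k o) = 0 from
    (ap_comp _ _ _).symm.trans
      (congrArg (fun φ => ap φ (secV (σ.relations.s k) o)) (kernel.condition σ.generators.π))]
  exact smul_zero _

/-! ### The same over the opens themselves -/

/-- The generators over an object mapping to `U`. -/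
def gGen (k : σ.generators.I) {W : C} (i : W ⟶ U) : (pre F).obj (op W) := pGen σ k (Over.mk i)

/-- The coefficients over an object mapping to `U`. -/
def gCoef [DecidableEq σ.generators.I] (k : σ.relations.I) (l : σ.generators.I) {W : C} (i : W ⟶ U) :
    O.obj.obj (op W) :=
  pCoef σ k l (Over.mk i)

theorem res_gGen (k : σ.generators.I) {W V : C} (i : W ⟶ U) (v : V ⟶ W) :
    res (pre F) v.op (gGen σ k i) = gGen σ k (v ≫ i) :=
  res_pGen σ k (Over.homMk v : Over.mk (v ≫ i) ⟶ Over.mk i)

theorem res_gCoef [DecidableEq σ.generators.I] (k : σ.relations.I) (l : σ.generators.I) {W V : C}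
    (i : W ⟶ U) (v : V ⟶ W) : O.obj.map v.op (gCoef σ k l i) = gCoef σ k l (v ≫ i) :=
  res_pCoef σ k l (Over.homMk v : Over.mk (v ≫ i) ⟶ Over.mk i)

theorem gGen_local {W : C} (i : W ⟶ U) (x : (pre F).obj (op W)) :
    ∃ T ∈ J W, ∀ ⦃V : C⦄ (v : V ⟶ W), T v → ∃ T' ∈ J V, ∀ ⦃V' : C⦄ (v' : V' ⟶ V), T' v' →
      ∃ (S : Finset σ.generators.I) (c : σ.generators.I → O.obj.obj (op V')),
        res (pre F) (v' ≫ v).op x = ∑ k ∈ S, c k • gGen σ k (v' ≫ v ≫ i) := by
  obtain ⟨T, hT, h1⟩ := pGen_local σ (Over.mk i) x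
  obtain ⟨R, hR, hRT⟩ := exists_sieve_of_over hT
  refine ⟨R, hR, fun V v hv => ?_⟩
  obtain ⟨T', hT', h2⟩ := h1 _ (hRT v hv)
  obtain ⟨R', hR', hRT'⟩ := exists_sieve_of_over hT'
  refine ⟨R', hR', fun V' v' hv' => ?_⟩
  obtain ⟨S, c, hc⟩ := h2 _ (hRT' v' hv')
  exact ⟨S, c, hc⟩

theorem gRel_local [DecidableEq σ.generators.I] {W : C} (i : W ⟶ U) (S : Finset σ.generators.I)
    (e : σ.generators.I → O.obj.obj (op W)) (he : ∑ k ∈ S, e k • gGen σ k i = 0) :
    ∃ T ∈ J W, ∀ ⦃V : C⦄ (v : V ⟶ W), T v → ∃ T' ∈ J V, ∀ ⦃V' : C⦄ (v' : V' ⟶ V), T' v' →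
      ∃ (R : Finset σ.relations.I) (d : σ.relations.I → O.obj.obj (op V')),
        ∀ l, O.obj.map (v' ≫ v).op (if l ∈ S then e l else 0) =
          ∑ k ∈ R, d k * gCoef σ k l (v' ≫ v ≫ i) := by
  obtain ⟨T, hT, h1⟩ := pRel_local σ (Over.mk i) S e he
  obtain ⟨R, hR, hRT⟩ := exists_sieve_of_over hT
  refine ⟨R, hR, fun V v hv => ?_⟩
  obtain ⟨T', hT', h2⟩ := h1 _ (hRT v hv)
  obtain ⟨R', hR', hRT'⟩ := exists_sieve_of_over hT'
  refine ⟨R', hR', fun V' v' hv' => ?_⟩
  obtain ⟨Q, d, hd⟩ := h2 _ (hRT' v' hv')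
  exact ⟨Q, d, hd⟩

theorem gRel_rel [DecidableEq σ.generators.I] {W : C} (i : W ⟶ U) (S : Finset σ.generators.I)
    (e : σ.generators.I → O.obj.obj (op W)) (T : Finset σ.relations.I)
    (d : σ.relations.I → O.obj.obj (op W))
    (he : ∀ l, (if l ∈ S then e l else 0) = ∑ k ∈ T, d k * gCoef σ k l i) :
    ∑ k ∈ S, e k • gGen σ k i = 0 :=
  pRel_rel σ (Over.mk i) S e T d he

/-- Coefficient vectors killed through the relations give relations among combinations of the generators. -/
theorem gComb_eq_zero [DecidableEq σ.generators.I] {W : C} (i : W ⟶ U) {ι : Type*} [Fintype ι]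
    (S : Finset σ.generators.I) (B : ι → σ.generators.I → O.obj.obj (op W)) (yy : ι → (pre F).obj (op W))
    (hy : ∀ t, yy t = ∑ l ∈ S, B t l • gGen σ l i) (hB : ∀ t l, l ∉ S → B t l = 0)
    (T : Finset σ.relations.I) (m : ι → O.obj.obj (op W)) (d : T → O.obj.obj (op W))
    (he : ∀ l, ∑ t, m t * B t l = ∑ s : T, d s * gCoef σ s.1 l i) :
    ∑ t, m t • yy t = 0 := by
  classical
  have h1 := gRel_rel σ i S (fun l => ∑ t, m t * B t l) T
    (fun s => if hs : s ∈ T then d ⟨s, hs⟩ else 0) fun l => by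
      rw [ite_eq_left_iff.2 fun hl => (Finset.sum_eq_zero fun t _ => by rw [hB t l hl, mul_zero]).symm,
        he l, ← Finset.sum_coe_sort T]
      exact Finset.sum_congr rfl fun s _ => by rw [dif_pos s.2]
  refine Eq.trans ?_ h1
  simp only [hy, Finset.smul_sum, Finset.sum_smul, smul_smul]
  exact Finset.sum_comm

/-- Relations are locally combinations of the relations, on a single cover. -/
theorem gRel_local_bind [DecidableEq σ.generators.I] {W : C} (i : W ⟶ U) (S : Finset σ.generators.I)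
    (e : σ.generators.I → O.obj.obj (op W)) (he : ∑ k ∈ S, e k • gGen σ k i = 0) :
    ∃ T ∈ J W, ∀ ⦃V : C⦄ (v : V ⟶ W), T v →
      ∃ (R : Finset σ.relations.I) (d : σ.relations.I → O.obj.obj (op V)),
        ∀ l, O.obj.map v.op (if l ∈ S then e l else 0) = ∑ k ∈ R, d k * gCoef σ k l (v ≫ i) := by
  obtain ⟨T, hT, h1⟩ := gRel_local σ i S e he
  choose T' hT' h2 using h1
  refine ⟨Sieve.bind T.arrows T', J.bind_covering hT hT', ?_⟩
  rintro V _ ⟨Y, v', v, hv, hv', rfl⟩
  obtain ⟨R, d, hd⟩ := h2 v hv v' hv'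
  exact ⟨R, d, fun l => by rw [Category.assoc]; exact hd l⟩

end Groth.Agent.FCompl13
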