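import Groth.Agent.Div89.Fitting
import Groth.Agent.QC70.StalkLoc
import Groth.Prelude.Def_FSch3
import Groth.Agent.An92.FSch.Basic
import Mathlib.RingTheory.Filtration

/-!
Over a complete base, a coherent module whose restrictions to all thickenings are locally free is
locally free.
-/

set_option autoImplicit false
set_option backward.isDefEq.respectTransparency.types false

noncomputable section

universe u

open CategoryTheory CategoryTheory.Limits AlgebraicGeometry TopologicalSpace Opposite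

namespace Groth.Agent.FCompl13

variable {A : Type u} [CommRing A] (I : Ideal A) [IsAdicComplete I A]

/-- A nonempty closed subset of a proper scheme over a complete base meets the closed fibres. -/
theorem eq_empty_of_disjoint {X : Scheme.{u}} (f : X ⟶ Spec (CommRingCat.of A)) [IsProper f] {C : Set X}
    (hC : IsClosed C) (h : ∀ x ∈ C, x ∉ ((FSch.idealSpec A I).comap f).support) : C = ∅ := by
  rw [Set.eq_empty_iff_forall_notMem]
  intro x hx
  obtain ⟨m, hm, hle⟩ := Ideal.exists_le_maximal _ (f x).2.ne_top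
  have hI : I ≤ m := (IsAdicComplete.le_jacobson_bot I).trans (sInf_le ⟨bot_le, hm⟩)
  let y : (Spec (CommRingCat.of A) : Scheme.{u}) := (⟨m, hm.isPrime⟩ : PrimeSpectrum A)
  have hy : y ∈ f '' C := by
    have hcl : IsClosed (f '' C) := f.isClosedMap _ hC
    have hsp : (f x : PrimeSpectrum A) ⤳ (⟨m, hm.isPrime⟩ : PrimeSpectrum A) :=
      (PrimeSpectrum.le_iff_specializes _ _).1 hle
    exact Specializes.mem_closed hsp hcl ⟨x, hx, rfl⟩
  obtain ⟨z, hz, hzy⟩ := hy
  refine h z hz ?_
  rw [Scheme.IdealSheafData.support_comap]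
  change f z ∈ (FSch.idealSpec A I).support
  rw [hzy, FSch.idealSpec]
  change y ∈ ((Spec.map (CommRingCat.ofHom (Ideal.Quotient.mk I))).ker.support : Set _)
  rw [Scheme.Hom.support_ker]
  refine subset_closure ?_
  have : (⟨m, hm.isPrime⟩ : PrimeSpectrum A) ∈ Set.range (PrimeSpectrum.comap (Ideal.Quotient.mk I)) := by
    rw [_root_.range_comap_of_surjective _ _ Ideal.Quotient.mk_surjective]
    simpa [PrimeSpectrum.mem_zeroLocus, Ideal.mk_ker] using hI
  exact this

omit [IsAdicComplete I A] in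
/-- Krull intersection at a point of the support. -/
theorem exists_bot_nhd {X : Scheme.{u}} [IsLocallyNoetherian X] (G J : X.IdealSheafData)
    (h : ∀ n : ℕ, G ≤ J ^ (n + 1)) {x : X} (hx : x ∈ J.support) :
    ∃ V : X.affineOpens, x ∈ V.1 ∧ G.ideal V = ⊥ := by
  obtain ⟨U, hU, hxU, -⟩ := exists_isAffineOpen_mem_and_subset (show x ∈ (⊤ : X.Opens) from trivial)
  let V : X.affineOpens := ⟨U, hU⟩
  have : IsNoetherianRing Γ(X, U) := IsLocallyNoetherian.component_noetherian V
  let P := (hU.primeIdealOf ⟨x, hxU⟩).asIdeal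
  let S := Localization.AtPrime P
  let φ := algebraMap Γ(X, U) S
  have hJP : J.ideal V ≤ P := by
    intro a ha
    have hz : x ∈ X.zeroLocus (U := U) (J.ideal V : Set Γ(X, U)) :=
      ((J.coe_support_inter V).le ⟨hx, hxU⟩).1
    by_contra hP
    exact (Scheme.mem_zeroLocus_iff _ _ _).1 hz a ha (((QC70.mem_basicOpen_iff_primeCompl hU hxU a).2 hP))
  have h0 : (G.ideal V).map φ = ⊥ := by
    refine le_bot_iff.1 (le_trans (le_iInf fun n => ?_) (Ideal.iInf_pow_eq_bot_of_isLocalRing
      ((J.ideal V).map φ) ?_).le)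
    · cases n with
      | zero => simp
      | succ n =>
        rw [← Ideal.map_pow]
        exact Ideal.map_mono ((h n V).trans (by rw [Scheme.IdealSheafData.ideal_pow]; rfl))
    · exact ne_top_of_le_ne_top (IsLocalRing.maximalIdeal.isMaximal _).ne_top
        ((Ideal.map_mono hJP).trans (Localization.AtPrime.map_eq_maximalIdeal (I := P)).le)
  obtain ⟨T, hT⟩ := IsNoetherian.noetherian (G.ideal V)
  have hann : ∀ g ∈ T, ∃ s ∈ P.primeCompl, s * g = 0 := fun g hg => by
    have : φ g = 0 := Ideal.mem_bot.1 (h0 ▸ Ideal.mem_map_of_mem φ (hT.le (Submodule.subset_span hg)))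
    obtain ⟨⟨s, hs⟩, e⟩ := (IsLocalization.map_eq_zero_iff P.primeCompl S g).1 this
    exact ⟨s, hs, e⟩
  choose s hs e using hann
  let t := ∏ g : T, s g.1 g.2
  have ht : t ∉ P := fun h' => by
    obtain ⟨g, -, hg⟩ := (Ideal.IsPrime.prod_mem_iff.1 h')
    exact hs g.1 g.2 hg
  refine ⟨X.affineBasicOpen (U := V) t, (QC70.mem_basicOpen_iff_primeCompl hU hxU t).2 ht, ?_⟩
  rw [← G.map_ideal_basicOpen V t, ← hT]
  change Ideal.map _ (Ideal.span _) = ⊥
  rw [Ideal.map_span, Ideal.span_eq_bot]
  rintro _ ⟨g, hg, rfl⟩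
  have hu : IsUnit ((X.presheaf.map (homOfLE (X.basicOpen_le t)).op).hom t) :=
    RingedSpace.isUnit_res_basicOpen X.toSheafedSpace t
  have h2 : t * g = 0 := by
    obtain ⟨d, hd⟩ := Finset.dvd_prod_of_mem (fun g : T => s g.1 g.2) (Finset.mem_univ ⟨g, hg⟩)
    rw [show t = s g hg * d from hd, mul_comm (s g hg), mul_assoc, e g hg, mul_zero]
  refine hu.mul_right_eq_zero.1 ?_
  rw [← map_mul, h2, map_zero]

theorem isFinLocFreeOfRank_of_levels [IsNoetherianRing A] {X : Scheme.{u}} (f : X ⟶ Spec (CommRingCat.of A))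
    [IsProper f] (F : X.Modules) (hF : Coh.IsCoh F) (r : ℕ)
    (h : ∀ n : ℕ, FlatMod.IsFinLocFreeOfRank r
      ((Scheme.Modules.pullback (FSch.completionToX X ((FSch.idealSpec A I).comap f) n)).obj F)) :
    FlatMod.IsFinLocFreeOfRank r F := by
  have : IsLocallyNoetherian X := LocallyOfFiniteType.isLocallyNoetherian f
  let J := (FSch.idealSpec A I).comap f
  haveI : F.IsQuasicoherent := hF.1
  have hlev : ∀ n, (∀ k, k < r → (Fitt.sheafIdeal F k).comap (FSch.completionToX X J n) = ⊥) ∧
      (∀ k, r ≤ k → (Fitt.sheafIdeal F k).comap (FSch.completionToX X J n) = ⊤) := fun n => by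
    have h2 := (Div89.finLocFreeOfRank_iff_fitting _ (QCPull72.isQuasicoherent_pullback _ F) (by
      have := hF.2; exact QCPull72.isFiniteType_pullback _ F) r).1 (h n)
    exact ⟨fun k hk => (Div89.fitting_comap _ F hF.1 hF.2 k).trans (h2.1 k hk),
      fun k hk => (Div89.fitting_comap _ F hF.1 hF.2 k).trans (h2.2 k hk)⟩
  refine (Div89.finLocFreeOfRank_iff_fitting F hF.1 hF.2 r).2 ⟨fun k hk => ?_, fun k hk => ?_⟩
  · set G := Fitt.sheafIdeal F k with hGdef
    have hle : ∀ n, G ≤ J ^ (n + 1) := fun n => by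
      have h1 := Scheme.IdealSheafData.le_map_iff_comap_le.2 ((hlev n).1 k hk).le
      rw [Scheme.IdealSheafData.map_bot] at h1
      exact h1.trans (Scheme.IdealSheafData.ker_subschemeι _).le
    let C : Set X := {x | ¬ ∃ V : X.affineOpens, x ∈ V.1 ∧ G.ideal V = ⊥}
    have hC : IsClosed C := by
      rw [← isOpen_compl_iff, isOpen_iff_forall_mem_open]
      intro x hx
      obtain ⟨V, hV, e⟩ := not_not.1 hx
      exact ⟨V.1, fun y hy => not_not.2 ⟨V, hy, e⟩, V.1.2, hV⟩
    have hemp := eq_empty_of_disjoint I f hC fun x hx hxJ => hx (exists_bot_nhd G J hle hxJ)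
    have hcov : ∀ x : X, ∃ V : X.affineOpens, x ∈ V.1 ∧ G.ideal V = ⊥ := fun x =>
      not_not.1 fun hx => Set.notMem_empty x (hemp ▸ hx)
    choose V hV hVG using hcov
    exact Scheme.IdealSheafData.ext_of_iSup_eq_top V
      (top_le_iff.1 fun x _ => Opens.mem_iSup.2 ⟨x, hV x⟩) fun x => by rw [hVG x]; rfl
  · rw [← Scheme.IdealSheafData.support_eq_bot_iff]
    refine SetLike.coe_injective ((eq_empty_of_disjoint I f (Fitt.sheafIdeal F k).support.isClosed ?_).trans rfl)
    intro x hx hxJ
    have h0 := (hlev 0).2 k hk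
    rw [← Scheme.IdealSheafData.support_eq_bot_iff] at h0
    have hx' : x ∈ Set.range (FSch.completionToX X J 0) := by
      refine (Scheme.IdealSheafData.range_subschemeι (J ^ (0 + 1))).ge ?_
      have hxJ' : x ∈ J.support := hxJ
      simpa only [zero_add, pow_one, SetLike.mem_coe] using hxJ'
    obtain ⟨z, rfl⟩ := hx'
    have : z ∈ ((Fitt.sheafIdeal F k).comap (FSch.completionToX X J 0)).support := by
      rw [Scheme.IdealSheafData.support_comap]
      exact hx
    rw [h0] at this
    exact this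

end Groth.Agent.FCompl13
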