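import Groth.Agent.FCompl13.QcPres

/-!
Modules generated over affine opens with relations locally of finite type: passage to smaller opens.
-/

set_option autoImplicit false
set_option backward.isDefEq.respectTransparency false
set_option linter.style.haveILetI false

noncomputable section

universe u

open CategoryTheory CategoryTheory.Limits AlgebraicGeometry TopologicalSpace Opposite

namespace Groth.Agent.FCompl13

open _root_.FSch
open SiteMod (ap)

variable {𝔛 : Sys.{u}} {h𝔛 : 𝔛.IsLocNoethFormal} {F : ModF 𝔛 h𝔛.1}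

theorem vres_comb {U V : (𝔛.X 0).Opens} (i : V ≤ U) {ι γ : Type u} [Fintype ι]
    (c : ι → FBlow13.Sec 𝔛 h𝔛.1 U) (B : ι → γ → FBlow13.Sec 𝔛 h𝔛.1 U) (l : γ) :
    FBlow13.res 𝔛 h𝔛.1 i (∑ t, c t * B t l) = ∑ t, vres h𝔛.1 i c t * vres h𝔛.1 i (B t) l := by
  rw [map_sum]
  exact Finset.sum_congr rfl fun t _ => map_mul _ _ _

/-- Combinations of sections with finitely generated relations have finitely generated relations. -/
theorem span_relSub_comb {V Vx : (𝔛.X 0).Opens} (hVxV : Vx ≤ V) (hVx : IsAffineOpen Vx) {ι γ κ : Type u}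
    [Fintype ι] [Fintype γ] [Fintype κ] (y : ι → FS F V) (a : γ → FS F Vx)
    (r : κ → γ → FBlow13.Sec 𝔛 h𝔛.1 Vx) (hr : ∀ s, ∑ l, r s l • a l = 0)
    (hgen : ∀ (W : (𝔛.X 0).Opens) (i : W ≤ Vx), IsAffineOpen W → ∀ e : γ → FBlow13.Sec 𝔛 h𝔛.1 W,
      ∑ l, e l • fres F i (a l) = 0 →
        e ∈ Submodule.span (FBlow13.Sec 𝔛 h𝔛.1 W) (Set.range fun s => vres h𝔛.1 i (r s)))
    (B : ι → γ → FBlow13.Sec 𝔛 h𝔛.1 Vx) (hy : ∀ t, fres F hVxV (y t) = ∑ l, B t l • a l)
    {W : (𝔛.X 0).Opens} (j : W ≤ Vx) (hW : IsAffineOpen W) (c : ι → FBlow13.Sec 𝔛 h𝔛.1 W)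
    (hc : c ∈ relSub F y W (j.trans hVxV)) :
    c ∈ Submodule.span (FBlow13.Sec 𝔛 h𝔛.1 W) (vres h𝔛.1 j '' (relSub F y Vx hVxV : Set _)) := by
  classical
  rw [mem_relSub] at hc
  have hsum : ∑ l, (∑ t, c t * FBlow13.res 𝔛 h𝔛.1 j (B t l)) • fres F j (a l) = 0 := by
    refine Eq.trans ?_ hc
    simp only [Finset.sum_smul]
    rw [Finset.sum_comm]
    refine Finset.sum_congr rfl fun t _ => ?_
    rw [← fres_fres F hVxV j, hy t, fres_sum, Finset.smul_sum]
    exact Finset.sum_congr rfl fun l _ => by rw [fres_smul, smul_smul]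
  obtain ⟨d, hd⟩ := (Submodule.mem_span_range_iff_exists_fun _).1 (hgen W j hW _ hsum)
  let A : γ → ι ⊕ κ → FBlow13.Sec 𝔛 h𝔛.1 Vx := fun l => Sum.elim (fun t => B t l) fun s => -r s l
  let b : ι ⊕ κ → FBlow13.Sec 𝔛 h𝔛.1 W := Sum.elim c d
  have hsol : ∀ l, ∑ m, b m * FBlow13.res 𝔛 h𝔛.1 j (A l m) = 0 := fun l => by
    have h1 := congrFun hd l
    simp only [Finset.sum_apply, Pi.smul_apply, smul_eq_mul, vres] at h1
    rw [Fintype.sum_sum_type]
    simp only [A, b, Sum.elim_inl, Sum.elim_inr, map_neg, mul_neg, Finset.sum_neg_distrib]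
    rw [← sub_eq_add_neg, sub_eq_zero]
    exact h1.symm
  refine Submodule.span_le.2 ?_ (span_inl (mem_span_solutions h𝔛 hVx hW j A b hsol))
  rintro _ ⟨_, ⟨m, hm, rfl⟩, rfl⟩
  refine Submodule.subset_span ⟨fun t => m (Sum.inl t), ?_, rfl⟩
  rw [SetLike.mem_coe, mem_relSub]
  have h2 : ∀ l, ∑ t, m (Sum.inl t) * B t l = ∑ s, m (Sum.inr s) * r s l := fun l => by
    have h0 := hm l
    rw [Fintype.sum_sum_type] at h0
    simp only [A, Sum.elim_inl, Sum.elim_inr, mul_neg, Finset.sum_neg_distrib, ← sub_eq_add_neg,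
      sub_eq_zero] at h0
    exact h0
  simp only [hy, Finset.smul_sum, smul_smul]
  rw [Finset.sum_comm]
  simp only [← Finset.sum_smul, h2]
  simp only [Finset.sum_smul, mul_smul]
  rw [Finset.sum_comm]
  exact Finset.sum_eq_zero fun s _ => by rw [← Finset.smul_sum, hr s, smul_zero]

theorem exists_finset_span {R M : Type*} [Semiring R] [AddCommMonoid M] [Module R M] {α ι : Type*}
    [Fintype ι] (a : α → M) (y : ι → M) (hy : ∀ t, y t ∈ Submodule.span R (Set.range a)) :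
    ∃ (S : Finset α) (B : ι → S → R), ∀ t, y t = ∑ l, B t l • a l.1 := by
  classical
  choose c hc using fun t => Finsupp.mem_span_range_iff_exists_finsupp.1 (hy t)
  refine ⟨Finset.univ.biUnion fun t => (c t).support, fun t l => c t l.1, fun t => ?_⟩
  rw [← hc t, Finset.sum_coe_sort _ fun l => c t l • a l]
  exact Finsupp.sum_of_support_subset _
    (Finset.subset_biUnion_of_mem (fun t => (c t).support) (Finset.mem_univ t)) _ fun k _ => zero_smul _ _

theorem GenBy.anti {h : 𝔛.IsFormal} {G : ModF 𝔛 h} {V V' : (𝔛.X 0).Opens} (hG : GenBy G V) (i : V' ≤ V) :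
    GenBy G V' := fun W j x z hz => by
  obtain ⟨W', j', hzW', hm⟩ := hG W (j.trans i) x z hz
  refine ⟨W', j', hzW', Submodule.span_mono ?_ hm⟩
  rintro _ ⟨a, rfl⟩
  refine ⟨fres G i a, ?_⟩
  exact fres_fres G i (j'.trans j) a

/-- The conditions pass to smaller affine opens. -/
theorem QcAt.anti {V V' : (𝔛.X 0).Opens} (hF : QcAt h𝔛 F V) (hV' : IsAffineOpen V') (i : V' ≤ V) :
    QcAt h𝔛 F V' := by
  classical
  refine ⟨hV', hF.2.1.anti i, fun ι _ y => vecFT_of_local y fun x hx => ?_⟩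
  obtain ⟨Vx, hVxV', hVx, hxVx, hB⟩ := exists_common_affine hx
    (P := fun t W j => fres F j (y t) ∈ Submodule.span (FBlow13.Sec 𝔛 h𝔛.1 W)
      (Set.range fun a : FS F V => fres F (j.trans i) a))
    (fun t W j W' j' hm => by
      have h1 := fres_mem_span_range F j' hm
      simp only [fres_fres] at h1
      exact h1)
    (fun t => hF.2.1 V' i (y t) x hx)
  obtain ⟨S, B, hy⟩ := exists_finset_span (fun a : FS F V => fres F (hVxV'.trans i) a)
    (fun t => fres F hVxV' (y t)) hB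
  obtain ⟨κ, _, r, hr, hgen⟩ := hF.rel (fun a : S => a.1)
  refine ⟨Vx, hVxV', hVx, hxVx, fun W j c hc z hz => ?_⟩
  obtain ⟨W', hW', hzW', hj'⟩ := exists_isAffineOpen_mem_and_subset hz
  refine ⟨W', hj', hzW', span_relSub_comb (h𝔛 := h𝔛) hVxV' hVx y (fun a : S => fres F (hVxV'.trans i) a.1)
    (fun s => vres h𝔛.1 (hVxV'.trans i) (r s)) (fun s => ?_) (fun U k hU e he => ?_) B hy
    (le_trans hj' j) hW' _ (vecRes_relSub h𝔛 F y W (j.trans hVxV') W' hj' c hc)⟩
  · refine Eq.trans ?_ ((congrArg (fres F (hVxV'.trans i)) (hr s)).trans (fres_zero F _))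
    rw [fres_sum]
    exact Finset.sum_congr rfl fun l _ => (fres_smul F _ _ _).symm
  · simp only [fres_fres] at he
    simp only [vres_vres]
    exact hgen U (k.trans (hVxV'.trans i)) hU e he

/-- A quasi-coherent module satisfies the conditions on small affine opens. -/
theorem exists_qcAt [SheafOfModules.IsQuasicoherent.{u} F] {W : (𝔛.X 0).Opens} {x : 𝔛.X 0} (hx : x ∈ W) :
    ∃ V : (𝔛.X 0).Opens, x ∈ V ∧ V ≤ W ∧ QcAt h𝔛 F V := by
  obtain ⟨q⟩ := SheafOfModules.IsQuasicoherent.nonempty_quasicoherentData.{u} (M := F)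
  obtain ⟨U', g, hg, hxU'⟩ := (q.coversTop W) x hx
  obtain ⟨i, ⟨k⟩⟩ := (Sieve.mem_ofObjects_iff ..).mp hg
  obtain ⟨V, hV, hxV, hVU⟩ := exists_isAffineOpen_mem_and_subset hxU'
  exact ⟨V, hxV, le_trans hVU (leOfHom g),
    qcAt_of_presentation (q.presentation i) hV (le_trans hVU (leOfHom k))⟩

end Groth.Agent.FCompl13
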