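import Groth.Agent.FCompl13.QcOps
import Groth.Agent.SiteMod.Colim

/-!
Coherent submodules of quasi-coherent modules and filtered colimits of coherent modules.
-/

set_option autoImplicit false
set_option backward.isDefEq.respectTransparency false
set_option linter.style.haveILetI false

noncomputable section

universe u

open CategoryTheory CategoryTheory.Limits AlgebraicGeometry TopologicalSpace Opposite

namespace Groth.Agent.FCompl13

open _root_.FSch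
open SiteMod (ap)

variable {𝔛 : Sys.{u}} {h𝔛 : 𝔛.IsLocNoethFormal}

theorem isCohF_of_affine (F : ModF 𝔛 h𝔛.1)
    (H : ∀ x : 𝔛.X 0, ∃ V : (𝔛.X 0).Opens, x ∈ V ∧ Nonempty (SiteMod.LocPres (Mod48.pre F) V)) :
    IsCohF 𝔛 h𝔛.1 F := by
  refine SiteMod.isFinitePresentation_of_locPres (O := 𝔛.Osh h𝔛.1) F fun X => ?_
  have hh := exists_sieve_of_near (W := X)
    (fun U _ => ∃ V, U ≤ V ∧ Nonempty (SiteMod.LocPres (Mod48.pre F) V))
    (fun U i U' j ⟨V, hUV, hV⟩ => ⟨V, j.trans hUV, hV⟩) fun z hz => by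
      obtain ⟨V, hzV, hV⟩ := H z
      exact ⟨V ⊓ X, inf_le_right, ⟨hzV, hz⟩, V, inf_le_left, hV⟩
  obtain ⟨T, hT, hP⟩ := hh
  refine ⟨T, hT, fun U v hv => ?_⟩
  obtain ⟨V, hUV, ⟨d⟩⟩ := hP v hv
  exact ⟨d.pullback (homOfLE hUV)⟩

/-- The relations between finitely many sections over `V` are finitely generated. -/
def RelFin {h : 𝔛.IsFormal} (F : ModF 𝔛 h) (V : (𝔛.X 0).Opens) : Prop :=
  ∀ (ι : Type u) (_ : Fintype ι) (y : ι → FS F V),
    ∃ (κ : Type u) (_ : Fintype κ) (r : κ → ι → FBlow13.Sec 𝔛 h V),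
      (∀ s, ∑ t, r s t • y t = 0) ∧
      ∀ (W : (𝔛.X 0).Opens) (i : W ≤ V), IsAffineOpen W → ∀ c : ι → FBlow13.Sec 𝔛 h W,
        ∑ t, c t • fres F i (y t) = 0 →
          c ∈ Submodule.span (FBlow13.Sec 𝔛 h W) (Set.range fun s => vres h i (r s))

theorem QcAt.relFin {F : ModF 𝔛 h𝔛.1} {V : (𝔛.X 0).Opens} (hF : QcAt h𝔛 F V) : RelFin F V :=
  fun _ _ y => hF.rel y

/-- Finitely many generators of a submodule give a presentation. -/
theorem nonempty_locPres_of_mono {F G : ModF 𝔛 h𝔛.1} (ι : G ⟶ F) [Mono ι] {V : (𝔛.X 0).Opens}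
    (hF : RelFin F V) {q : Type u} [Fintype q] {a : q → FS G V} (ha : SiteMod.GenAt (Mod48.pre G) V a) :
    Nonempty (SiteMod.LocPres (Mod48.pre G) V) := by
  classical
  obtain ⟨κ, _, r, hr, hgen⟩ := hF q inferInstance fun t => ap ι (a t)
  refine ⟨{ ι := q, κ := κ, a := a, r := r, rel := fun s => ?_, gen := ha, kerr := fun W g c hc => ?_ }⟩
  · refine ap_injective ι ?_
    change ap ι _ = ap ι 0
    rw [SiteMod.ap_lincomb, show ap ι (0 : FS G V) = 0 from map_zero _]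
    exact hr s
  · refine exists_sieve_of_near (fun U i => ∃ d : κ → FBlow13.Sec 𝔛 h𝔛.1 U, ∀ t : q,
      FBlow13.res 𝔛 h𝔛.1 i (c t) = ∑ s, d s * FBlow13.res 𝔛 h𝔛.1 (i.trans (leOfHom g)) (r s t))
      (fun U i U' j ⟨d, hd⟩ => ⟨fun s => FBlow13.res 𝔛 h𝔛.1 j (d s), fun t => by
        rw [← sres_sres i j, hd t, map_sum]
        exact Finset.sum_congr rfl fun s _ => by rw [map_mul, sres_sres]⟩) fun z hz => ?_
    obtain ⟨U, hU, hzU, hUW⟩ := exists_isAffineOpen_mem_and_subset hz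
    have i : U ≤ W := hUW
    have h0 : ∑ t, FBlow13.res 𝔛 h𝔛.1 i (c t) • fres F (i.trans (leOfHom g)) (ap ι (a t)) = 0 := by
      have h1 := (congrArg (ap ι) ((congrArg (fres G i) hc).trans (fres_zero G i))).trans (map_zero _)
      rw [fres_sum] at h1
      refine Eq.trans ?_ h1
      refine ((ap_fres_lincomb ι (i.trans (leOfHom g)) _ a).symm).trans (congrArg (ap ι) ?_)
      exact Finset.sum_congr rfl fun t _ =>
        ((fres_smul G i _ _).trans (congrArg (_ • ·) (fres_fres G (leOfHom g) i (a t)))).symm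
    obtain ⟨d, hd⟩ := (Submodule.mem_span_range_iff_exists_fun _).1 (hgen U _ hU _ h0)
    refine ⟨U, i, hzU, d, fun t => ?_⟩
    have h1 := congrFun hd t
    simp only [Finset.sum_apply, Pi.smul_apply, smul_eq_mul, vres] at h1
    exact h1.symm

/-- A submodule of finite type of a quasi-coherent module is coherent. -/
theorem isCohF_of_mono {F G : ModF 𝔛 h𝔛.1} [SheafOfModules.IsQuasicoherent.{u} F] (ι : G ⟶ F) [Mono ι]
    [SheafOfModules.IsFiniteType.{u} G] : IsCohF 𝔛 h𝔛.1 G := by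
  refine isCohF_of_affine (h𝔛 := h𝔛) G fun x => ?_
  have hh := SiteMod.exists_genAt_cover (O := 𝔛.Osh h𝔛.1) G ⊤
  obtain ⟨S, hS, hg⟩ := hh
  obtain ⟨Y, v, hv, hxY⟩ := hS x trivial
  obtain ⟨q, _, a, ha⟩ := hg v hv
  obtain ⟨V, hxV, hVY, hF⟩ := exists_qcAt (h𝔛 := h𝔛) (F := F) hxY
  exact ⟨V, hxV, nonempty_locPres_of_mono (h𝔛 := h𝔛) ι hF.relFin (ha.pullback (homOfLE hVY))⟩

theorem nonempty_locPres_coh {F : ModF 𝔛 h𝔛.1} (hF : IsCohF 𝔛 h𝔛.1 F) {V : (𝔛.X 0).Opens}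
    (hV : IsAffineOpen V) : Nonempty (SiteMod.LocPres (Mod48.pre F) V) := by
  have : F.IsFinitePresentation := hF
  obtain ⟨d⟩ := nonempty_locPres h𝔛 (sysOf h𝔛.1 F) (isCoh_sysOf h𝔛.1 F) hV
  have := isIso_toReal h𝔛 F
  exact locPres_of_iso (asIso (toReal h𝔛.1 F)).symm d

theorem module_finite_coh {F : ModF 𝔛 h𝔛.1} (hF : IsCohF 𝔛 h𝔛.1 F) {V : (𝔛.X 0).Opens}
    (hV : IsAffineOpen V) : Module.Finite (FBlow13.Sec 𝔛 h𝔛.1 V) (FS F V) := by
  classical
  obtain ⟨d⟩ := nonempty_locPres_coh (h𝔛 := h𝔛) hF hV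
  refine ⟨⟨Finset.univ.image d.a, eq_top_iff.2 fun x _ => ?_⟩⟩
  refine (qcAt_of_coh (h𝔛 := h𝔛) hF hV).mem_span x _ fun z hz => ?_
  obtain ⟨S, hS, hc⟩ := d.gen V (𝟙 V) x
  obtain ⟨W, v, hv, hzW⟩ := hS z hz
  obtain ⟨c, hc⟩ := hc v hv
  refine ⟨W, leOfHom v, hzW, ?_⟩
  rw [show fres F (leOfHom v) x = ∑ i, c i • fres F (leOfHom v) (d.a i) from hc]
  exact Submodule.sum_mem _ fun i _ => Submodule.smul_mem _ _
    (Submodule.subset_span ⟨⟨d.a i, Finset.mem_image_of_mem _ (Finset.mem_univ i)⟩, rfl⟩)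

/-- Sections of a map over an open as a linear map. -/
def apLin {h : 𝔛.IsFormal} {F G : ModF 𝔛 h} (φ : F ⟶ G) (V : (𝔛.X 0).Opens) :
    FS F V →ₗ[FBlow13.Sec 𝔛 h V] FS G V :=
  ((Mod48.fgt.map φ).app (op V)).hom

/-- A module with finitely generated sections over small affine opens is of finite type. -/
theorem isFiniteType_of_finite_sections {G : ModF 𝔛 h𝔛.1}
    (H : ∀ (x : 𝔛.X 0) (W : (𝔛.X 0).Opens), x ∈ W → ∃ V : (𝔛.X 0).Opens, x ∈ V ∧ V ≤ W ∧ QcAt h𝔛 G V ∧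
      Module.Finite (FBlow13.Sec 𝔛 h𝔛.1 V) (FS G V)) : SheafOfModules.IsFiniteType.{u} G := by
  refine SiteMod.isFiniteType_of_genAt (O := 𝔛.Osh h𝔛.1) G fun X => ?_
  have hh := exists_sieve_of_near (W := X)
    (fun U _ => ∃ (q : Type u) (_ : Fintype q) (a : q → FS G U), SiteMod.GenAt (Mod48.pre G) U a)
    (fun U i U' j ⟨q, hq, a, ha⟩ => ⟨q, hq, _, ha.pullback (homOfLE j)⟩) fun z hz => ?_
  · exact hh
  obtain ⟨V, hzV, hVX, hG, hfin⟩ := H z X hz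
  have := hfin
  obtain ⟨n, a, ha⟩ := Module.Finite.exists_fin (R := FBlow13.Sec 𝔛 h𝔛.1 V) (M := FS G V)
  refine ⟨V, hVX, hzV, ULift.{u} (Fin n), inferInstance, fun t => a t.down, fun W g x => ?_⟩
  refine exists_sieve_of_near (fun U i => ∃ c : ULift.{u} (Fin n) → FBlow13.Sec 𝔛 h𝔛.1 U,
    fres G i x = ∑ t, c t • fres G (i.trans (leOfHom g)) (a t.down))
    (fun U i U' j ⟨c, hc⟩ => ⟨fun t => FBlow13.res 𝔛 h𝔛.1 j (c t), by
      rw [← fres_fres G i j, hc, fres_sum]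
      exact Finset.sum_congr rfl fun t _ => by rw [fres_smul, fres_fres]⟩) fun w hw => ?_
  obtain ⟨U, i, hwU, hm⟩ := hG.2.1 W (leOfHom g) x w hw
  refine ⟨U, i, hwU, ?_⟩
  obtain ⟨c, hc⟩ := (Submodule.mem_span_range_iff_exists_fun _).1
    (show fres G i x ∈ Submodule.span _ (Set.range fun t : ULift.{u} (Fin n) =>
      fres G (i.trans (leOfHom g)) (a t.down)) from Submodule.span_le.2 (by
      rintro _ ⟨b, rfl⟩
      refine Submodule.span_mono ?_ (fres_mem_span_range G _ (a := a) (ha.ge (Submodule.mem_top (x := b))))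
      rintro _ ⟨t, rfl⟩
      exact ⟨⟨t⟩, rfl⟩) hm)
  exact ⟨c, hc.symm⟩

/-- A quasi-coherent submodule of a coherent module is of finite type. -/
theorem isFiniteType_of_mono_coh {F G : ModF 𝔛 h𝔛.1} (hF : IsCohF 𝔛 h𝔛.1 F)
    [SheafOfModules.IsQuasicoherent.{u} G] (ι : G ⟶ F) [Mono ι] : SheafOfModules.IsFiniteType.{u} G := by
  refine isFiniteType_of_finite_sections (h𝔛 := h𝔛) fun x W hx => ?_
  obtain ⟨V, hxV, hVW, hG⟩ := exists_qcAt (h𝔛 := h𝔛) (F := G) hx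
  obtain ⟨hN, -, -⟩ := secRing h𝔛 hG.1
  have := hN
  have := module_finite_coh (h𝔛 := h𝔛) hF hG.1
  exact ⟨V, hxV, hVW, hG, Module.Finite.of_injective (apLin ι V) (ap_injective ι)⟩

/-- A quotient of a module of finite type is of finite type. -/
theorem isFiniteType_of_epi' {C : Type u} [SmallCategory C] {K : GrothendieckTopology C}
    {O : Sheaf K CommRingCat.{u}} {M N : ModSite.Mod O} [SheafOfModules.IsFiniteType.{u} M] (π : M ⟶ N) [Epi π] :
    SheafOfModules.IsFiniteType.{u} N := by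
  refine SiteMod.isFiniteType_of_genAt N fun X => ?_
  have hh := SiteMod.exists_genAt_cover M X
  obtain ⟨S, hS, hg⟩ := hh
  refine ⟨S, hS, fun Y v hv => ?_⟩
  obtain ⟨q, hq, a, ha⟩ := hg v hv
  refine ⟨q, hq, fun t => ap π (a t), fun W g x => ?_⟩
  obtain ⟨T, hT, hy⟩ := (SiteMod.epi_iff_locSurj π).1 inferInstance W x
  have key : ∀ ⦃V : C⦄ (w : V ⟶ W), T w → ∃ T' ∈ K V, ∀ ⦃V' : C⦄ (w' : V' ⟶ V), T' w' →
      ∃ c : q → O.obj.obj (op V'), Mod48.res (Mod48.pre N) (w' ≫ w).op x =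
        ∑ i, c i • Mod48.res (Mod48.pre N) ((w' ≫ w) ≫ g).op (ap π (a i)) := by
    intro V w hw
    obtain ⟨y, hy⟩ := hy w hw
    obtain ⟨T', hT', hc⟩ := ha V (w ≫ g) y
    refine ⟨T', hT', fun V' w' hw' => ?_⟩
    obtain ⟨c, hc⟩ := hc w' hw'
    refine ⟨c, ?_⟩
    rw [op_comp, ← Mod48.res_res, ← hy, SiteMod.res_ap, hc, SiteMod.ap_lincomb]
    exact Finset.sum_congr rfl fun i _ => by rw [← SiteMod.res_ap, Category.assoc]
  choose T' hT' hc using key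
  refine ⟨Sieve.bind T.arrows fun V w hw => T' w hw, K.bind_covering hT fun V w hw => hT' w hw, ?_⟩
  rintro V' _ ⟨V, w', w, hw, hw', rfl⟩
  exact hc w hw w' hw'

/-! ### Filtered colimits -/

variable {J : Type u} [SmallCategory J] [IsFiltered J] {D : J ⥤ ModF 𝔛 h𝔛.1} {c : Cocone D} (hc : IsColimit c)

include hc in
/-- The conditions pass to filtered colimits. -/
theorem qcAt_filtered_colimit {V : (𝔛.X 0).Opens} (hV : IsAffineOpen V) (hD : ∀ j, QcAt h𝔛 (D.obj j) V) :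
    QcAt h𝔛 c.pt V := by
  classical
  refine ⟨hV, fun W i x z hz => ?_, fun q _ y => vecFT_of_local y fun x hx => ?_⟩
  · have hh := SiteMod.exists_local_rep hc x
    obtain ⟨T, hT, hy⟩ := hh
    obtain ⟨W₁, v, hv, hzW₁⟩ := hT z hz
    obtain ⟨k, y, hy⟩ := hy v hv
    obtain ⟨W', j, hzW', hm⟩ := (hD k).2.1 W₁ ((leOfHom v).trans i) y z hzW₁
    obtain ⟨S, d, hd⟩ := fres_mem_span_finset _ hm
    refine ⟨W', j.trans (leOfHom v), hzW', ?_⟩
    rw [← fres_fres c.pt (leOfHom v) j, show fres c.pt (leOfHom v) x = ap (c.ι.app k) y from hy.symm,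
      fres_ap, hd, ap_fres_lincomb]
    exact Submodule.sum_mem _ fun a _ => Submodule.smul_mem _ _ (Submodule.subset_span ⟨_, rfl⟩)
  obtain ⟨Vx, hVxV, hVx, hxVx, hl⟩ := exists_common_affine hx
    (P := fun t W i => ∃ (k : J) (l : FS (D.obj k) W), ap (c.ι.app k) l = fres c.pt i (y t))
    (fun t W i W' j ⟨k, l, hl⟩ => ⟨k, fres (D.obj k) j l,
      (fres_ap (c.ι.app k) j l).symm.trans ((congrArg (fres c.pt j) hl).trans (fres_fres c.pt i j _))⟩)
    (fun t => by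
      have hh := SiteMod.exists_local_rep hc (y t)
      obtain ⟨T, hT, hy⟩ := hh
      obtain ⟨W₁, v, hv, hxW₁⟩ := hT x hx
      obtain ⟨k, l, hl⟩ := hy v hv
      exact ⟨W₁, leOfHom v, hxW₁, k, l, hl⟩)
  choose k l hl using hl
  obtain ⟨k₀, hk₀⟩ := IsFiltered.sup_objs_exists (Finset.univ.image k)
  let f : ∀ t, k t ⟶ k₀ := fun t => (hk₀ (Finset.mem_image_of_mem k (Finset.mem_univ t))).some
  let l₀ : q → FS (D.obj k₀) Vx := fun t => ap (D.map (f t)) (l t)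
  have hl₀ : ∀ t, ap (c.ι.app k₀) (l₀ t) = fres c.pt hVxV (y t) := fun t => by
    rw [← hl t]
    exact (SiteMod.ap_comp _ _ _).symm.trans (congrArg (fun φ => ap φ (l t)) (c.w (f t)))
  refine ⟨Vx, hVxV, hVx, hxVx, fun W j e he z hz => ?_⟩
  rw [mem_relSub] at he
  have h0 : ap (c.ι.app k₀) (∑ t, e t • fres (D.obj k₀) j (l₀ t)) = 0 := by
    refine (ap_fres_lincomb (c.ι.app k₀) j e l₀).trans
      (Eq.trans (Finset.sum_congr rfl fun t _ => congrArg (e t • ·) ?_) he)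
    exact (congrArg (fres c.pt j) (hl₀ t)).trans (fres_fres c.pt hVxV j _)
  have hh := SiteMod.exists_local_zero hc _ h0
  obtain ⟨T, hT, hz0⟩ := hh
  obtain ⟨W₁, v, hv, hzW₁⟩ := hT z hz
  obtain ⟨m, g, hg⟩ := hz0 v hv
  obtain ⟨W', hW', hzW', hW'₁⟩ := exists_isAffineOpen_mem_and_subset hzW₁
  let j' : W' ≤ W := le_trans hW'₁ (leOfHom v)
  obtain ⟨κ, _, r, hr, hgen⟩ := ((hD m).anti hVx hVxV).rel fun t => ap (D.map g) (l₀ t)
  have hE : ∑ t, vres h𝔛.1 j' e t • fres (D.obj m) (j'.trans j) (ap (D.map g) (l₀ t)) = 0 := by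
    have h1 := (congrArg (fres (D.obj m) hW'₁) hg).trans (fres_zero _ _)
    rw [fres_ap, show Mod48.res (Mod48.pre (D.obj k₀)) v.op _ =
      fres (D.obj k₀) (leOfHom v) _ from rfl, fres_fres, fres_sum] at h1
    simp only [fres_smul, fres_fres] at h1
    rw [ap_fres_lincomb] at h1
    exact h1
  refine ⟨W', j', hzW', Submodule.span_mono ?_ (hgen W' _ hW' _ hE)⟩
  rintro _ ⟨s, rfl⟩
  refine ⟨r s, ?_, rfl⟩
  rw [SetLike.mem_coe, mem_relSub]
  have h2 := congrArg (ap (c.ι.app m)) (hr s)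
  rw [SiteMod.ap_lincomb, show ap (c.ι.app m) (0 : FS (D.obj m) Vx) = 0 from map_zero _] at h2
  refine Eq.trans (Finset.sum_congr rfl fun t _ => ?_) h2
  exact congrArg (r s t • ·) ((hl₀ t).symm.trans
    ((congrArg (fun φ => ap φ (l₀ t)) (c.w g)).symm.trans (SiteMod.ap_comp _ _ _)))

theorem qcAt_of_ind {F : ModF 𝔛 h𝔛.1}
    (hF : (ObjectProperty.ind.{u} fun G : ModF 𝔛 h𝔛.1 => IsCohF 𝔛 h𝔛.1 G) F) {V : (𝔛.X 0).Opens}
    (hV : IsAffineOpen V) : QcAt h𝔛 F V := by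
  obtain ⟨J, _, _, pres, hpres⟩ := hF
  exact qcAt_filtered_colimit pres.isColimit hV fun j => qcAt_of_coh (hpres j) hV

theorem isQuasicoherent_of_ind {F : ModF 𝔛 h𝔛.1}
    (hF : (ObjectProperty.ind.{u} fun G : ModF 𝔛 h𝔛.1 => IsCohF 𝔛 h𝔛.1 G) F) :
    SheafOfModules.IsQuasicoherent.{u} F :=
  isQuasicoherent_of_qcAt (h𝔛 := h𝔛) fun x => by
    obtain ⟨V, hV, hxV, -⟩ := exists_isAffineOpen_mem_and_subset (X := 𝔛.X 0) (x := x) (U := ⊤) trivial
    exact ⟨V, hxV, qcAt_of_ind hF hV⟩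

end Groth.Agent.FCompl13
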