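import Groth.Agent.FCompl13.QcAnti
import Groth.Agent.FCompl13.BigPres

/-!
Modules generated over affine opens with relations locally of finite type are quasi-coherent.
-/

set_option autoImplicit false
set_option backward.isDefEq.respectTransparency false
set_option linter.style.haveILetI false

noncomputable section

universe u

open CategoryTheory CategoryTheory.Limits AlgebraicGeometry TopologicalSpace Opposite

namespace Groth.Agent.FCompl13

open _root_.FSch
open SiteMod (ap)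

variable {𝔛 : Sys.{u}} {h𝔛 : 𝔛.IsLocNoethFormal} {F : ModF 𝔛 h𝔛.1}

theorem exists_sieve_of_near {W : (𝔛.X 0).Opens} (P : ∀ V : (𝔛.X 0).Opens, V ≤ W → Prop)
    (hP : ∀ V i V' (j : V' ≤ V), P V i → P V' (j.trans i))
    (h : ∀ z ∈ W, ∃ (V : (𝔛.X 0).Opens) (i : V ≤ W), z ∈ V ∧ P V i) :
    ∃ T ∈ Opens.grothendieckTopology (𝔛.X 0).carrier W, ∀ ⦃V : (𝔛.X 0).Opens⦄ (v : V ⟶ W),
      T v → P V (leOfHom v) := by
  refine ⟨{ arrows := fun V v => P V (leOfHom v)
            downward_closed := fun {V V' v} hv w => hP V (leOfHom v) V' (leOfHom w) hv }, fun z hz => ?_,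
    fun V v hv => hv⟩
  obtain ⟨V, i, hzV, hV⟩ := h z hz
  exact ⟨V, homOfLE i, hV, hzV⟩

theorem res_eq_fres {W V : (𝔛.X 0).Opens} (v : V ⟶ W) (x : FS F W) :
    Mod48.res (Mod48.pre F) v.op x = fres F (leOfHom v) x :=
  rfl

/-- The coefficient vector of a relation, extended by zero. -/
def extZero {h : 𝔛.IsFormal} {G : ModF 𝔛 h} {V : (𝔛.X 0).Opens} (s : Finset (FS G V))
    (r : s → FBlow13.Sec 𝔛 h V) (i : FS G V) : FBlow13.Sec 𝔛 h V :=
  open scoped Classical in if hi : i ∈ s then r ⟨i, hi⟩ else 0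

theorem extZero_coe {h : 𝔛.IsFormal} {G : ModF 𝔛 h} {V : (𝔛.X 0).Opens} (s : Finset (FS G V))
    (r : s → FBlow13.Sec 𝔛 h V) (i : s) : extZero s r i.1 = r i :=
  dif_pos i.2

theorem sres_sres {h : 𝔛.IsFormal} {U V W : (𝔛.X 0).Opens} (i : V ≤ U) (j : W ≤ V) (c : FBlow13.Sec 𝔛 h U) :
    FBlow13.res 𝔛 h j (FBlow13.res 𝔛 h i c) = FBlow13.res 𝔛 h (j.trans i) c :=
  congrFun (vres_vres h i j fun _ : PUnit.{1} => c) PUnit.unit

/-- The presentation over an open where the conditions hold. -/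
theorem nonempty_bigPres {V : (𝔛.X 0).Opens} (hF : QcAt h𝔛 F V) :
    Nonempty (BigPres (O := 𝔛.Osh h𝔛.1) F V) := by
  classical
  choose κ hκ r hr hgen using fun s : Finset (FS F V) => hF.rel (fun a : s => a.1)
  refine ⟨{
    I := FS F V
    K := Σ s : Finset (FS F V), κ s
    a := id
    S := fun k => k.1
    r := fun k => extZero k.1 (r k.1 k.2)
    rel := fun k => ?_
    gen := fun W g x => ?_
    kerr := fun W g R c hc => ?_ }⟩
  · refine (Finset.sum_coe_sort k.1 fun i => extZero k.1 (r k.1 k.2) i • i).symm.trans ?_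
    refine Eq.trans (Finset.sum_congr rfl fun i _ => ?_) (hr k.1 k.2)
    rw [extZero_coe]
  · refine exists_sieve_of_near (fun U i => ∃ (R : Finset (FS F V)) (c : FS F V → FBlow13.Sec 𝔛 h𝔛.1 U),
      fres F i x = ∑ a ∈ R, c a • fres F (i.trans (leOfHom g)) a) (fun U i U' j hU => ?_) fun z hz => ?_
    · obtain ⟨R, c, e⟩ := hU
      refine ⟨R, fun a => FBlow13.res 𝔛 h𝔛.1 j (c a), ?_⟩
      rw [← fres_fres F i j, e, fres_sum]
      exact Finset.sum_congr rfl fun a _ => by rw [fres_smul, fres_fres]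
    · obtain ⟨U, j, hzU, hm⟩ := hF.2.1 W (leOfHom g) x z hz
      obtain ⟨c, hc⟩ := Finsupp.mem_span_range_iff_exists_finsupp.1 hm
      exact ⟨U, j, hzU, c.support, c, hc.symm⟩
  · refine exists_sieve_of_near (fun U j => ∃ (Q : Finset (Σ s : Finset (FS F V), κ s))
      (d : (Σ s : Finset (FS F V), κ s) → FBlow13.Sec 𝔛 h𝔛.1 U), ∀ [DecidableEq (FS F V)] (i : FS F V),
        (if i ∈ R then FBlow13.res 𝔛 h𝔛.1 j (c i) else 0) =
          ∑ k ∈ Q, d k * (if i ∈ k.1 then FBlow13.res 𝔛 h𝔛.1 (j.trans (leOfHom g)) (extZero k.1 (r k.1 k.2) i) else 0))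
      (fun U j U' j' hU => ?_) fun z hz => ?_
    · obtain ⟨Q, d, e⟩ := hU
      refine ⟨Q, fun k => FBlow13.res 𝔛 h𝔛.1 j' (d k), fun {_} i => ?_⟩
      have h1 := congrArg (FBlow13.res 𝔛 h𝔛.1 j') (e i)
      simp only [map_sum, map_mul, apply_ite (FBlow13.res 𝔛 h𝔛.1 j'), map_zero] at h1
      simp only [sres_sres] at h1
      exact h1
    · obtain ⟨U, hU, hzU, hUW⟩ := exists_isAffineOpen_mem_and_subset hz
      have hjU : U ≤ W := hUW
      obtain ⟨d, hd⟩ := (Submodule.mem_span_range_iff_exists_fun _).1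
        (hgen R U (hjU.trans (leOfHom g)) hU (fun a => FBlow13.res 𝔛 h𝔛.1 hjU (c a.1)) (by
          refine Eq.trans ?_ ((congrArg (fres F hjU) hc).trans (fres_zero F hjU))
          rw [fres_sum]
          refine (Finset.sum_coe_sort R fun a => FBlow13.res 𝔛 h𝔛.1 hjU (c a) •
            fres F (hjU.trans (leOfHom g)) a).trans (Finset.sum_congr rfl fun a _ => ?_)
          exact ((fres_smul F hjU (c a) _).trans (congrArg (_ • ·) (fres_fres F (leOfHom g) hjU a))).symm))
      refine ⟨U, hjU, hzU, Finset.univ.map ⟨Sigma.mk R, sigma_mk_injective⟩,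
        fun k => if e : k.1 = R then d (e ▸ k.2) else 0, fun {_} i => ?_⟩
      rw [Finset.sum_map]
      simp only [Function.Embedding.coeFn_mk, dite_true]
      split_ifs with hi
      · have h1 := congrFun hd ⟨i, hi⟩
        simp only [Finset.sum_apply, Pi.smul_apply, smul_eq_mul, vres] at h1
        rw [← h1]
        exact Finset.sum_congr rfl fun s _ => by rw [extZero, dif_pos hi]
      · simp

/-- A module satisfying the conditions near every point is quasi-coherent. -/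
theorem isQuasicoherent_of_qcAt (H : ∀ x : 𝔛.X 0, ∃ V : (𝔛.X 0).Opens, x ∈ V ∧ QcAt h𝔛 F V) :
    SheafOfModules.IsQuasicoherent.{u} F := by
  refine isQuasicoherent_of_bigPres (O := 𝔛.Osh h𝔛.1) F fun X => ?_
  obtain ⟨T, hT, hP⟩ := exists_sieve_of_near (W := X) (fun U _ => ∃ V, U ≤ V ∧ QcAt h𝔛 F V)
    (fun U i U' j ⟨V, hUV, hV⟩ => ⟨V, j.trans hUV, hV⟩) fun z hz => by
      obtain ⟨V, hzV, hV⟩ := H z
      exact ⟨V ⊓ X, inf_le_right, ⟨hzV, hz⟩, V, inf_le_left, hV⟩
  refine ⟨T, hT, fun U v hv => ?_⟩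
  obtain ⟨V, hUV, hV⟩ := hP v hv
  exact ⟨V, homOfLE hUV, nonempty_bigPres hV⟩

end Groth.Agent.FCompl13
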