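import Groth.Agent.FCompl13.QcData
import Groth.Agent.FCompl13.CohReal

/-!
Coherent modules, kernels and cokernels of modules generated over affine opens.
-/

set_option autoImplicit false
set_option backward.isDefEq.respectTransparency false
set_option linter.style.haveILetI false

noncomputable section

universe u

open CategoryTheory CategoryTheory.Limits AlgebraicGeometry TopologicalSpace Opposite

namespace Groth.Agent.FCompl13

section Site

open Groth.Agent.SiteMod Groth.Agent.Mod48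

variable {C : Type u} [SmallCategory C] {J : GrothendieckTopology C} {O : Sheaf J CommRingCat.{u}}

theorem ap_injective {M N : ModSite.Mod O} (φ : M ⟶ N) [Mono φ] {W : C} :
    Function.Injective (fun x : (pre M).obj (op W) => ap φ x) :=
  PresheafOfModules.injective_of_mono (fgt.map φ) (op W)

theorem locPres_of_iso {M N : ModSite.Mod O} (e : M ≅ N) {Y : C} (d : LocPres (pre M) Y) :
    Nonempty (LocPres (pre N) Y) := by
  have hinv : ∀ {W : C} (x : (pre N).obj (op W)), ap e.hom (ap e.inv x) = x := fun x => by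
    rw [← ap_comp, e.inv_hom_id]; rfl
  refine ⟨{ ι := d.ι, κ := d.κ, a := fun i => ap e.hom (d.a i), r := d.r
            rel := fun t => ?_, gen := fun W g x => ?_, kerr := fun W g c hc => ?_ }⟩
  · rw [← ap_lincomb, d.rel t]
    exact map_zero _
  · obtain ⟨S, hS, h⟩ := d.gen W g (ap e.inv x)
    refine ⟨S, hS, fun V v hv => ?_⟩
    obtain ⟨c, hc⟩ := h v hv
    refine ⟨c, ?_⟩
    have h1 := congrArg (ap e.hom) hc
    rw [← res_ap, hinv, ap_lincomb] at h1
    exact h1.trans (Finset.sum_congr rfl fun i _ => congrArg (c i • ·) (res_ap e.hom _ _).symm)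
  · refine d.kerr W g c (ap_injective e.hom ?_)
    change ap e.hom _ = ap e.hom 0
    rw [ap_lincomb, show ap e.hom (0 : (pre M).obj (op W)) = 0 from map_zero _]
    exact (Finset.sum_congr rfl fun i _ => congrArg (c i • ·) (res_ap e.hom _ _).symm).trans hc

end Site

open _root_.FSch
open SiteMod (ap)

section Helpers

variable {𝔛 : Sys.{u}} {h : 𝔛.IsFormal} {F G : ModF 𝔛 h} {V : (𝔛.X 0).Opens}

theorem ap_fres_lincomb {ι : Type*} [Fintype ι] (φ : F ⟶ G) {U W : (𝔛.X 0).Opens} (i : W ≤ U)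
    (c : ι → FBlow13.Sec 𝔛 h W) (a : ι → FS F U) :
    ap φ (∑ t, c t • fres F i (a t)) = ∑ t, c t • fres G i (ap φ (a t)) :=
  (SiteMod.ap_lincomb φ c _).trans (Finset.sum_congr rfl fun t _ => by rw [fres_ap])

theorem fres_mem_span_finset {W : (𝔛.X 0).Opens} (i : W ≤ V) {x : FS F W}
    (hx : x ∈ Submodule.span (FBlow13.Sec 𝔛 h W) (Set.range fun a : FS F V => fres F i a)) :
    ∃ (S : Finset (FS F V)) (d : S → FBlow13.Sec 𝔛 h W), x = ∑ a, d a • fres F i a.1 := by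
  obtain ⟨S, B, hB⟩ := exists_finset_span (ι := PUnit.{1}) (fun a : FS F V => fres F i a) (fun _ => x) fun _ => hx
  exact ⟨S, B PUnit.unit, hB PUnit.unit⟩

theorem exists_affine_local_preimage {S : ShortComplex (ModF 𝔛 h)} (hS : S.Exact) {W : (𝔛.X 0).Opens}
    {x : FS S.X₂ W} (hx : ap S.g x = 0) {z : 𝔛.X 0} (hz : z ∈ W) :
    ∃ (W' : (𝔛.X 0).Opens) (j : W' ≤ W) (f : FS S.X₁ W'), IsAffineOpen W' ∧ z ∈ W' ∧
      ap S.f f = fres S.X₂ j x := by
  have hh := SiteMod.exists_local_preimage hS hx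
  obtain ⟨T, hT, hy⟩ := hh
  obtain ⟨W₁, v, hv, hzW₁⟩ := hT z hz
  obtain ⟨f, hf⟩ := hy v hv
  obtain ⟨W', hW', hzW', hW'₁⟩ := exists_isAffineOpen_mem_and_subset hzW₁
  refine ⟨W', le_trans hW'₁ (leOfHom v), fres S.X₁ hW'₁ f, hW', hzW', ?_⟩
  rw [← fres_ap, hf]
  exact fres_fres S.X₂ (leOfHom v) hW'₁ x

theorem exists_affine_preimage (π : F ⟶ G) [Epi π] {W : (𝔛.X 0).Opens} (x : FS G W) {z : 𝔛.X 0} (hz : z ∈ W) :
    ∃ (W' : (𝔛.X 0).Opens) (j : W' ≤ W) (f : FS F W'), IsAffineOpen W' ∧ z ∈ W' ∧ ap π f = fres G j x := by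
  have hh := (SiteMod.epi_iff_locSurj π).1 inferInstance W x
  obtain ⟨T, hT, hy⟩ := hh
  obtain ⟨W₁, v, hv, hzW₁⟩ := hT z hz
  obtain ⟨f, hf⟩ := hy v hv
  obtain ⟨W', hW', hzW', hW'₁⟩ := exists_isAffineOpen_mem_and_subset hzW₁
  refine ⟨W', le_trans hW'₁ (leOfHom v), fres F hW'₁ f, hW', hzW', ?_⟩
  rw [← fres_ap, hf]
  exact fres_fres G (leOfHom v) hW'₁ x

/-- Quotients of modules generated over `V` are generated over `V`. -/
theorem GenBy.of_epi (π : F ⟶ G) [Epi π] (hF : GenBy F V) : GenBy G V := fun W i x z hz => by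
  obtain ⟨W₁, j₁, f, -, hzW₁, hf⟩ := exists_affine_preimage π x hz
  obtain ⟨W', j₂, hzW', hm⟩ := hF W₁ (j₁.trans i) f z hzW₁
  obtain ⟨S, d, hd⟩ := fres_mem_span_finset _ hm
  refine ⟨W', j₂.trans j₁, hzW', ?_⟩
  rw [← fres_fres G j₁ j₂, ← hf, fres_ap, hd, ap_fres_lincomb]
  exact Submodule.sum_mem _ fun a _ => Submodule.smul_mem _ _ (Submodule.subset_span ⟨ap π a.1, rfl⟩)

end Helpers

variable {𝔛 : Sys.{u}} {h𝔛 : 𝔛.IsLocNoethFormal} {F G K : ModF 𝔛 h𝔛.1} {V : (𝔛.X 0).Opens}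

theorem qcAt_of_locPres (hV : IsAffineOpen V) (d : SiteMod.LocPres (Mod48.pre F) V) : QcAt h𝔛 F V :=
  qcAt_of_presentation d.presentation hV le_rfl

/-- A coherent module satisfies the conditions on every affine open. -/
theorem qcAt_of_coh (hF : IsCohF 𝔛 h𝔛.1 F) (hV : IsAffineOpen V) : QcAt h𝔛 F V := by
  have : F.IsFinitePresentation := hF
  obtain ⟨d⟩ := nonempty_locPres h𝔛 (sysOf h𝔛.1 F) (isCoh_sysOf h𝔛.1 F) hV
  have := isIso_toReal h𝔛 F
  obtain ⟨d'⟩ := locPres_of_iso (asIso (toReal h𝔛.1 F)).symm d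
  exact qcAt_of_locPres hV d'

/-- Submodules generated over `V` inherit the conditions. -/
theorem QcAt.of_mono (ι : K ⟶ F) [Mono ι] (hF : QcAt h𝔛 F V) (hK : GenBy K V) : QcAt h𝔛 K V := by
  refine ⟨hF.1, hK, fun q _ y => ?_⟩
  have e : relSub K y = relSub F (fun t => ap ι (y t)) := by
    funext W i
    ext c
    rw [mem_relSub, mem_relSub, ← ap_fres_lincomb ι i c y]
    exact ⟨fun h0 => by rw [h0]; exact map_zero _, fun h0 => ap_injective ι (h0.trans (map_zero _).symm)⟩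
  rw [e]
  exact hF.2.2 q inferInstance _

set_option maxHeartbeats 2000000 in
/-- The kernel of a map is generated over `V`. -/
theorem genBy_kernel (φ : F ⟶ G) (hF : GenBy F V) (hG : QcAt h𝔛 G V) : GenBy (kernel φ) V := by
  classical
  intro W i x z hz
  obtain ⟨W₁, j₁, hzW₁, hm⟩ := hF W i (ap (kernel.ι φ) x) z hz
  obtain ⟨W', hW', hzW', hW'₁⟩ := exists_isAffineOpen_mem_and_subset hzW₁
  have j₂ : W' ≤ W₁ := hW'₁
  have hm' := fres_mem_span_range F j₂ hm
  simp only [fres_fres] at hm'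
  obtain ⟨S, d, hd⟩ := fres_mem_span_finset _ hm'
  obtain ⟨κ, _, r, hr, hgen⟩ := hG.rel fun a : S => ap φ a.1
  have h0 : ∑ a, d a • fres G (j₂.trans (j₁.trans i)) (ap φ a.1) = 0 := by
    rw [← ap_fres_lincomb φ, ← hd, ← fres_ap, ← SiteMod.ap_comp, kernel.condition]
    exact fres_zero _ _
  obtain ⟨e, he⟩ := (Submodule.mem_span_range_iff_exists_fun _).1 (hgen W' _ hW' d h0)
  have hk : ∀ s, ∃ k : FS (kernel φ) V, ap (kernel.ι φ) k = ∑ a, r s a • a.1 := fun s =>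
    SiteMod.exists_of_ap_kernel φ ((SiteMod.ap_lincomb φ (r s) _).trans (hr s))
  choose k hk using hk
  refine ⟨W', j₂.trans j₁, hzW', ?_⟩
  rw [show fres (kernel φ) (j₂.trans j₁) x = ∑ s, e s • fres (kernel φ) (j₂.trans (j₁.trans i)) (k s) from
    ap_injective (kernel.ι φ) ?_]
  · exact Submodule.sum_mem _ fun s _ => Submodule.smul_mem _ _ (Submodule.subset_span ⟨k s, rfl⟩)
  · change ap (kernel.ι φ) _ = ap (kernel.ι φ) _
    rw [← fres_ap, hd, ap_fres_lincomb]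
    simp only [hk, fres_sum, fres_smul, Finset.smul_sum, smul_smul]
    rw [Finset.sum_comm]
    refine Finset.sum_congr rfl fun a _ => ?_
    have h1 := congrFun he a
    simp only [Finset.sum_apply, Pi.smul_apply, smul_eq_mul] at h1
    rw [← Finset.sum_smul, h1]

/-- The kernel satisfies the conditions. -/
theorem QcAt.kernel (φ : F ⟶ G) (hF : QcAt h𝔛 F V) (hG : QcAt h𝔛 G V) :
    QcAt h𝔛 (Limits.kernel φ) V :=
  QcAt.of_mono (kernel.ι φ) hF (genBy_kernel φ hF.2.1 hG)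

/-- The cokernel satisfies the conditions. -/
theorem QcAt.cokernel (φ : F ⟶ G) (hF : GenBy F V) (hG : QcAt h𝔛 G V) :
    QcAt h𝔛 (Limits.cokernel φ) V := by
  classical
  refine ⟨hG.1, GenBy.of_epi (cokernel.π φ) hG.2.1, fun q _ y => vecFT_of_local y fun x hx => ?_⟩
  obtain ⟨Vx, hVxV, hVx, hxVx, hl⟩ := exists_common_affine hx
    (P := fun t W i => ∃ l : FS G W, ap (cokernel.π φ) l = fres (Limits.cokernel φ) i (y t))
    (fun t W i W' j ⟨l, hl⟩ => ⟨fres G j l, by rw [← fres_ap, hl, fres_fres]⟩)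
    (fun t => by
      obtain ⟨W, i, l, -, hxW, hl⟩ := exists_affine_preimage (cokernel.π φ) (y t) hx
      exact ⟨W, i, hxW, l, hl⟩)
  choose l hl using hl
  refine ⟨Vx, hVxV, hVx, hxVx, fun W j c hc z hz => ?_⟩
  rw [mem_relSub] at hc
  have h0 : ap (cokernel.π φ) (∑ t, c t • fres G j (l t)) = 0 := by
    rw [ap_fres_lincomb]
    simp only [hl, fres_fres]
    exact hc
  obtain ⟨W₁, j₁, f, -, hzW₁, hf⟩ := exists_affine_local_preimage
    (S := ShortComplex.mk φ (cokernel.π φ) (cokernel.condition φ))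
    (ShortComplex.exact_of_g_is_cokernel _ (cokernelIsCokernel φ)) h0 hz
  obtain ⟨W₂, j₂, hzW₂, hm⟩ := hF W₁ (j₁.trans (j.trans hVxV)) f z hzW₁
  obtain ⟨W', hW', hzW', hW'₂⟩ := exists_isAffineOpen_mem_and_subset hzW₂
  have j₃ : W' ≤ W₂ := hW'₂
  have hm' := fres_mem_span_range F j₃ hm
  simp only [fres_fres] at hm'
  obtain ⟨S, d, hd⟩ := fres_mem_span_finset _ hm'
  let Y : q ⊕ S → FS G Vx := Sum.elim l fun a => fres G hVxV (ap φ a.1)
  obtain ⟨κ, _, r, hr, hgen⟩ := (hG.anti hVx hVxV).rel Y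
  let j' : W' ≤ W := j₃.trans (j₂.trans j₁)
  let E : q ⊕ S → FBlow13.Sec 𝔛 h𝔛.1 W' := Sum.elim (vres h𝔛.1 j' c) fun a => -d a
  have hE : ∑ m, E m • fres G (j'.trans j) (Y m) = 0 := by
    rw [Fintype.sum_sum_type]
    simp only [E, Y, Sum.elim_inl, Sum.elim_inr, neg_smul, Finset.sum_neg_distrib]
    rw [← sub_eq_add_neg, sub_eq_zero]
    have h1 := congrArg (fres G (j₃.trans j₂)) hf
    rw [fres_ap, hd, ap_fres_lincomb, fres_sum, fres_sum] at h1
    simp only [fres_smul, fres_fres, sres_sres, vres] at h1 ⊢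
    exact h1.symm
  obtain ⟨e, he⟩ := (Submodule.mem_span_range_iff_exists_fun _).1 (hgen W' (j'.trans j) hW' E hE)
  refine ⟨W', j', hzW', ?_⟩
  rw [show vres h𝔛.1 j' c = ∑ s, e s • vres h𝔛.1 (j'.trans j) (fun t => r s (Sum.inl t)) from
    funext fun t => by
      have h1 := congrFun he (Sum.inl t)
      simp only [Finset.sum_apply, Pi.smul_apply, E, Sum.elim_inl] at h1 ⊢
      exact h1.symm]
  refine Submodule.sum_mem _ fun s _ => Submodule.smul_mem _ _ (Submodule.subset_span ⟨_, ?_, rfl⟩)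
  rw [SetLike.mem_coe, mem_relSub]
  have h2 := congrArg (ap (cokernel.π φ)) (hr s)
  rw [show ap (cokernel.π φ) (0 : FS G Vx) = 0 from map_zero _, SiteMod.ap_lincomb, Fintype.sum_sum_type,
    add_eq_left.2 (Finset.sum_eq_zero fun a _ => ?_)] at h2
  · simp only [Y, Sum.elim_inl, hl] at h2
    exact h2
  · simp only [Y, Sum.elim_inr]
    rw [← fres_ap, ← SiteMod.ap_comp, cokernel.condition]
    exact (congrArg (r s _ • ·) (fres_zero _ _)).trans (smul_zero _)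

theorem exists_qcAt_pair [SheafOfModules.IsQuasicoherent.{u} F] [SheafOfModules.IsQuasicoherent.{u} G]
    (x : 𝔛.X 0) : ∃ V : (𝔛.X 0).Opens, x ∈ V ∧ QcAt h𝔛 F V ∧ QcAt h𝔛 G V := by
  obtain ⟨V₁, hx₁, -, hF⟩ := exists_qcAt (h𝔛 := h𝔛) (F := F) (W := ⊤) (x := x) trivial
  obtain ⟨V₂, hx₂, hle, hG⟩ := exists_qcAt (h𝔛 := h𝔛) (F := G) (W := V₁) hx₁
  exact ⟨V₂, hx₂, hF.anti hG.1 hle, hG⟩

/-- Kernels, images and cokernels of maps of quasi-coherent modules are quasi-coherent. -/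
theorem qc_ker_im_coker [SheafOfModules.IsQuasicoherent.{u} F] [SheafOfModules.IsQuasicoherent.{u} G]
    (φ : F ⟶ G) :
    SheafOfModules.IsQuasicoherent.{u} (kernel φ) ∧ SheafOfModules.IsQuasicoherent.{u} (Abelian.image φ) ∧
      SheafOfModules.IsQuasicoherent.{u} (Limits.cokernel φ) := by
  refine ⟨isQuasicoherent_of_qcAt (h𝔛 := h𝔛) fun x => ?_, isQuasicoherent_of_qcAt (h𝔛 := h𝔛) fun x => ?_,
    isQuasicoherent_of_qcAt (h𝔛 := h𝔛) fun x => ?_⟩
  all_goals obtain ⟨V, hxV, hF, hG⟩ := exists_qcAt_pair (h𝔛 := h𝔛) (F := F) (G := G) x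
  · exact ⟨V, hxV, hF.kernel φ hG⟩
  · exact ⟨V, hxV, hG.kernel (cokernel.π φ) (QcAt.cokernel φ hF.2.1 hG)⟩
  · exact ⟨V, hxV, QcAt.cokernel φ hF.2.1 hG⟩

end Groth.Agent.FCompl13
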