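import Groth.Agent.FCompl13.QcSec
import Groth.Agent.FCompl13.PresCoord

/-!
A presented module is generated by sections over affine opens, with relations locally of finite type.
-/

set_option autoImplicit false
set_option backward.isDefEq.respectTransparency false
set_option linter.style.haveILetI false

noncomputable section

universe u

open CategoryTheory CategoryTheory.Limits AlgebraicGeometry TopologicalSpace Opposite

namespace Groth.Agent.FCompl13

open _root_.FSch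
open SiteMod (ap)

variable {𝔛 : Sys.{u}} {h : 𝔛.IsFormal}

theorem fres_mem_span (F : ModF 𝔛 h) {U V : (𝔛.X 0).Opens} (i : V ≤ U) {S : Set (FS F U)} {x : FS F U}
    (hx : x ∈ Submodule.span (FBlow13.Sec 𝔛 h U) S) :
    fres F i x ∈ Submodule.span (FBlow13.Sec 𝔛 h V) (fres F i '' S) := by
  induction hx using Submodule.span_induction with
  | mem w hw => exact Submodule.subset_span ⟨w, hw, rfl⟩
  | zero => rw [fres_zero]; exact Submodule.zero_mem _
  | add a b _ _ ha hb =>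
    rw [show fres F i (a + b) = fres F i a + fres F i b from
      map_add ((Mod48.pre F).map (homOfLE i).op).hom a b]
    exact Submodule.add_mem _ ha hb
  | smul s a _ ha => rw [fres_smul]; exact Submodule.smul_mem _ _ ha

theorem fres_mem_span_range (F : ModF 𝔛 h) {U V : (𝔛.X 0).Opens} (i : V ≤ U) {κ : Type*} {a : κ → FS F U}
    {x : FS F U} (hx : x ∈ Submodule.span (FBlow13.Sec 𝔛 h U) (Set.range a)) :
    fres F i x ∈ Submodule.span (FBlow13.Sec 𝔛 h V) (Set.range fun k => fres F i (a k)) := by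
  have h1 := fres_mem_span F i hx
  rwa [← Set.range_comp] at h1

/-- A statement true near every point for each member of a finite family is true on a common
affine neighbourhood. -/
theorem exists_common_affine {V : (𝔛.X 0).Opens} {ι : Type*} [Finite ι] {x : 𝔛.X 0} (hx : x ∈ V)
    {P : ι → ∀ W : (𝔛.X 0).Opens, W ≤ V → Prop}
    (hmono : ∀ t W (i : W ≤ V) W' (j : W' ≤ W), P t W i → P t W' (j.trans i))
    (hP : ∀ t, ∃ (W : (𝔛.X 0).Opens) (i : W ≤ V), x ∈ W ∧ P t W i) :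
    ∃ (W : (𝔛.X 0).Opens) (i : W ≤ V), IsAffineOpen W ∧ x ∈ W ∧ ∀ t, P t W i := by
  choose W i hxW hW using hP
  have hfin : IsOpen (⋂ t, (W t : Set (𝔛.X 0))) := isOpen_iInter_of_finite fun t => (W t).2
  obtain ⟨W', hW', hxW', hle⟩ := exists_isAffineOpen_mem_and_subset
    (show x ∈ (V ⊓ ⟨_, hfin⟩ : (𝔛.X 0).Opens) from ⟨hx, Set.mem_iInter.2 hxW⟩)
  have hWle : ∀ t, W' ≤ W t := fun t z hz => Set.mem_iInter.1 (hle hz).2 t
  exact ⟨W', fun z hz => (hle hz).1, hW', hxW', fun t => hmono t (W t) (i t) W' (hWle t) (hW t)⟩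

variable {U : (𝔛.X 0).Opens} {F : ModF 𝔛 h} (σ : ((ModSite.restr (𝔛.Osh h) U).obj F).Presentation)

/-- The generators of a presentation over the opens inside `U`. -/
def genSec (k : σ.generators.I) {W : (𝔛.X 0).Opens} (i : W ≤ U) : FS F W :=
  gGen σ k (homOfLE i)

theorem fres_genSec (k : σ.generators.I) {W W' : (𝔛.X 0).Opens} (i : W ≤ U) (j : W' ≤ W) :
    fres F j (genSec σ k i) = genSec σ k (j.trans i) :=
  res_gGen σ k (homOfLE i) (homOfLE j)

/-- The coefficients of the relations of a presentation over the opens inside `U`. -/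
def relCoef [DecidableEq σ.generators.I] (k : σ.relations.I) (l : σ.generators.I) {W : (𝔛.X 0).Opens}
    (i : W ≤ U) : FBlow13.Sec 𝔛 h W :=
  gCoef σ k l (homOfLE i)

theorem fres_relCoef [DecidableEq σ.generators.I] (k : σ.relations.I) (l : σ.generators.I)
    {W W' : (𝔛.X 0).Opens} (i : W ≤ U) (j : W' ≤ W) :
    FBlow13.res 𝔛 h j (relCoef σ k l i) = relCoef σ k l (j.trans i) :=
  res_gCoef σ k l (homOfLE i) (homOfLE j)

theorem gen_presentation {W : (𝔛.X 0).Opens} (i : W ≤ U) (x : FS F W) {z : 𝔛.X 0} (hz : z ∈ W) :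
    ∃ (W' : (𝔛.X 0).Opens) (j : W' ≤ W), z ∈ W' ∧
      fres F j x ∈ Submodule.span (FBlow13.Sec 𝔛 h W') (Set.range fun k => genSec σ k (j.trans i)) := by
  obtain ⟨T, hT, h1⟩ := gGen_local σ (homOfLE i) x
  obtain ⟨W₁, v₁, hv₁, hzW₁⟩ := hT z hz
  obtain ⟨T', hT', h2⟩ := h1 v₁ hv₁
  obtain ⟨W₂, v₂, hv₂, hzW₂⟩ := hT' z hzW₁
  obtain ⟨S, c, hsum⟩ := h2 v₂ hv₂
  refine ⟨W₂, (leOfHom v₂).trans (leOfHom v₁), hzW₂, ?_⟩
  rw [show fres F ((leOfHom v₂).trans (leOfHom v₁)) x =
    ∑ k ∈ S, c k • genSec σ k (((leOfHom v₂).trans (leOfHom v₁)).trans i) from hsum]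
  exact Submodule.sum_mem _ fun k _ => Submodule.smul_mem _ _ (Submodule.subset_span ⟨k, rfl⟩)

/-- Vectors of coefficients combining the relations are relations. -/
theorem rel_presentation [DecidableEq σ.generators.I] {W : (𝔛.X 0).Opens} (i : W ≤ U)
    (S : Finset σ.generators.I) (e : σ.generators.I → FBlow13.Sec 𝔛 h W)
    (T : Finset σ.relations.I) (d : σ.relations.I → FBlow13.Sec 𝔛 h W)
    (he : ∀ l, (if l ∈ S then e l else 0) = ∑ k ∈ T, d k * relCoef σ k l i) :
    ∑ k ∈ S, e k • genSec σ k i = 0 :=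
  gRel_rel σ (homOfLE i) S e T d he

set_option maxHeartbeats 1000000 in
/-- Relations are locally combinations of the relations. -/
theorem kerr_presentation [DecidableEq σ.generators.I] {W : (𝔛.X 0).Opens} (i : W ≤ U)
    (S : Finset σ.generators.I) (e : σ.generators.I → FBlow13.Sec 𝔛 h W)
    (he : ∑ k ∈ S, e k • genSec σ k i = 0) {z : 𝔛.X 0} (hz : z ∈ W) :
    ∃ (W' : (𝔛.X 0).Opens) (j : W' ≤ W), IsAffineOpen W' ∧ z ∈ W' ∧
      ∃ (T : Finset σ.relations.I) (d : σ.relations.I → FBlow13.Sec 𝔛 h W'),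
        ∀ l, FBlow13.res 𝔛 h j (if l ∈ S then e l else 0) = ∑ k ∈ T, d k * relCoef σ k l (j.trans i) := by
  have hh := gRel_local_bind σ (homOfLE i) S e he
  obtain ⟨T, hT, h1⟩ := hh
  obtain ⟨W₁, v₁, hv₁, hzW₁⟩ := hT z hz
  obtain ⟨W₃, hW₃, hzW₃, hj₃⟩ := exists_isAffineOpen_mem_and_subset hzW₁
  have hd := h1 _ (T.downward_closed hv₁ (homOfLE (show W₃ ≤ W₁ from hj₃)))
  exact ⟨W₃, le_trans hj₃ (leOfHom v₁), hW₃, hzW₃, hd⟩

/-- Coefficient vectors killed through the relations give relations among combinations of the generators. -/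
theorem comb_eq_zero [DecidableEq σ.generators.I] {W : (𝔛.X 0).Opens} (i : W ≤ U) {ι : Type*} [Fintype ι]
    (S : Finset σ.generators.I) (B : ι → σ.generators.I → FBlow13.Sec 𝔛 h W) (yy : ι → FS F W)
    (hy : ∀ t, yy t = ∑ l ∈ S, B t l • genSec σ l i) (hB : ∀ t l, l ∉ S → B t l = 0)
    (T : Finset σ.relations.I) (m : ι → FBlow13.Sec 𝔛 h W) (d : T → FBlow13.Sec 𝔛 h W)
    (he : ∀ l, ∑ t, m t * B t l = ∑ s : T, d s * relCoef σ s.1 l i) :
    ∑ t, m t • yy t = 0 :=
  gComb_eq_zero σ (homOfLE i) S B yy hy hB T m d he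

omit σ in
theorem span_inl {W : (𝔛.X 0).Opens} {ι q : Type u} {S : Set (ι ⊕ q → FBlow13.Sec 𝔛 h W)}
    {v : ι ⊕ q → FBlow13.Sec 𝔛 h W} (hv : v ∈ Submodule.span (FBlow13.Sec 𝔛 h W) S) :
    (fun t => v (Sum.inl t)) ∈
      Submodule.span (FBlow13.Sec 𝔛 h W) ((fun w : ι ⊕ q → FBlow13.Sec 𝔛 h W => fun t => w (Sum.inl t)) '' S) := by
  have h1 := Submodule.mem_map_of_mem
    (f := (LinearMap.funLeft (FBlow13.Sec 𝔛 h W) (FBlow13.Sec 𝔛 h W) Sum.inl)) hv
  rw [Submodule.map_span] at h1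
  exact h1

set_option maxHeartbeats 800000 in
/-- A module presented on `U` is generated by sections over affine opens in `U`, with relations
locally of finite type. -/
theorem qcAt_of_presentation {h𝔛 : 𝔛.IsLocNoethFormal} {F : ModF 𝔛 h𝔛.1}
    (σ : ((ModSite.restr (𝔛.Osh h𝔛.1) U).obj F).Presentation)
    {V : (𝔛.X 0).Opens} (hV : IsAffineOpen V) (hVU : V ≤ U) : QcAt h𝔛 F V := by
  classical
  refine ⟨hV, fun W i x z hz => ?_, fun ι _ y => vecFT_of_local y fun x hx => ?_⟩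
  · obtain ⟨W', j, hzW', hm⟩ := gen_presentation σ (i.trans hVU) x hz
    refine ⟨W', j, hzW', Submodule.span_mono (Set.range_subset_iff.2 fun k => ?_) hm⟩
    exact ⟨genSec σ k hVU, fres_genSec σ k hVU (j.trans i)⟩
  obtain ⟨Vx, hVxV, hVx, hxVx, hB⟩ := exists_common_affine hx
    (P := fun t W i => fres F i (y t) ∈ Submodule.span (FBlow13.Sec 𝔛 h𝔛.1 W)
      (Set.range fun k => genSec σ k (i.trans hVU)))
    (fun t W i W' j hm => by
      have h1 := fres_mem_span_range F j hm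
      simp only [fres_fres, fres_genSec] at h1
      exact h1)
    (fun t => gen_presentation σ hVU (y t) hx)
  choose B hB using fun t => Finsupp.mem_span_range_iff_exists_finsupp.1 (hB t)
  refine ⟨Vx, hVxV, hVx, hxVx, fun W j c hc z hz => ?_⟩
  let S : Finset σ.generators.I := Finset.univ.biUnion fun t => (B t).support
  have hB0 : ∀ (t : ι) (l : σ.generators.I), l ∉ S → B t l = 0 := fun t l hl =>
    Finsupp.notMem_support_iff.1 fun hm => hl (Finset.mem_biUnion.2 ⟨t, Finset.mem_univ t, hm⟩)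
  have hBsum : ∀ t, fres F hVxV (y t) = ∑ l ∈ S, B t l • genSec σ l (hVxV.trans hVU) := fun t => by
    rw [← hB t]
    exact Finsupp.sum_of_support_subset _ (Finset.subset_biUnion_of_mem (fun t => (B t).support) (Finset.mem_univ t))
      _ fun k _ => zero_smul _ _
  have hBres : ∀ {W' : (𝔛.X 0).Opens} (j' : W' ≤ Vx) (c' : ι → FBlow13.Sec 𝔛 h𝔛.1 W'),
      ∑ l ∈ S, (∑ t, c' t * FBlow13.res 𝔛 h𝔛.1 j' (B t l)) • genSec σ l (j'.trans (hVxV.trans hVU)) =
        ∑ t, c' t • fres F (j'.trans hVxV) (y t) := fun {W'} j' c' => by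
    simp only [Finset.sum_smul]
    rw [Finset.sum_comm]
    refine Finset.sum_congr rfl fun t _ => ?_
    rw [← fres_fres F hVxV j', hBsum t, fres_sum, Finset.smul_sum]
    refine Finset.sum_congr rfl fun l _ => ?_
    rw [fres_smul, fres_genSec, smul_smul]
  rw [mem_relSub] at hc
  obtain ⟨W', j', hW', hzW', T, d, hd⟩ := kerr_presentation σ (j.trans (hVxV.trans hVU)) S
    (fun l => ∑ t, c t * FBlow13.res 𝔛 h𝔛.1 j (B t l)) ((hBres j c).trans hc) hz
  refine ⟨W', j', hzW', ?_⟩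
  let A : σ.generators.I → ι ⊕ T → FBlow13.Sec 𝔛 h𝔛.1 Vx := fun l => Sum.elim (fun t => B t l)
    fun s => -relCoef σ s.1 l (hVxV.trans hVU)
  let b : ι ⊕ T → FBlow13.Sec 𝔛 h𝔛.1 W' := Sum.elim (vres h𝔛.1 j' c) fun s => d s.1
  have hsol : ∀ l, ∑ m, b m * FBlow13.res 𝔛 h𝔛.1 (j'.trans j) (A l m) = 0 := fun l => by
    rw [Fintype.sum_sum_type]
    simp only [A, b, Sum.elim_inl, Sum.elim_inr, map_neg, mul_neg, Finset.sum_neg_distrib, fres_relCoef]
    rw [← sub_eq_add_neg, sub_eq_zero]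
    refine Eq.trans ?_ ((hd l).trans (Finset.sum_coe_sort T fun s => d s * _).symm)
    have hif : (if l ∈ S then ∑ t, c t * FBlow13.res 𝔛 h𝔛.1 j (B t l) else 0) =
        ∑ t, c t * FBlow13.res 𝔛 h𝔛.1 j (B t l) :=
      ite_eq_left_iff.2 fun hl => (Finset.sum_eq_zero fun t _ => by rw [hB0 t l hl, map_zero, mul_zero]).symm
    rw [hif, map_sum]
    refine Finset.sum_congr rfl fun t _ => ?_
    rw [map_mul]
    exact congrArg (_ * ·) (congrFun (vres_vres h𝔛.1 j j' fun _ : PUnit.{1} => B t l) PUnit.unit).symm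
  refine Submodule.span_le.2 ?_ (span_inl (mem_span_solutions h𝔛 hVx hW' (j'.trans j) A b hsol))
  rintro _ ⟨_, ⟨m, hm, rfl⟩, rfl⟩
  refine Submodule.subset_span ⟨fun t => m (Sum.inl t), ?_, rfl⟩
  rw [SetLike.mem_coe, mem_relSub]
  refine comb_eq_zero σ (hVxV.trans hVU) S (fun t => B t) _ hBsum hB0 T (fun t => m (Sum.inl t))
    (fun s => m (Sum.inr s)) fun l => ?_
  have h0 := hm l
  rw [Fintype.sum_sum_type] at h0
  simp only [A, Sum.elim_inl, Sum.elim_inr, mul_neg, Finset.sum_neg_distrib, ← sub_eq_add_neg, sub_eq_zero] at h0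
  exact h0

end Groth.Agent.FCompl13
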