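import Groth.Agent.FCompl13.LinSys
import Groth.Agent.SiteMod.OpensMod

/-!
Modules generated by sections over an affine open, with relations generated locally.
-/

set_option autoImplicit false
set_option backward.isDefEq.respectTransparency false
set_option linter.style.haveILetI false

noncomputable section

universe u

open CategoryTheory CategoryTheory.Limits AlgebraicGeometry TopologicalSpace Opposite

namespace Groth.Agent.FCompl13

open _root_.FSch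
open SiteMod (ap)

variable {𝔛 : Sys.{u}} {h : 𝔛.IsFormal}

/-- Sections of a module on a formal scheme. -/
abbrev FS (F : ModF 𝔛 h) (W : (𝔛.X 0).Opens) : Type u := (Mod48.pre F).obj (op W)

/-- Restriction of sections of a module on a formal scheme. -/
abbrev fres (F : ModF 𝔛 h) {U V : (𝔛.X 0).Opens} (i : V ≤ U) : FS F U → FS F V :=
  Mod48.res (Mod48.pre F) (homOfLE i).op

theorem fres_fres (F : ModF 𝔛 h) {U V W : (𝔛.X 0).Opens} (i : V ≤ U) (j : W ≤ V) (x : FS F U) :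
    fres F j (fres F i x) = fres F (j.trans i) x :=
  (Mod48.res_res _ _ _ _).trans (congrArg (fun z => Mod48.res (Mod48.pre F) z x) (Subsingleton.elim _ _))

theorem fres_self (F : ModF 𝔛 h) {U : (𝔛.X 0).Opens} (i : U ≤ U) (x : FS F U) : fres F i x = x :=
  (congrArg (fun z => Mod48.res (Mod48.pre F) z x)
    (show (homOfLE i).op = 𝟙 (op U) from Subsingleton.elim _ _)).trans
      (congr($((Mod48.pre F).map_id (op U)) x))

theorem fres_smul (F : ModF 𝔛 h) {U V : (𝔛.X 0).Opens} (i : V ≤ U) (a : FBlow13.Sec 𝔛 h U) (x : FS F U) :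
    fres F i (a • x) = FBlow13.res 𝔛 h i a • fres F i x :=
  Mod48.res_smul _ _ _ _

theorem fres_sum (F : ModF 𝔛 h) {U V : (𝔛.X 0).Opens} (i : V ≤ U) {ι : Type*} (S : Finset ι) (x : ι → FS F U) :
    fres F i (∑ t ∈ S, x t) = ∑ t ∈ S, fres F i (x t) :=
  map_sum ((Mod48.pre F).map (homOfLE i).op).hom x S

theorem fres_zero (F : ModF 𝔛 h) {U V : (𝔛.X 0).Opens} (i : V ≤ U) : fres F i (0 : FS F U) = 0 :=
  SiteMod.res_zero _ _

theorem fres_ap {F G : ModF 𝔛 h} (φ : F ⟶ G) {U V : (𝔛.X 0).Opens} (i : V ≤ U) (x : FS F U) :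
    fres G i (ap φ x) = ap φ (fres F i x) :=
  SiteMod.res_ap φ _ x

/-- A section vanishing near every point vanishes. -/
theorem fs_eq_zero (F : ModF 𝔛 h) {U : (𝔛.X 0).Opens} (x : FS F U)
    (hx : ∀ z ∈ U, ∃ (W : (𝔛.X 0).Opens) (i : W ≤ U), z ∈ W ∧ fres F i x = 0) : x = 0 := by
  let S : Sieve U :=
    { arrows := fun W v => fres F (leOfHom v) x = 0
      downward_closed := by
        intro W W' v hv w
        exact (fres_fres F (leOfHom v) (leOfHom w) x).symm.trans ((congrArg (fres F (leOfHom w)) hv).trans (fres_zero F _)) }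
  refine SiteMod.eq_zero_of_locally (S := S) (fun z hz => ?_) fun W v hv => ?_
  · obtain ⟨W, i, hzW, e⟩ := hx z hz
    exact ⟨W, homOfLE i, e, hzW⟩
  · exact hv

theorem fs_ext (F : ModF 𝔛 h) {U : (𝔛.X 0).Opens} (x y : FS F U)
    (hx : ∀ z ∈ U, ∃ (W : (𝔛.X 0).Opens) (i : W ≤ U), z ∈ W ∧ fres F i x = fres F i y) : x = y := by
  refine sub_eq_zero.1 (fs_eq_zero F _ fun z hz => ?_)
  obtain ⟨W, i, hzW, e⟩ := hx z hz
  exact ⟨W, i, hzW, (map_sub ((Mod48.pre F).map (homOfLE i).op).hom x y).trans (sub_eq_zero.2 e)⟩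

/-- The relations between finitely many sections. -/
def relSub (F : ModF 𝔛 h) {V : (𝔛.X 0).Opens} {ι : Type u} [Fintype ι] (y : ι → FS F V)
    (W : (𝔛.X 0).Opens) (i : W ≤ V) : Submodule (FBlow13.Sec 𝔛 h W) (ι → FBlow13.Sec 𝔛 h W) :=
  LinearMap.ker (Fintype.linearCombination (FBlow13.Sec 𝔛 h W) fun t => fres F i (y t))

theorem mem_relSub (F : ModF 𝔛 h) {V : (𝔛.X 0).Opens} {ι : Type u} [Fintype ι] (y : ι → FS F V)
    {W : (𝔛.X 0).Opens} (i : W ≤ V) (c : ι → FBlow13.Sec 𝔛 h W) :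
    c ∈ relSub F y W i ↔ ∑ t, c t • fres F i (y t) = 0 := by
  rw [relSub, LinearMap.mem_ker, Fintype.linearCombination_apply]

theorem vecRes_relSub (h𝔛 : 𝔛.IsLocNoethFormal) (F : ModF 𝔛 h𝔛.1) {V : (𝔛.X 0).Opens} {ι : Type u} [Fintype ι]
    (y : ι → FS F V) : VecRes h𝔛 (relSub F y) := by
  intro W i W' j c hc
  rw [mem_relSub] at hc ⊢
  refine Eq.trans ?_ ((congrArg (fres F j) hc).trans (fres_zero F j))
  rw [fres_sum]
  exact Finset.sum_congr rfl fun t _ => ((fres_smul F j _ _).trans (congrArg (_ • ·) (fres_fres F i j _))).symm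

theorem loc_relSub (F : ModF 𝔛 h) {V : (𝔛.X 0).Opens} {ι : Type u} [Fintype ι]
    (y : ι → FS F V) (c : ι → FBlow13.Sec 𝔛 h V)
    (hc : ∀ x ∈ V, ∃ (W : (𝔛.X 0).Opens) (i : W ≤ V), x ∈ W ∧ vres h i c ∈ relSub F y W i) :
    c ∈ relSub F y V le_rfl := by
  rw [mem_relSub]
  refine fs_eq_zero F _ fun z hz => ?_
  obtain ⟨W, i, hzW, e⟩ := hc z hz
  rw [mem_relSub] at e
  refine ⟨W, i, hzW, Eq.trans ?_ e⟩
  rw [fres_sum]
  exact Finset.sum_congr rfl fun t _ => (fres_smul F i _ _).trans (congrArg (_ • ·) (fres_fres F le_rfl i _))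

/-- Every section is locally a combination of sections over `V`. -/
def GenBy (F : ModF 𝔛 h) (V : (𝔛.X 0).Opens) : Prop :=
  ∀ (W : (𝔛.X 0).Opens) (i : W ≤ V) (x : FS F W), ∀ z ∈ W, ∃ (W' : (𝔛.X 0).Opens) (j : W' ≤ W), z ∈ W' ∧
    fres F j x ∈ Submodule.span (FBlow13.Sec 𝔛 h W') (Set.range fun a : FS F V => fres F (j.trans i) a)

variable (h𝔛 : 𝔛.IsLocNoethFormal)

/-- A module generated by its sections over `V` with relations locally of finite type. -/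
def QcAt (F : ModF 𝔛 h𝔛.1) (V : (𝔛.X 0).Opens) : Prop :=
  IsAffineOpen V ∧ GenBy F V ∧
    ∀ (ι : Type u) (_ : Fintype ι) (y : ι → FS F V), VecFT h𝔛 (relSub F y)

variable {h𝔛} {F : ModF 𝔛 h𝔛.1} {V : (𝔛.X 0).Opens}

theorem mem_span_of_local (hW : IsAffineOpen V) {ι κ : Type u} [Fintype ι] [Finite κ]
    (r : κ → ι → FBlow13.Sec 𝔛 h𝔛.1 V) (c : ι → FBlow13.Sec 𝔛 h𝔛.1 V)
    (hc : ∀ z ∈ V, ∃ (W : (𝔛.X 0).Opens) (i : W ≤ V), z ∈ W ∧
      vres h𝔛.1 i c ∈ Submodule.span (FBlow13.Sec 𝔛 h𝔛.1 W) (Set.range fun t => vres h𝔛.1 i (r t))) :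
    c ∈ Submodule.span (FBlow13.Sec 𝔛 h𝔛.1 V) (Set.range r) := by
  refine mem_span_of_levels h𝔛 hW r c fun k => ?_
  refine mem_span_vec_of_near (FBlow13.isAffineOpen_lvU (h := h𝔛.1) hW k) _ _ fun w hw => ?_
  obtain ⟨z, rfl⟩ := 𝔛.toX_surjective h𝔛.1 k w
  obtain ⟨W, i, hzW, hm⟩ := hc z ((FBlow13.toX_preimage_lvU (h := h𝔛.1) k V).le hw)
  refine ⟨_, FBlow.lvU_mono 𝔛 h𝔛.1 k i, (FBlow13.toX_preimage_lvU (h := h𝔛.1) k W).ge hzW, ?_⟩
  have h1 := map_mem_span (FBlow13.proj 𝔛 h𝔛.1 W k).hom hm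
  rw [← Set.range_comp] at h1
  have e1 : (fun l => (FBlow13.proj 𝔛 h𝔛.1 W k).hom (vres h𝔛.1 i c l)) =
      fun l => QC70.resO (𝔛.X k) (FBlow.lvU_mono 𝔛 h𝔛.1 k i) (vproj h𝔛.1 V k c l) :=
    funext fun l => FBlow13.proj_res_apply i k _
  rw [e1] at h1
  refine Submodule.span_mono ?_ h1
  rintro _ ⟨t, rfl⟩
  exact ⟨t, funext fun l => (FBlow13.proj_res_apply i k _).symm⟩

/-- Local generators of relations which are relations make a family of finite type. -/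
theorem vecFT_of_local {ι : Type u} [Fintype ι] (y : ι → FS F V)
    (H : ∀ x ∈ V, ∃ (Vx : (𝔛.X 0).Opens) (hx : Vx ≤ V), IsAffineOpen Vx ∧ x ∈ Vx ∧
      ∀ (W : (𝔛.X 0).Opens) (j : W ≤ Vx) (c : ι → FBlow13.Sec 𝔛 h𝔛.1 W), c ∈ relSub F y W (j.trans hx) →
        ∀ z ∈ W, ∃ (W' : (𝔛.X 0).Opens) (j' : W' ≤ W), z ∈ W' ∧ vres h𝔛.1 j' c ∈
          Submodule.span (FBlow13.Sec 𝔛 h𝔛.1 W') (vres h𝔛.1 (j'.trans j) '' (relSub F y Vx hx : Set _))) :
    VecFT h𝔛 (relSub F y) := by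
  intro x hxV
  obtain ⟨Vx, hx, hVx, hxVx, H⟩ := H x hxV
  obtain ⟨hN, -, -⟩ := secRing h𝔛 hVx
  have := hN
  obtain ⟨p, r₀, hr₀⟩ := exists_fin_generators (relSub F y Vx hx)
  refine ⟨Vx, hx, hVx, hxVx, ULift.{u} (Fin p), inferInstance, fun s => r₀ s.down, fun W j hW => le_antisymm ?_ ?_⟩
  · intro c hc
    refine mem_span_of_local (h𝔛 := h𝔛) hW _ c fun z hz => ?_
    obtain ⟨W', j', hzW', hm⟩ := H W j c hc z hz
    refine ⟨W', j', hzW', Submodule.span_le.2 ?_ hm⟩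
    rintro _ ⟨d, hd, rfl⟩
    have h1 := map_mem_span (FBlow13.res 𝔛 h𝔛.1 (j'.trans j)).hom (hr₀.ge hd)
    rw [← Set.range_comp] at h1
    refine Submodule.span_mono ?_ h1
    rintro _ ⟨s, rfl⟩
    exact ⟨⟨s⟩, vres_vres h𝔛.1 j j' _⟩
  · rw [Submodule.span_le]
    rintro _ ⟨s, rfl⟩
    exact vecRes_relSub h𝔛 F y Vx hx W j _ (hr₀.le (Submodule.subset_span ⟨s.down, rfl⟩))

/-- The relations are generated by the relations over `V`. -/
theorem QcAt.rel (hF : QcAt h𝔛 F V) {ι : Type u} [Fintype ι] (y : ι → FS F V) :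
    ∃ (κ : Type u) (_ : Fintype κ) (r : κ → ι → FBlow13.Sec 𝔛 h𝔛.1 V),
      (∀ s, ∑ t, r s t • y t = 0) ∧
      ∀ (W : (𝔛.X 0).Opens) (i : W ≤ V), IsAffineOpen W → ∀ c : ι → FBlow13.Sec 𝔛 h𝔛.1 W,
        ∑ t, c t • fres F i (y t) = 0 →
          c ∈ Submodule.span (FBlow13.Sec 𝔛 h𝔛.1 W) (Set.range fun s => vres h𝔛.1 i (r s)) := by
  obtain ⟨κ, hκ, r, hr, hgen⟩ := span_vres_eq h𝔛 hF.1 (relSub F y) (vecRes_relSub h𝔛 F y)
    (hF.2.2 ι inferInstance y) (loc_relSub F y)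
  refine ⟨κ, hκ, r, fun s => ?_, fun W i hW c hc => hgen W i hW c ((mem_relSub F y i c).2 hc)⟩
  have h1 := (mem_relSub F y le_rfl (r s)).1 (hr s)
  simpa only [fres_self] using h1

/-- Every section over an affine open inside `V` is a combination of sections over `V`. -/
theorem QcAt.mem_span (hF : QcAt h𝔛 F V) (x : FS F V) (s : Finset (FS F V))
    (hs : ∀ z ∈ V, ∃ (W : (𝔛.X 0).Opens) (i : W ≤ V), z ∈ W ∧
      fres F i x ∈ Submodule.span (FBlow13.Sec 𝔛 h𝔛.1 W) (Set.range fun a : s => fres F i a.1)) :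
    x ∈ Submodule.span (FBlow13.Sec 𝔛 h𝔛.1 V) (s : Set (FS F V)) := by
  classical
  obtain ⟨hN, hC, hp⟩ := secRing h𝔛 hF.1
  let y : Option s → FS F V := fun o => o.elim x Subtype.val
  obtain ⟨κ, hκ, r, hr, hgen⟩ := hF.rel y
  let μ : κ → FBlow13.Sec 𝔛 h𝔛.1 V := fun k => r k none
  suffices hI : Ideal.span (Set.range μ) = ⊤ by
    obtain ⟨lam, hlam⟩ := (Submodule.mem_span_range_iff_exists_fun _).1
      (hI.ge (Submodule.mem_top (x := (1 : FBlow13.Sec 𝔛 h𝔛.1 V))))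
    have h0 : ∑ k, lam k • (∑ t, r k t • y t) = 0 :=
      Finset.sum_eq_zero fun k _ => by rw [hr k, smul_zero]
    simp only [Fintype.sum_option, smul_add, Finset.sum_add_distrib, smul_smul, Finset.smul_sum] at h0
    have h1 : ∑ k, (lam k * r k none) • y none = x := by
      rw [← Finset.sum_smul]
      refine (congrArg (· • x) ?_).trans (one_smul _ x)
      exact hlam
    rw [h1, add_eq_zero_iff_eq_neg] at h0
    rw [h0]
    refine Submodule.neg_mem _ (Submodule.sum_mem _ fun k _ => Submodule.sum_mem _ fun t _ =>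
      Submodule.smul_mem _ _ (Submodule.subset_span t.2))
  have := hN
  have := hC
  refine eq_top_of_sup_smul_eq_top (I := secIdeal 𝔛 h𝔛.1 V) _ (eq_top_iff.2 fun a _ => ?_)
  suffices h1 : (1 : FBlow13.Sec 𝔛 h𝔛.1 V) ∈ Ideal.span (Set.range μ) ⊔ secIdeal 𝔛 h𝔛.1 V by
    rw [show secIdeal 𝔛 h𝔛.1 V • (⊤ : Ideal (FBlow13.Sec 𝔛 h𝔛.1 V)) = secIdeal 𝔛 h𝔛.1 V from
      (smul_eq_mul _ _).trans (Ideal.mul_top _)]
    exact ((Ideal.eq_top_iff_one _).2 h1).ge trivial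
  have h2 : FBlow13.proj 𝔛 h𝔛.1 V 0 1 ∈ (Ideal.span (Set.range μ)).map (FBlow13.proj 𝔛 h𝔛.1 V 0).hom := by
    rw [Ideal.map_span, ← Set.range_comp]
    refine mem_of_local_smul (FBlow13.isAffineOpen_lvU (h := h𝔛.1) hF.1 0) _ _ fun w hw => ?_
    have hw' : w ∈ V := (FBlow13.lvU_zero (h := h𝔛.1) V).le hw
    obtain ⟨W, i, hwW, hm⟩ := hs w hw'
    obtain ⟨e, he⟩ := (Submodule.mem_span_range_iff_exists_fun _).1 hm
    obtain ⟨g, hgW, hwg⟩ := exists_basicOpen_affine (FBlow13.isAffineOpen_lvU (h := h𝔛.1) hF.1 0) hw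
      ((FBlow13.lvU_zero (h := h𝔛.1) W).ge hwW)
    let D := downU 0 ((𝔛.X 0).basicOpen g)
    have hD : IsAffineOpen D :=
      isAffineOpen_downU h𝔛.1 ((FBlow13.isAffineOpen_lvU (h := h𝔛.1) hF.1 0).basicOpen g)
    have hDW : D ≤ W := downU_le h𝔛.1 hgW
    let c : Option s → FBlow13.Sec 𝔛 h𝔛.1 D := fun o => o.elim (-1) fun a => FBlow13.res 𝔛 h𝔛.1 hDW (e a)
    have hc : ∑ t, c t • fres F (hDW.trans i) (y t) = 0 := by
      have h3 := congrArg (fres F hDW) he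
      rw [fres_sum, fres_fres] at h3
      simp only [fres_smul, fres_fres] at h3
      rw [Fintype.sum_option]
      change (-1 : FBlow13.Sec 𝔛 h𝔛.1 D) • fres F _ x + _ = 0
      rw [neg_one_smul, neg_add_eq_zero]
      exact h3.symm
    obtain ⟨d, hd⟩ := (Submodule.mem_span_range_iff_exists_fun _).1 (hgen D (hDW.trans i) hD c hc)
    have h4 := congrArg (FBlow13.proj 𝔛 h𝔛.1 D 0) (congrFun hd none)
    simp only [Finset.sum_apply, Pi.smul_apply, smul_eq_mul, map_sum, map_mul, vres, FBlow13.proj_res_apply,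
      c, Option.elim_none, map_neg, map_one] at h4
    have hDeq : (𝔛.X 0).basicOpen g ≤ 𝔛.lvU h𝔛.1 0 D := (lvU_downU h𝔛.1 0 _).ge
    have h5 : QC70.resO (𝔛.X 0) ((𝔛.X 0).basicOpen_le g) (-1) ∈
        Ideal.span (Set.range fun k => QC70.resO (𝔛.X 0) ((𝔛.X 0).basicOpen_le g) (FBlow13.proj 𝔛 h𝔛.1 V 0 (μ k))) := by
      rw [show QC70.resO (𝔛.X 0) ((𝔛.X 0).basicOpen_le g) (-1) = rhO (𝔛.X 0) hDeq (-1) from by
        simp [QC70.resO], ← h4, map_sum]
      refine Submodule.sum_mem _ fun k _ => ?_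
      rw [map_mul]
      refine Ideal.mul_mem_left _ _ (Ideal.subset_span ⟨k, ?_⟩)
      exact (QC70.resO_resO _ _ _).symm
    obtain ⟨M, hM⟩ := exists_pow_smul_mem_span (FBlow13.isAffineOpen_lvU (h := h𝔛.1) hF.1 0) g (ι := PUnit.{1})
      (fun k _ => FBlow13.proj 𝔛 h𝔛.1 V 0 (μ k)) (fun _ => 1) (by
        obtain ⟨f, hf⟩ := (Submodule.mem_span_range_iff_exists_fun _).1 h5
        refine (Submodule.mem_span_range_iff_exists_fun _).2 ⟨fun k => -(f k), funext fun _ => ?_⟩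
        have h6 := congrArg Neg.neg hf
        simp only [smul_eq_mul, QC70.resO, map_neg, map_one, neg_neg, ← Finset.sum_neg_distrib] at h6
        simpa [Finset.sum_apply, QC70.resO] using h6)
    obtain ⟨f, hf⟩ := (Submodule.mem_span_range_iff_exists_fun _).1 hM
    refine ⟨g ^ (M + 1), by rw [(𝔛.X 0).basicOpen_pow g (n := M + 1) M.succ_pos]; exact hwg, ?_⟩
    have h7 := congrFun hf PUnit.unit
    simp only [Finset.sum_apply, Pi.smul_apply, smul_eq_mul, mul_one] at h7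
    rw [map_one, smul_eq_mul, mul_one, pow_succ']
    refine Ideal.mul_mem_left _ _ (h7 ▸ Submodule.sum_mem _ fun k _ => Ideal.mul_mem_left _ _
      (Ideal.subset_span ⟨k, rfl⟩))
  obtain ⟨b, hb, hb'⟩ := (Ideal.mem_map_iff_of_surjective _ (hp 0).1).1 h2
  refine Submodule.mem_sup.2 ⟨b, hb, 1 - b, ?_, add_sub_cancel _ _⟩
  rw [RingHom.mem_ker, map_sub, sub_eq_zero]
  exact hb'.symm

end Groth.Agent.FCompl13
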