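import Groth.Agent.FCompl13.QcCoh
import Mathlib.CategoryTheory.Limits.Constructions.Filtered
import Mathlib.CategoryTheory.Limits.Shapes.Biproducts

/-!
Sums and colimits of modules generated over affine opens.
-/

set_option autoImplicit false
set_option backward.isDefEq.respectTransparency false
set_option linter.style.haveILetI false

noncomputable section

universe u

open CategoryTheory CategoryTheory.Limits AlgebraicGeometry TopologicalSpace Opposite

namespace Groth.Agent.FCompl13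

open _root_.FSch
open SiteMod (ap)

variable {𝔛 : Sys.{u}} {h𝔛 : 𝔛.IsLocNoethFormal} {V : (𝔛.X 0).Opens}

theorem QcAt.of_iso {F G : ModF 𝔛 h𝔛.1} (e : F ≅ G) (hF : QcAt h𝔛 F V) : QcAt h𝔛 G V :=
  QcAt.of_mono e.inv hF (GenBy.of_epi e.hom hF.2.1)

/-- Relations common to finitely many modules. -/
theorem exists_common_rel {α : Type*} (A : α → ModF 𝔛 h𝔛.1)
    (hA : ∀ k, QcAt h𝔛 (A k) V) {q : Type u} [Fintype q] (y : ∀ k, q → FS (A k) V) (S : Finset α) :
    ∃ (κ : Type u) (_ : Fintype κ) (r : κ → q → FBlow13.Sec 𝔛 h𝔛.1 V),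
      (∀ k ∈ S, ∀ s, ∑ t, r s t • y k t = 0) ∧
      ∀ (W : (𝔛.X 0).Opens) (i : W ≤ V), IsAffineOpen W → ∀ c : q → FBlow13.Sec 𝔛 h𝔛.1 W,
        (∀ k ∈ S, ∑ t, c t • fres (A k) i (y k t) = 0) →
          c ∈ Submodule.span (FBlow13.Sec 𝔛 h𝔛.1 W) (Set.range fun s => vres h𝔛.1 i (r s)) := by
  classical
  induction S using Finset.induction_on with
  | empty =>
    refine ⟨q, inferInstance, fun s t => if s = t then 1 else 0, fun k hk => absurd hk (Finset.notMem_empty k),
      fun W i _ c _ => (Submodule.mem_span_range_iff_exists_fun _).2 ⟨c, funext fun t => ?_⟩⟩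
    simp only [Finset.sum_apply, Pi.smul_apply, smul_eq_mul, vres, apply_ite (FBlow13.res 𝔛 h𝔛.1 i),
      map_one, map_zero, mul_ite, mul_one, mul_zero, Finset.sum_ite_eq', Finset.mem_univ, if_true]
  | insert k₀ S hk₀ ih =>
    obtain ⟨κ, _, r, hr, hgen⟩ := ih
    obtain ⟨κ', _, r', hr', hgen'⟩ := (hA k₀).rel fun s => ∑ t, r s t • y k₀ t
    refine ⟨κ', inferInstance, fun s' t => ∑ s, r' s' s * r s t, fun k hk s' => ?_, fun W i hW c hc => ?_⟩
    · have e : ∑ t, (∑ s, r' s' s * r s t) • y k t = ∑ s, r' s' s • ∑ t, r s t • y k t := by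
        simp only [Finset.sum_smul, Finset.smul_sum, mul_smul]
        exact Finset.sum_comm
      rw [e]
      rcases Finset.mem_insert.1 hk with rfl | hk
      · exact hr' s'
      · exact Finset.sum_eq_zero fun s _ => by rw [hr k hk s, smul_zero]
    · obtain ⟨d, hd⟩ := (Submodule.mem_span_range_iff_exists_fun _).1
        (hgen W i hW c fun k hk => hc k (Finset.mem_insert_of_mem hk))
      have hd' : ∀ t, c t = ∑ s, d s * FBlow13.res 𝔛 h𝔛.1 i (r s t) := fun t => by
        have h1 := congrFun hd t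
        simp only [Finset.sum_apply, Pi.smul_apply, smul_eq_mul, vres] at h1
        exact h1.symm
      have h0 : ∑ s, d s • fres (A k₀) i (∑ t, r s t • y k₀ t) = 0 := by
        refine Eq.trans ?_ (hc k₀ (Finset.mem_insert_self k₀ S))
        simp only [fres_sum, fres_smul, Finset.smul_sum, hd', Finset.sum_smul, mul_smul]
        exact Finset.sum_comm
      obtain ⟨e, he⟩ := (Submodule.mem_span_range_iff_exists_fun _).1 (hgen' W i hW d h0)
      refine (Submodule.mem_span_range_iff_exists_fun _).2 ⟨e, funext fun t => ?_⟩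
      have he' : ∀ s, d s = ∑ s', e s' * FBlow13.res 𝔛 h𝔛.1 i (r' s' s) := fun s => by
        have h1 := congrFun he s
        simp only [Finset.sum_apply, Pi.smul_apply, smul_eq_mul, vres] at h1
        exact h1.symm
      simp only [Finset.sum_apply, Pi.smul_apply, smul_eq_mul, vres, map_sum, map_mul, hd', he',
        Finset.mul_sum, Finset.sum_mul, mul_assoc]
      exact Finset.sum_comm

theorem ap_sum_hom {F G : ModF 𝔛 h𝔛.1} {α : Type*} (S : Finset α) (φ : α → (F ⟶ G))
    {W : (𝔛.X 0).Opens} (x : FS F W) : ap (∑ k ∈ S, φ k) x = ∑ k ∈ S, ap (φ k) x :=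
  map_sum (AddMonoidHom.mk' (fun ψ : F ⟶ G => ap ψ x) fun _ _ => rfl) φ S

/-- Finite sums. -/
theorem qcAt_of_total {α : Type} [Fintype α] (A : α → ModF 𝔛 h𝔛.1) {K : ModF 𝔛 h𝔛.1} (π : ∀ k, K ⟶ A k)
    (ι : ∀ k, A k ⟶ K) (tot : ∑ k, π k ≫ ι k = 𝟙 K)
    (hV : IsAffineOpen V) (hA : ∀ k, QcAt h𝔛 (A k) V) : QcAt h𝔛 K V := by
  classical
  have htot : ∀ {W : (𝔛.X 0).Opens} (x : FS K W), x = ∑ k, ap (ι k) (ap (π k) x) := fun {W} x => by
    have h1 := ap_sum_hom (h𝔛 := h𝔛) Finset.univ (fun k => π k ≫ ι k) x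
    rw [tot] at h1
    exact h1
  refine ⟨hV, fun W i x z hz => ?_, fun q _ y => vecFT_of_local y fun x hx => ?_⟩
  · obtain ⟨W', j, -, hzW', hm⟩ := exists_common_affine hz
      (P := fun k U i' => fres (A k) i' (ap (π k) x) ∈
        Submodule.span (FBlow13.Sec 𝔛 h𝔛.1 U) (Set.range fun a : FS (A k) V => fres (A k) (i'.trans i) a))
      (fun k U i' U' j hm => by
        have h1 := fres_mem_span_range (A k) j hm
        simp only [fres_fres] at h1
        exact h1)
      (fun k => (hA k).2.1 W i _ z hz)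
    refine ⟨W', j, hzW', ?_⟩
    rw [htot (fres K j x)]
    refine Submodule.sum_mem _ fun k _ => ?_
    obtain ⟨S, d, hd⟩ := fres_mem_span_finset _ (hm k)
    rw [← fres_ap, hd, ap_fres_lincomb]
    exact Submodule.sum_mem _ fun a _ => Submodule.smul_mem _ _ (Submodule.subset_span ⟨_, rfl⟩)
  obtain ⟨κ, _, r, hr, hgen⟩ := exists_common_rel A hA (fun k t => ap (π k) (y t)) Finset.univ
  refine ⟨V, le_rfl, hV, hx, fun W j c hc z hz => ?_⟩
  obtain ⟨W', hW', hzW', hW'W⟩ := exists_isAffineOpen_mem_and_subset hz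
  have j' : W' ≤ W := hW'W
  have hc' := vecRes_relSub h𝔛 K y W (j.trans le_rfl) W' j' c hc
  rw [mem_relSub] at hc'
  refine ⟨W', j', hzW', Submodule.span_mono ?_ (hgen W' (j'.trans j) hW' _ fun k _ => ?_)⟩
  · rintro _ ⟨s, rfl⟩
    refine ⟨r s, ?_, rfl⟩
    rw [SetLike.mem_coe, mem_relSub]
    simp only [fres_self]
    refine (htot _).trans (Finset.sum_eq_zero fun k _ => ?_)
    rw [SiteMod.ap_lincomb, hr k (Finset.mem_univ k) s]
    exact map_zero _
  · rw [← ap_fres_lincomb, hc']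
    exact map_zero _

theorem qcAt_biproduct {α : Type} [Finite α] (A : α → ModF 𝔛 h𝔛.1) [HasBiproduct A]
    (hV : IsAffineOpen V) (hA : ∀ k, QcAt h𝔛 (A k) V) : QcAt h𝔛 (⨁ A) V :=
  have := Fintype.ofFinite α
  qcAt_of_total A (biproduct.π A) (biproduct.ι A) biproduct.total hV hA

/-- Arbitrary sums. -/
theorem qcAt_coproduct {α : Type u} (f : α → ModF 𝔛 h𝔛.1) (hV : IsAffineOpen V)
    (hf : ∀ a, QcAt h𝔛 (f a) V) : QcAt h𝔛 (∐ f) V := by
  classical
  refine qcAt_filtered_colimit (CoproductsFromFiniteFiltered.isColimitFiniteSubproductsCocone f) hV fun S => ?_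
  haveI : HasFiniteBiproducts (ModF 𝔛 h𝔛.1) := HasFiniteBiproducts.of_hasFiniteCoproducts
  obtain ⟨n, ⟨e⟩⟩ := Finite.exists_equiv_fin {x : Discrete α // x ∈ S}
  refine QcAt.of_iso ((biproduct.isoCoproduct fun k : Fin n => f (e.symm k).1.as) ≪≫
    Sigma.whiskerEquiv (f := fun k : Fin n => f (e.symm k).1.as)
      (g := fun x : {x : Discrete α // x ∈ S} => f x.1.as) e.symm fun k => Iso.refl _) ?_
  exact qcAt_biproduct _ hV fun k => hf _

/-- Colimits. -/
theorem qcAt_colimit {J : Type u} [SmallCategory J] {D : J ⥤ ModF 𝔛 h𝔛.1} {c : Cocone D} (hc : IsColimit c)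
    (hV : IsAffineOpen V) (hD : ∀ j, QcAt h𝔛 (D.obj j) V) : QcAt h𝔛 c.pt V := by
  let A : (Σ p : J × J, p.1 ⟶ p.2) → ModF 𝔛 h𝔛.1 := fun f => D.obj f.1.1
  let φ : ∐ A ⟶ ∐ D.obj :=
    Sigma.desc fun f => D.map f.2 ≫ Sigma.ι D.obj f.1.2 - Sigma.ι D.obj f.1.1
  let π : ∐ D.obj ⟶ c.pt := Sigma.desc fun j => c.ι.app j
  have hπ : φ ≫ π = 0 := by
    refine Limits.Sigma.hom_ext _ _ fun f => ?_
    simp only [φ, π, Sigma.ι_desc_assoc, Preadditive.sub_comp, Category.assoc, Sigma.ι_desc, comp_zero]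
    exact sub_eq_zero.2 (c.w f.2)
  let s : Cocone D :=
    { pt := cokernel φ
      ι := { app := fun j => Sigma.ι D.obj j ≫ cokernel.π φ
             naturality := fun i j f => by
               have h1 := congrArg (fun ψ => Sigma.ι A ⟨(i, j), f⟩ ≫ ψ) (cokernel.condition φ)
               simp only [φ, Sigma.ι_desc_assoc, Preadditive.sub_comp, Category.assoc, comp_zero,
                 sub_eq_zero] at h1
               exact h1.trans (Category.comp_id _).symm } }
  have e1 : cokernel.desc φ π hπ ≫ hc.desc s = 𝟙 _ := by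
    refine coequalizer.hom_ext (Limits.Sigma.hom_ext _ _ fun j => ?_)
    simp only [Category.comp_id]
    rw [cokernel.π_desc_assoc, Sigma.ι_desc_assoc, hc.fac]
  have e2 : hc.desc s ≫ cokernel.desc φ π hπ = 𝟙 _ := hc.hom_ext fun j => by
    rw [hc.fac_assoc, Category.comp_id]
    change (Sigma.ι D.obj j ≫ cokernel.π φ) ≫ _ = _
    rw [Category.assoc, cokernel.π_desc, Sigma.ι_desc]
  exact QcAt.of_iso ⟨cokernel.desc φ π hπ, hc.desc s, e1, e2⟩
    (QcAt.cokernel φ (qcAt_coproduct A hV fun f => hD _).2.1 (qcAt_coproduct D.obj hV hD))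

end Groth.Agent.FCompl13
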