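import Groth.Agent.FCompl13.ModPres
import Groth.Agent.FCompl13.IdealGen
import Groth.Agent.QC70.FiniteType
import Groth.Agent.SiteMod.FreeTop
import Groth.Agent.SiteMod.FinType
import Groth.Agent.FBlow13.Restrict
import Mathlib.RingTheory.Filtration

/-!
Relations between sections of `O_𝔛` over an affine open restrict to generators of relations; finite
type of kernels of maps to `O_𝔛`.
-/

set_option autoImplicit false
set_option backward.isDefEq.respectTransparency false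
set_option linter.style.haveILetI false

noncomputable section

universe u

open CategoryTheory CategoryTheory.Limits AlgebraicGeometry TopologicalSpace Opposite

namespace Groth.Agent.FCompl13

open _root_.FSch
open SiteMod (ap toU ofU)

section Site

variable {X : TopCat.{u}} {O : Sheaf (Opens.grothendieckTopology X) CommRingCat.{u}}

theorem genAt_kernel {G F : ModSite.Mod O} (φ : G ⟶ F) {U : Opens X} {κ : Type u} [Fintype κ]
    (b : κ → (Mod48.pre G).obj (op U)) (hb : ∀ s, ap φ (b s) = 0)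
    (h : ∀ (W : Opens X) (g : W ⟶ U) (x : (Mod48.pre G).obj (op W)), ap φ x = 0 →
      ∃ S ∈ Opens.grothendieckTopology X W, ∀ ⦃V : Opens X⦄ (v : V ⟶ W), S v →
        ∃ c : κ → O.obj.obj (op V), Mod48.res (Mod48.pre G) v.op x =
          ∑ s, c s • Mod48.res (Mod48.pre G) (v ≫ g).op (b s)) :
    ∃ (ι : Type u) (_ : Fintype ι) (a : ι → (Mod48.pre (kernel φ)).obj (op U)),
      SiteMod.GenAt (Mod48.pre (kernel φ)) U a := by
  choose a ha using fun s => SiteMod.exists_of_ap_kernel φ (hb s)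
  refine ⟨κ, inferInstance, a, fun W g y => ?_⟩
  obtain ⟨S, hS, hc⟩ := h W g (ap (kernel.ι φ) y)
    ((SiteMod.ap_comp _ _ _).symm.trans (congrArg (fun ψ => ap ψ y) (kernel.condition φ)))
  refine ⟨S, hS, fun V v hv => ?_⟩
  obtain ⟨c, hc⟩ := hc v hv
  refine ⟨c, PresheafOfModules.injective_of_mono (Mod48.fgt.map (kernel.ι φ)) (op V) ?_⟩
  change ap (kernel.ι φ) _ = ap (kernel.ι φ) _
  rw [← SiteMod.res_ap, hc, SiteMod.ap_lincomb]
  exact Finset.sum_congr rfl fun s _ => congrArg (c s • ·) (by rw [← SiteMod.res_ap, ha])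

end Site

variable {𝔛 : Sys.{u}} (h𝔛 : 𝔛.IsLocNoethFormal)

/-- Relations between sections over an affine open restrict to generators of relations. -/
theorem mem_span_rel_sec {U V : (𝔛.X 0).Opens} (hU : IsAffineOpen U) (hV : IsAffineOpen V)
    (i : V ≤ U) {q κ : Type u} [Fintype q] [Finite κ] (a : q → FBlow13.Sec 𝔛 h𝔛.1 U)
    (r : κ → q → FBlow13.Sec 𝔛 h𝔛.1 U)
    (hr : ∀ c : q → FBlow13.Sec 𝔛 h𝔛.1 U, ∑ t, c t * a t = 0 →
      c ∈ Submodule.span (FBlow13.Sec 𝔛 h𝔛.1 U) (Set.range r))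
    (c : q → FBlow13.Sec 𝔛 h𝔛.1 V) (hc : ∑ t, c t * FBlow13.res 𝔛 h𝔛.1 i (a t) = 0) :
    c ∈ Submodule.span (FBlow13.Sec 𝔛 h𝔛.1 V)
      (Set.range fun s t => FBlow13.res 𝔛 h𝔛.1 i (r s t)) := by
  classical
  have := Fintype.ofFinite κ
  obtain ⟨hNU, -, hpU⟩ := secRing h𝔛 hU
  obtain ⟨hNV, hCV, hpV⟩ := secRing h𝔛 hV
  have := hNU
  have := hNV
  have := hCV
  let A := FBlow13.Sec 𝔛 h𝔛.1 U
  let B := FBlow13.Sec 𝔛 h𝔛.1 V
  let J := secIdeal 𝔛 h𝔛.1 U
  let I : Submodule A A := Submodule.span A (Set.range a)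
  let ρ : (q → A) → (q → B) := fun x t => FBlow13.res 𝔛 h𝔛.1 i (x t)
  obtain ⟨k, hk⟩ := J.exists_pow_inf_eq_pow_smul I
  refine mem_of_forall_mem_sup (I := secIdeal 𝔛 h𝔛.1 V) _ _ fun n => ?_
  set N' := Submodule.span B (Set.range fun s t => FBlow13.res 𝔛 h𝔛.1 i (r s t)) with hN'
  set JV := secIdeal 𝔛 h𝔛.1 V
  let m := n + k
  let Nn : Submodule A (q → A) := Submodule.span A (Set.range r) ⊔ J ^ n • ⊤
  -- relations at level `m` over `U` come from `Nn`
  obtain ⟨p, g, hg⟩ := Submodule.fg_iff_exists_fin_generating_family.1 (IsNoetherian.noetherian Nn)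
  have hrel : ∀ b : q → Γ(𝔛.X m, 𝔛.lvU h𝔛.1 m U),
      ∑ t, b t • (show Γ(QC70.unitMod (𝔛.X m), 𝔛.lvU h𝔛.1 m U) from FBlow13.proj 𝔛 h𝔛.1 U m (a t)) = 0 →
      b ∈ Submodule.span Γ(𝔛.X m, 𝔛.lvU h𝔛.1 m U)
        (Set.range fun s t => FBlow13.proj 𝔛 h𝔛.1 U m (g s t)) := by
    intro b hb
    choose β hβ using fun t => (hpU m).1 (b t)
    have h0 : ∑ t, β t * a t ∈ J ^ (m + 1) := by
      rw [← (hpU m).2, RingHom.mem_ker, map_sum]
      refine Eq.trans (Finset.sum_congr rfl fun t _ => ?_) hb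
      rw [map_mul, hβ]
      rfl
    have h1 : ∑ t, β t * a t ∈ J ^ n • I := by
      have h2 : ∑ t, β t * a t ∈ J ^ (m + 1) • (⊤ : Submodule A A) ⊓ I :=
        ⟨by rw [smul_eq_mul, Ideal.mul_top]; exact h0, Submodule.sum_mem _ fun t _ =>
          Submodule.smul_mem I (β t) (Submodule.subset_span ⟨t, rfl⟩)⟩
      rw [hk (m + 1) (Nat.le_add_left k n |>.trans (Nat.le_succ _))] at h2
      exact Submodule.smul_mono (Ideal.pow_le_pow_right (by omega)) inf_le_right h2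
    obtain ⟨e, he, hsum⟩ := (Submodule.mem_ideal_smul_span_iff_exists_sum _ _ _).1 h1
    rw [Finsupp.sum_fintype] at hsum
    swap
    · exact fun t => zero_smul A (a t)
    have hmem : β ∈ Nn := by
      refine Submodule.mem_sup.2 ⟨fun t => β t - e t, hr _ ?_, fun t => e t,
        mem_pow_smul_pi _ _ he, funext fun t => sub_add_cancel _ _⟩
      simp only [smul_eq_mul] at hsum
      simp only [sub_mul, Finset.sum_sub_distrib, hsum, sub_self]
    obtain ⟨w, hw⟩ := (Submodule.mem_span_range_iff_exists_fun _).1 (hg.ge hmem)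
    refine (Submodule.mem_span_range_iff_exists_fun _).2
      ⟨fun s => FBlow13.proj 𝔛 h𝔛.1 U m (w s), ?_⟩
    funext t
    have ht := congrArg (FBlow13.proj 𝔛 h𝔛.1 U m) (congrFun hw t)
    simp only [Finset.sum_apply, Pi.smul_apply, smul_eq_mul, map_sum, map_mul, hβ] at ht ⊢
    exact ht
  have hcm : ∑ t, FBlow13.proj 𝔛 h𝔛.1 V m (c t) • QC70.res (QC70.unitMod (𝔛.X m))
      (FBlow.lvU_mono 𝔛 h𝔛.1 m i)
      (show Γ(QC70.unitMod (𝔛.X m), 𝔛.lvU h𝔛.1 m U) from FBlow13.proj 𝔛 h𝔛.1 U m (a t)) = 0 := by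
    refine Eq.trans (Finset.sum_congr rfl fun t _ => ?_)
      ((map_sum (FBlow13.proj 𝔛 h𝔛.1 V m).hom _ _).symm.trans
        ((congrArg (FBlow13.proj 𝔛 h𝔛.1 V m) hc).trans (map_zero _)))
    rw [map_mul, FBlow13.proj_res_apply]
    rfl
  obtain ⟨d, hd⟩ := (Submodule.mem_span_range_iff_exists_fun _).1
    (mem_span_rel_res (QC70.unitMod (𝔛.X m)) (FBlow13.isAffineOpen_lvU (h := h𝔛.1) hU m)
      (FBlow.lvU_mono 𝔛 h𝔛.1 m i) (FBlow13.isAffineOpen_lvU (h := h𝔛.1) hV m) _ _ hrel _ hcm)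
  choose δ hδ using fun s => (hpV m).1 (d s)
  have hρ : ∀ x ∈ Nn, ρ x ∈ N' ⊔ JV ^ n • ⊤ := by
    intro x hx
    obtain ⟨y, hy, z, hz, rfl⟩ := Submodule.mem_sup.1 hx
    have hy' : ρ y ∈ N' := by
      obtain ⟨w, rfl⟩ := (Submodule.mem_span_range_iff_exists_fun _).1 hy
      rw [show ρ (∑ s, w s • r s) = ∑ s, FBlow13.res 𝔛 h𝔛.1 i (w s) • (fun t => FBlow13.res 𝔛 h𝔛.1 i (r s t))
        from funext fun t => by simp [ρ, Finset.sum_apply]]
      exact Submodule.sum_mem _ fun s _ => Submodule.smul_mem _ _ (Submodule.subset_span ⟨s, rfl⟩)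
    have hz' : ρ z ∈ JV ^ n • (⊤ : Submodule B (q → B)) := by
      refine mem_pow_smul_pi _ _ fun t => ?_
      have hzt : z t ∈ J ^ n := by
        have h3 := Submodule.mem_map_of_mem (f := (LinearMap.proj t : (q → A) →ₗ[A] A)) hz
        rw [Submodule.map_smul''] at h3
        have h4 := Submodule.smul_mono (le_refl (J ^ n)) le_top h3
        rwa [smul_eq_mul, Ideal.mul_top] at h4
      have h5 := Ideal.mem_map_of_mem (FBlow13.res 𝔛 h𝔛.1 i).hom hzt
      rwa [secIdeal_pow_map_res h𝔛 hU hV i] at h5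
    rw [show ρ (y + z) = ρ y + ρ z from funext fun t => map_add (FBlow13.res 𝔛 h𝔛.1 i).hom _ _]
    exact Submodule.add_mem _ (Submodule.mem_sup_left hy') (Submodule.mem_sup_right hz')
  have hmain : ∑ s, δ s • ρ (g s) ∈ N' ⊔ JV ^ n • ⊤ :=
    Submodule.sum_mem _ fun s _ => Submodule.smul_mem _ _ (hρ _ (hg.le (Submodule.subset_span ⟨s, rfl⟩)))
  rw [← sub_add_cancel c (∑ s, δ s • ρ (g s))]
  refine Submodule.add_mem _ (Submodule.mem_sup_right ?_) hmain
  refine Submodule.smul_mono (Ideal.pow_le_pow_right (show n ≤ m + 1 by omega)) le_rfl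
    (mem_pow_smul_pi _ _ fun t => ?_)
  rw [← (hpV m).2, RingHom.mem_ker]
  have ht := congrFun hd t
  simp only [Finset.sum_apply, Pi.smul_apply, smul_eq_mul] at ht
  simp only [Pi.sub_apply, Finset.sum_apply, Pi.smul_apply, smul_eq_mul, map_sub, map_sum, map_mul,
    hδ, ρ, FBlow13.proj_res_apply]
  exact sub_eq_zero.2 ht.symm

include h𝔛 in
theorem isFiniteType_kernel_free_unit (ι : Type u) [Fintype ι]
    (φ : SiteMod.freeM (O := 𝔛.Osh h𝔛.1) ι ⟶ unitF 𝔛 h𝔛.1) : (kernel φ).IsFiniteType := by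
  classical
  refine SiteMod.isFiniteType_of_genAt _ fun X => ⟨_, affineSieve_mem X, fun Y j hY => ?_⟩
  obtain ⟨U, hU, hYU, -⟩ := hY
  have hT : IsTerminal (⊤ : Opens (𝔛.X 0)) := isTerminalTop
  suffices hU' : ∃ (κ : Type u) (_ : Fintype κ) (a : κ → (Mod48.pre (kernel φ)).obj (op U)),
      SiteMod.GenAt (Mod48.pre (kernel φ)) U a by
    obtain ⟨κ, hκ, a, ha⟩ := hU'
    exact ⟨κ, hκ, _, ha.pullback (homOfLE hYU)⟩
  let v : ι → FBlow13.Sec 𝔛 h𝔛.1 ⊤ := fun i => ofU (ap φ (SiteMod.gen₀ (T := (⊤ : Opens (𝔛.X 0))) i))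
  have hφ : ∀ {W : (𝔛.X 0).Opens} (x : (Mod48.pre (SiteMod.freeM (O := 𝔛.Osh h𝔛.1) ι)).obj (op W)),
      ofU (ap φ x) = ∑ i, ofU (ap (SiteMod.coord i) x) * FBlow13.res 𝔛 h𝔛.1 (le_top : W ≤ ⊤) (v i) := by
    intro W x
    have e : φ = SiteMod.freeTo hT (fun i => toU (v i)) := SiteMod.free_hom_ext hT fun i => by
      rw [SiteMod.ap_freeTo_gen₀]
    conv_lhs => rw [e, SiteMod.ap_freeTo]
    rfl
  obtain ⟨hN, -, -⟩ := secRing h𝔛 hU
  have := hN
  let a : ι → FBlow13.Sec 𝔛 h𝔛.1 U := fun i => FBlow13.res 𝔛 h𝔛.1 le_top (v i)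
  obtain ⟨p, r, hr⟩ := Submodule.fg_iff_exists_fin_generating_family.1
    (IsNoetherian.noetherian (LinearMap.ker (Fintype.linearCombination (FBlow13.Sec 𝔛 h𝔛.1 U) a)))
  let r' : ULift.{u} (Fin p) → ι → FBlow13.Sec 𝔛 h𝔛.1 U := fun s => r s.down
  have hr' : ∀ c : ι → FBlow13.Sec 𝔛 h𝔛.1 U, ∑ t, c t * a t = 0 ↔
      c ∈ Submodule.span (FBlow13.Sec 𝔛 h𝔛.1 U) (Set.range r') := fun c => by
    rw [show Set.range r' = Set.range r from
      Set.ext fun x => ⟨fun ⟨t, e⟩ => ⟨t.down, e⟩, fun ⟨t, e⟩ => ⟨⟨t⟩, e⟩⟩, hr,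
      LinearMap.mem_ker, Fintype.linearCombination_apply]
    rfl
  refine genAt_kernel φ (fun s => SiteMod.ofCoord (r' s)) (fun s => ?_) fun W g x hx =>
    ⟨_, affineSieve_mem W, fun V w hw => ?_⟩
  · refine (hφ _).trans (Eq.trans ?_ ((hr' (r' s)).2 (Submodule.subset_span ⟨s, rfl⟩)))
    refine Finset.sum_congr rfl fun i _ => congrArg (· * a i) ?_
    exact SiteMod.ap_coord_ofCoord (r' s) i
  · obtain ⟨V', hV', hVV', hV'W⟩ := hw
    let P := Mod48.pre (SiteMod.freeM (O := 𝔛.Osh h𝔛.1) ι)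
    let x' := Mod48.res P (homOfLE hV'W).op x
    let c : ι → FBlow13.Sec 𝔛 h𝔛.1 V' := fun i => ofU (ap (SiteMod.coord i) x')
    have hV'U : V' ≤ U := hV'W.trans (leOfHom g)
    have hrr : ∀ {A B C : (𝔛.X 0).Opens} (i : B ≤ A) (j : C ≤ B) (s : FBlow13.Sec 𝔛 h𝔛.1 A),
        FBlow13.res 𝔛 h𝔛.1 j (FBlow13.res 𝔛 h𝔛.1 i s) = FBlow13.res 𝔛 h𝔛.1 (j.trans i) s :=
      fun i j s => (SiteMod.rres_rres (O := 𝔛.Osh h𝔛.1) (homOfLE i).op (homOfLE j).op s).trans
        (congrArg (fun z => (𝔛.Osh h𝔛.1).obj.map z s) (Subsingleton.elim _ _))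
    have hc : ∑ i, c i * FBlow13.res 𝔛 h𝔛.1 hV'U (a i) = 0 := by
      refine Eq.trans (Finset.sum_congr rfl fun i _ => congrArg (c i * ·) (hrr _ _ _))
        ((hφ x').symm.trans ?_)
      change ofU (ap φ (Mod48.res P (homOfLE hV'W).op x)) = 0
      rw [← SiteMod.res_ap, hx, SiteMod.res_zero]
    obtain ⟨d, hd⟩ := (Submodule.mem_span_range_iff_exists_fun _).1
      (mem_span_rel_sec h𝔛 hU hV' hV'U a r' (fun e he => (hr' e).1 he) c hc)
    refine ⟨fun s => FBlow13.res 𝔛 h𝔛.1 hVV' (d s), ?_⟩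
    have hx' : x' = ∑ s, d s • Mod48.res P (homOfLE hV'U).op (SiteMod.ofCoord (r' s)) := by
      rw [SiteMod.eq_sum_coord hT x']
      conv_rhs =>
        enter [2, s]
        rw [SiteMod.eq_sum_coord hT (Mod48.res P (homOfLE hV'U).op (SiteMod.ofCoord (r' s))), Finset.smul_sum]
      rw [Finset.sum_comm]
      refine Finset.sum_congr rfl fun i _ => ?_
      simp only [smul_smul]
      rw [← Finset.sum_smul]
      refine congrArg (· • _) ?_
      refine (congrFun hd i).symm.trans ?_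
      rw [Finset.sum_apply]
      refine Finset.sum_congr rfl fun s _ => congrArg (d s * ·) ?_
      rw [← SiteMod.res_ap]
      exact congrArg (FBlow13.res 𝔛 h𝔛.1 hV'U) (SiteMod.ap_coord_ofCoord (r' s) i).symm
    have h1 := congrArg (Mod48.res P (homOfLE hVV').op) hx'
    rw [SiteMod.res_sum] at h1
    refine Eq.trans ?_ (h1.trans (Finset.sum_congr rfl fun s _ => ?_))
    · exact (congrArg (fun z => Mod48.res P z x) (Subsingleton.elim _ _)).trans (Mod48.res_res _ _ _ _).symm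
    · exact (Mod48.res_smul _ _ _ _).trans (congrArg (_ • ·) ((Mod48.res_res _ _ _ _).trans
        (congrArg (fun z => Mod48.res P z _) (Subsingleton.elim _ _))))

end Groth.Agent.FCompl13
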