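import Groth.Agent.FCompl13.FormalPull

/-!
The inverse image of a coherent module to its formal completion is the completed module.
-/

set_option autoImplicit false
set_option backward.isDefEq.respectTransparency false

noncomputable section

universe u

open CategoryTheory CategoryTheory.Limits AlgebraicGeometry TopologicalSpace Opposite

namespace Groth.Agent.FCompl13

open _root_.FSch
open Groth.Agent.QC70
open SiteMod (ap)

section Gen

variable (𝔛 : Sys.{u}) (h : 𝔛.IsFormal) {Y : Scheme.{u}} (p : ∀ n, 𝔛.X n ⟶ Y)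
  (hp : ∀ n, 𝔛.ι n ≫ p (n + 1) = p n)

theorem isIso_schPushCompare_app (k : ℕ) (M : (𝔛.X k).Modules) :
    IsIso ((schPushCompare 𝔛 h p hp k).app M) := by
  haveI : (Mod48.fgt (O := Y.sheaf)).ReflectsIsomorphisms :=
    (inferInstanceAs (SheafOfModules.forget.{u} (ModSite.ringSh Y.sheaf)).ReflectsIsomorphisms)
  suffices IsIso (Mod48.fgt.map ((schPushCompare 𝔛 h p hp k).app M)) from isIso_of_reflects_iso _ Mod48.fgt
  suffices hb : ∀ U, Function.Bijective ⇑((Mod48.fgt.map ((schPushCompare 𝔛 h p hp k).app M)).app U).hom by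
    haveI : ∀ U, IsIso ((Mod48.fgt.map ((schPushCompare 𝔛 h p hp k).app M)).app U) :=
      fun U => (ConcreteCategory.isIso_iff_bijective _).2 (hb U)
    exact (PresheafOfModules.isoMk (fun U => asIso ((Mod48.fgt.map ((schPushCompare 𝔛 h p hp k).app M)).app U))
      fun {U V} f => (Mod48.fgt.map ((schPushCompare 𝔛 h p hp k).app M)).naturality f).isIso_hom
  intro U
  have hU := lvU_p 𝔛 h p hp k U.unop
  change Function.Bijective (res M hU.ge)
  exact ⟨fun a b e => (res_self a).symm.trans ((res_res hU.ge hU.le a).symm.trans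
      ((congrArg (res M hU.le) e).trans ((res_res hU.ge hU.le b).trans (res_self b)))),
    fun b => ⟨res M hU.le b, (res_res hU.le hU.ge b).trans (res_self b)⟩⟩

theorem mtrans_eq_pl (𝔐 : ModSys 𝔛) (k : ℕ) (W : (𝔛.X 0).Opens) (y : Γ(𝔐.F (k + 1), 𝔛.lvU h (k + 1) W)) :
    mtrans h 𝔐.F 𝔐.toPush W k y =
      (𝔐.e k).hom.app (𝔛.lvU h k W) (pl (𝔛.ι k) (𝔐.F (k + 1)) (𝔛.lvU_le h k W) y) := by
  rw [mtrans_eq]
  exact (PresheafOfModules.naturality_apply (𝔐.e k).hom.val (homOfLE (𝔛.lvU_le h k W)).op _).symm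

variable (𝔐 : ModSys 𝔛) {M : Y.Modules} (η : ∀ k, M ⟶ (Scheme.Modules.pushforward (p k)).obj (𝔐.F k))

/-- The component at a level of the comparison into the direct image. -/
def schCmpApp (k : ℕ) : M ⟶ (toSchemeMor 𝔛 h p hp).push.obj ((levelMor 𝔛 h k).push.obj (𝔐.F k)) :=
  η k ≫ (schPushCompare 𝔛 h p hp k).app _

/-- Compatibility of the family. -/
def CmpCompat : Prop := ∀ (k : ℕ) (U : Y.Opens) (m : Γ(M, U)),
  mtrans h 𝔐.F 𝔐.toPush (p 0 ⁻¹ᵁ U) k
      (res (𝔐.F (k + 1)) (lvU_p 𝔛 h p hp (k + 1) U).ge ((η (k + 1)).app U m)) =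
    res (𝔐.F k) (lvU_p 𝔛 h p hp k U).ge ((η k).app U m)

variable {η}

theorem schCmpApp_compat (hη : CmpCompat 𝔛 h p hp 𝔐 η) (k : ℕ) :
    schCmpApp 𝔛 h p hp 𝔐 η (k + 1) ≫ (toSchemeMor 𝔛 h p hp).push.map
        ((levelMor 𝔛 h (k + 1)).push.map (𝔐.toPush k) ≫ (pushCompare 𝔛 h k).app (𝔐.F k)) =
      schCmpApp 𝔛 h p hp 𝔐 η k := by
  apply Mod48.fgt.map_injective
  refine PresheafOfModules.hom_ext fun U => ?_
  ext s
  exact hη k U.unop s

/-- The comparison into the direct image. -/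
def schCmp (hη : CmpCompat 𝔛 h p hp 𝔐 η) : M ⟶ (toSchemeMor 𝔛 h p hp).push.obj (𝔐.realMod h) :=
  haveI : PreservesLimitsOfSize.{0, 0} (toSchemeMor 𝔛 h p hp).push :=
    (toSchemeMor 𝔛 h p hp).adj.rightAdjoint_preservesLimits
  (isLimitOfPreserves (toSchemeMor 𝔛 h p hp).push
    (limit.isLimit (levelSysOf 𝔛 h 𝔐.F 𝔐.toPush))).lift
    ⟨M, NatTrans.ofOpSequence (schCmpApp 𝔛 h p hp 𝔐 η) fun k => by
      simp only [Functor.const_obj_obj, Functor.const_obj_map, Category.id_comp, Functor.comp_obj,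
        Functor.comp_map]
      rw [levelSysOf_map_succ]
      exact (schCmpApp_compat 𝔛 h p hp 𝔐 hη k).symm⟩

theorem schCmp_proj (hη : CmpCompat 𝔛 h p hp 𝔐 η) (k : ℕ) :
    schCmp 𝔛 h p hp 𝔐 hη ≫ (toSchemeMor 𝔛 h p hp).push.map (realProj 𝔛 h 𝔐.F 𝔐.toPush k) =
      schCmpApp 𝔛 h p hp 𝔐 η k :=
  haveI : PreservesLimitsOfSize.{0, 0} (toSchemeMor 𝔛 h p hp).push :=
    (toSchemeMor 𝔛 h p hp).adj.rightAdjoint_preservesLimits
  (isLimitOfPreserves (toSchemeMor 𝔛 h p hp).push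
    (limit.isLimit (levelSysOf 𝔛 h 𝔐.F 𝔐.toPush))).fac _ (op k)

/-- A coherent module pulled back along a compatible family is the module of its levelwise inverse images. -/
theorem exists_schPull_iso (h𝔛 : 𝔛.IsLocNoethFormal) [M.IsFinitePresentation]
    (hη : CmpCompat 𝔛 h p hp 𝔐 η)
    (hlev : ∀ k, IsIso (((Scheme.Modules.pullbackPushforwardAdjunction (p k)).homEquiv _ _).symm (η k))) :
    ∃ e : (toSchemeMor 𝔛 h p hp).pull.obj M ≅ 𝔐.realMod h,
      ∀ k, ((toSchemeMor 𝔛 h p hp).adj.homEquiv _ _ e.hom) ≫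
          (toSchemeMor 𝔛 h p hp).push.map (realProj 𝔛 h 𝔐.F 𝔐.toPush k) =
        η k ≫ (schPushCompare 𝔛 h p hp k).app _ := by
  let T := toSchemeMor 𝔛 h p hp
  let θ := (T.adj.homEquiv _ _).symm (schCmp 𝔛 h p hp 𝔐 hη)
  have hθ : ∀ k, T.adj.homEquiv _ _ θ ≫ T.push.map (realProj 𝔛 h 𝔐.F 𝔐.toPush k) =
      η k ≫ (schPushCompare 𝔛 h p hp k).app _ := fun k => by
    rw [Equiv.apply_symm_apply]; exact schCmp_proj 𝔛 h p hp 𝔐 hη k
  have hfp : SheafOfModules.IsFinitePresentation.{u, u, u} (R := ModSite.ringSh (𝔛.Osh h)) (T.pull.obj M) := by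
    obtain ⟨q, hq⟩ := SheafOfModules.IsFinitePresentation.exists_quasicoherentData M
    exact { exists_quasicoherentData := ⟨Mod48.pullQC _ _ q, Mod48.isFinitePresentation_pullQC _ _ q⟩ }
  have : IsIso θ := by
    refine isIso_of_levels h𝔛 _ _ θ fun k => ?_
    let L := levelMor 𝔛 h k
    have : ∀ N, IsIso ((schPushCompare 𝔛 h p hp k).app N) := isIso_schPushCompare_app _ h _ _ k
    have : IsIso (schPushCompare 𝔛 h p hp k) := NatIso.isIso_of_isIso_app _
    let β := asIso (schPushCompare 𝔛 h p hp k)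
    let A1 := (T.adj.comp L.adj).ofNatIsoRight β.symm
    let A2 := Scheme.Modules.pullbackPushforwardAdjunction (p k)
    have := hlev k
    suffices e : (L.adj.homEquiv _ _).symm (θ ≫ realProj 𝔛 h 𝔐.F 𝔐.toPush k) =
        (Adjunction.leftAdjointUniq A1 A2).hom.app M ≫ (A2.homEquiv _ _).symm (η k) by
      rw [e]; infer_instance
    apply (A1.homEquiv _ _).injective
    refine Eq.trans ?_ (Adjunction.homEquiv_naturality_right A1 _ _).symm
    rw [Adjunction.homEquiv_leftAdjointUniq_hom_app, ← Adjunction.homEquiv_unit, Equiv.apply_symm_apply]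
    simp only [A1, Adjunction.homEquiv_ofNatIsoRight_apply, Adjunction.comp_homEquiv]
    change T.adj.homEquiv _ _ (L.adj.homEquiv _ _ ((L.adj.homEquiv _ _).symm
      (θ ≫ realProj 𝔛 h 𝔐.F 𝔐.toPush k))) ≫ β.inv.app _ = _
    rw [Equiv.apply_symm_apply, Adjunction.homEquiv_naturality_right, hθ k]
    exact (Category.assoc _ _ _).trans ((congrArg (η k ≫ ·) (β.hom_inv_id_app _)).trans (Category.comp_id _))
  exact ⟨asIso θ, hθ⟩

/-- The system of the levelwise inverse images of a module. -/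
def schSys (M : Y.Modules) : ModSys 𝔛 where
  F n := (Scheme.Modules.pullback (p n)).obj M
  e n := (Scheme.Modules.pullbackComp (𝔛.ι n) (p (n + 1)) ≪≫ Scheme.Modules.pullbackCongr (hp n)).app M

theorem comp_congr_pl {A B : Scheme.{u}} (g : A ⟶ B) (q : B ⟶ Y) {r : A ⟶ Y} (e : g ≫ q = r) (M : Y.Modules)
    {U : Y.Opens} {W' : B.Opens} {W : A.Opens} (a : W' ≤ q ⁻¹ᵁ U) (b : W ≤ g ⁻¹ᵁ W') (c : W ≤ r ⁻¹ᵁ U)
    (m : Γ(M, U)) :
    ((Scheme.Modules.pullbackComp g q ≪≫ Scheme.Modules.pullbackCongr e).app M).hom.app W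
      (pl g _ b (pl q M a m)) = pl r M c m := by
  have h₁ : W ≤ (g ≫ q) ⁻¹ᵁ U := b.trans (Scheme.Hom.preimage_mono _ a)
  rw [Iso.app_hom, Iso.trans_hom, NatTrans.comp_app, Scheme.Modules.Hom.comp_app]
  refine Eq.trans (congrArg (fun y => ((Scheme.Modules.pullbackCongr e).hom.app M).app W y)
    (pl_comp _ M a b h₁ m)) ?_
  exact pl_congr _ M h₁ c m

theorem cmpCompat_schSys (M : Y.Modules) : CmpCompat 𝔛 h p hp (schSys 𝔛 p hp M)
    (fun k => (Scheme.Modules.pullbackPushforwardAdjunction (p k)).unit.app M) := fun k U m => by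
  rw [mtrans_eq_pl]
  exact comp_congr_pl (𝔛.ι k) (p (k + 1)) (hp k) M (lvU_p 𝔛 h p hp (k + 1) U).ge
    (𝔛.lvU_le h k _) (lvU_p 𝔛 h p hp k U).ge m

theorem exists_pull_iso_schSys (h𝔛 : 𝔛.IsLocNoethFormal) (M : Y.Modules) [M.IsFinitePresentation] :
    ∃ e : (toSchemeMor 𝔛 h p hp).pull.obj M ≅ (schSys 𝔛 p hp M).realMod h,
      ∀ k, ((toSchemeMor 𝔛 h p hp).adj.homEquiv _ _ e.hom) ≫
          (toSchemeMor 𝔛 h p hp).push.map (realProj 𝔛 h (schSys 𝔛 p hp M).F (schSys 𝔛 p hp M).toPush k) =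
        (Scheme.Modules.pullbackPushforwardAdjunction (p k)).unit.app M ≫ (schPushCompare 𝔛 h p hp k).app _ :=
  exists_schPull_iso 𝔛 h p hp _ h𝔛 (cmpCompat_schSys 𝔛 h p hp M) fun k => by
    have e : ((Scheme.Modules.pullbackPushforwardAdjunction (p k)).homEquiv M
        ((Scheme.Modules.pullback (p k)).obj M)).symm
        ((Scheme.Modules.pullbackPushforwardAdjunction (p k)).unit.app M) = 𝟙 _ := by
      rw [← Adjunction.homEquiv_id, Equiv.symm_apply_apply]
    exact e.symm ▸ (IsIso.id _)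

end Gen

variable (X : Scheme.{u}) (𝓘 : X.IdealSheafData)

theorem complMod_eq_schSys (F : X.Modules) :
    complMod 𝓘 F = schSys (completionAlong X 𝓘) (completionToX X 𝓘) (completionToX_comm X 𝓘) F := rfl

end Groth.Agent.FCompl13
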