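import Groth.Agent.FCompl13.VecBasic
import Groth.Agent.FCompl13.AffSys

/-!
Subsheaves of finite type of a finite free module over an affine open are generated by their sections.
-/

set_option autoImplicit false
set_option backward.isDefEq.respectTransparency false
set_option linter.style.haveILetI false

noncomputable section

universe u

open CategoryTheory CategoryTheory.Limits AlgebraicGeometry TopologicalSpace Opposite
open Groth.Agent.QC70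

namespace Groth.Agent.FCompl13

open _root_.FSch

variable {𝔛 : Sys.{u}} (h𝔛 : 𝔛.IsLocNoethFormal) {V : (𝔛.X 0).Opens} {ι : Type u} [Fintype ι]

/-- A family of submodules of vectors of sections over the opens in `V`. -/
abbrev VecFam (V : (𝔛.X 0).Opens) (ι : Type u) :=
  ∀ W : (𝔛.X 0).Opens, W ≤ V → Submodule (FBlow13.Sec 𝔛 h𝔛.1 W) (ι → FBlow13.Sec 𝔛 h𝔛.1 W)

/-- Near every point finitely many vectors generate. -/
def VecFT (R : VecFam h𝔛 V ι) : Prop :=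
  ∀ x ∈ V, ∃ (Vx : (𝔛.X 0).Opens) (hx : Vx ≤ V), IsAffineOpen Vx ∧ x ∈ Vx ∧
    ∃ (κ : Type u) (_ : Finite κ) (r : κ → ι → FBlow13.Sec 𝔛 h𝔛.1 Vx),
      ∀ (W : (𝔛.X 0).Opens) (j : W ≤ Vx), IsAffineOpen W →
        R W (j.trans hx) = Submodule.span (FBlow13.Sec 𝔛 h𝔛.1 W) (Set.range fun t => vres h𝔛.1 j (r t))

/-- The family is stable under restriction. -/
def VecRes (R : VecFam h𝔛 V ι) : Prop :=
  ∀ (W : (𝔛.X 0).Opens) (i : W ≤ V) (W' : (𝔛.X 0).Opens) (j : W' ≤ W),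
    ∀ c ∈ R W i, vres h𝔛.1 j c ∈ R W' (j.trans i)

variable (hV : IsAffineOpen V) (R : VecFam h𝔛 V ι)

/-- The vectors over `V` on a level coming locally from the family. -/
def levelPart (hres : VecRes h𝔛 R) (k : ℕ) :
    Submodule Γ(𝔛.X k, 𝔛.lvU h𝔛.1 k V) (ι → Γ(𝔛.X k, 𝔛.lvU h𝔛.1 k V)) where
  carrier := {c | ∀ x ∈ V, ∃ (W : (𝔛.X 0).Opens) (i : W ≤ V), x ∈ W ∧
    lres (FBlow.lvU_mono 𝔛 h𝔛.1 k i) c ∈
      Submodule.span Γ(𝔛.X k, 𝔛.lvU h𝔛.1 k W) (vproj h𝔛.1 W k '' (R W i : Set _))}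
  zero_mem' x hx := ⟨V, le_rfl, hx, by
    rw [show lres (FBlow.lvU_mono 𝔛 h𝔛.1 k (le_refl V)) (0 : ι → Γ(𝔛.X k, 𝔛.lvU h𝔛.1 k V)) = 0 from
      funext fun _ => map_zero _]
    exact Submodule.zero_mem _⟩
  smul_mem' a c hc x hx := by
    obtain ⟨W, i, hxW, hm⟩ := hc x hx
    refine ⟨W, i, hxW, ?_⟩
    have h1 : lres (FBlow.lvU_mono 𝔛 h𝔛.1 k i) (a • c) =
        resO (𝔛.X k) (FBlow.lvU_mono 𝔛 h𝔛.1 k i) a • lres (FBlow.lvU_mono 𝔛 h𝔛.1 k i) c :=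
      funext fun t => map_mul _ _ _
    rw [h1]
    exact Submodule.smul_mem _ _ hm
  add_mem' {c d} hc hd x hx := by
    obtain ⟨W, i, hxW, hm⟩ := hc x hx
    obtain ⟨W', i', hxW', hm'⟩ := hd x hx
    refine ⟨W ⊓ W', inf_le_left.trans i, ⟨hxW, hxW'⟩, ?_⟩
    have key : ∀ {A : (𝔛.X 0).Opens} (iA : A ≤ V) (jA : W ⊓ W' ≤ A) (e : ι → Γ(𝔛.X k, 𝔛.lvU h𝔛.1 k V)),
        lres (FBlow.lvU_mono 𝔛 h𝔛.1 k iA) e ∈
          Submodule.span Γ(𝔛.X k, 𝔛.lvU h𝔛.1 k A) (vproj h𝔛.1 A k '' (R A iA : Set _)) →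
        lres (FBlow.lvU_mono 𝔛 h𝔛.1 k (inf_le_left.trans i)) e ∈
          Submodule.span Γ(𝔛.X k, 𝔛.lvU h𝔛.1 k (W ⊓ W'))
            (vproj h𝔛.1 (W ⊓ W') k '' (R (W ⊓ W') (inf_le_left.trans i) : Set _)) := by
      intro A iA jA e he
      have h1 := map_mem_span (rhO (𝔛.X k) (FBlow.lvU_mono 𝔛 h𝔛.1 k jA)) he
      rw [show (fun t => resO (𝔛.X k) (FBlow.lvU_mono 𝔛 h𝔛.1 k jA) (lres (FBlow.lvU_mono 𝔛 h𝔛.1 k iA) e t)) =
        lres (FBlow.lvU_mono 𝔛 h𝔛.1 k (inf_le_left.trans i)) e from lres_lres _ _ e] at h1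
      refine Submodule.span_mono ?_ h1
      rintro _ ⟨_, ⟨a, ha, rfl⟩, rfl⟩
      exact ⟨vres h𝔛.1 jA a, hres A iA _ jA a ha, vproj_vres h𝔛.1 jA k a⟩
    rw [show lres (FBlow.lvU_mono 𝔛 h𝔛.1 k (inf_le_left.trans i : W ⊓ W' ≤ V)) (c + d) = lres _ c + lres _ d
      from funext fun t => map_add _ _ _]
    exact Submodule.add_mem _ (key i inf_le_left c hm) (key i' inf_le_right d hm')

include hV in
theorem vproj_mem_span_levelPart (hres : VecRes h𝔛 R) (hft : VecFT h𝔛 R) (k : ℕ) {W : (𝔛.X 0).Opens}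
    (hW : IsAffineOpen W) (i : W ≤ V) (t : ι → FBlow13.Sec 𝔛 h𝔛.1 W) (ht : t ∈ R W i) :
    vproj h𝔛.1 W k t ∈ Submodule.span Γ(𝔛.X k, 𝔛.lvU h𝔛.1 k W)
      (lres (FBlow.lvU_mono 𝔛 h𝔛.1 k i) '' (levelPart h𝔛 R hres k : Set _)) := by
  have haff := fun {A : (𝔛.X 0).Opens} (hA : IsAffineOpen A) => FBlow13.isAffineOpen_lvU (h := h𝔛.1) hA k
  have := isNoetherian_vec_level h𝔛 hV k (ι := ι)
  obtain ⟨p, r, hr⟩ := exists_fin_generators (levelPart h𝔛 R hres k)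
  refine Submodule.span_mono (Set.range_subset_iff.2 fun s =>
      Set.mem_image_of_mem _ (hr.le (Submodule.subset_span ⟨s, rfl⟩)))
    (mem_span_vec_of_near (haff hW) (fun s => lres (FBlow.lvU_mono 𝔛 h𝔛.1 k i) (r s)) _ fun z hz => ?_)
  obtain ⟨g, hgW, hzg⟩ := exists_basicOpen_affine (haff hV) (FBlow.lvU_mono 𝔛 h𝔛.1 k i hz) hz
  obtain ⟨N, b, hb⟩ := exists_pow_smul_ext (haff hV) g (lres hgW (vproj h𝔛.1 W k t))
  -- on every piece a power of `g` times `b` comes from the family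
  choose Vy hVy hVyaff hyVy κ hκ ry hry using hft
  have hM : ∀ (y : 𝔛.X 0) (hy : y ∈ V), ∃ M : ℕ, ∀ M', M ≤ M' →
      lres (FBlow.lvU_mono 𝔛 h𝔛.1 k (hVy y hy)) (g ^ M' • b) ∈ Submodule.span Γ(𝔛.X k, 𝔛.lvU h𝔛.1 k (Vy y hy))
        (Set.range fun s => vproj h𝔛.1 (Vy y hy) k (ry y hy s)) := by
    intro y hy
    have := hκ y hy
    set j := FBlow.lvU_mono 𝔛 h𝔛.1 k (hVy y hy) with hj
    let g' := resO (𝔛.X k) j g
    have hg' : (𝔛.X k).basicOpen g' ≤ (𝔛.X k).basicOpen g := by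
      rw [Scheme.basicOpen_res]
      exact inf_le_right
    let D := downU k ((𝔛.X k).basicOpen g')
    have hDV : D ≤ Vy y hy := downU_le h𝔛.1 ((𝔛.X k).basicOpen_le g')
    have hDW : D ≤ W := downU_le h𝔛.1 (hg'.trans hgW)
    have hD : IsAffineOpen D := isAffineOpen_downU h𝔛.1 ((haff (hVyaff y hy)).basicOpen g')
    have hDeq : (𝔛.X k).basicOpen g' = 𝔛.lvU h𝔛.1 k D := (lvU_downU h𝔛.1 k _).symm
    have h1 : vres h𝔛.1 hDW t ∈ R D _ := hres W i D hDW t ht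
    rw [hry y hy D hDV hD] at h1
    have h2 := map_mem_span ((rhO (𝔛.X k) hDeq.le).comp (FBlow13.proj 𝔛 h𝔛.1 D k).hom) h1
    rw [← Set.range_comp] at h2
    obtain ⟨M, hM⟩ := exists_pow_smul_mem_span (haff (hVyaff y hy)) g'
      (fun s => vproj h𝔛.1 (Vy y hy) k (ry y hy s)) (lres j b) (by
        have h3 := Submodule.smul_mem _ (resO (𝔛.X k) (hg'.trans ((𝔛.X k).basicOpen_le g)) (g ^ N)) h2
        have e3 : (resO (𝔛.X k) (hg'.trans ((𝔛.X k).basicOpen_le g)) (g ^ N) • fun l =>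
            ((rhO (𝔛.X k) hDeq.le).comp (FBlow13.proj 𝔛 h𝔛.1 D k).hom) (vres h𝔛.1 hDW t l)) =
            fun l => resO (𝔛.X k) ((𝔛.X k).basicOpen_le g') (lres j b l) := funext fun l => by
          have h4 : resO (𝔛.X k) hg' _ = resO (𝔛.X k) hg' _ := congrArg _ (hb l)
          rw [show resO (𝔛.X k) hg' (resO (𝔛.X k) ((𝔛.X k).basicOpen_le g) (g ^ N) * lres hgW (vproj h𝔛.1 W k t) l) =
            resO (𝔛.X k) hg' (resO (𝔛.X k) ((𝔛.X k).basicOpen_le g) (g ^ N)) *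
              resO (𝔛.X k) hg' (lres hgW (vproj h𝔛.1 W k t) l) from map_mul _ _ _] at h4
          simp only [lres, resO_resO] at h4
          change _ * resO (𝔛.X k) hDeq.le (FBlow13.proj 𝔛 h𝔛.1 D k (FBlow13.res 𝔛 h𝔛.1 hDW (t l))) =
            resO (𝔛.X k) _ (resO (𝔛.X k) j (b l))
          rw [FBlow13.proj_res_apply]
          exact (congrArg (_ * ·) (resO_resO _ _ _)).trans (h4.symm.trans (resO_resO _ _ _).symm)
        rw [e3] at h3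
        refine Submodule.span_mono ?_ h3
        rintro _ ⟨s, rfl⟩
        refine ⟨s, funext fun l => ?_⟩
        change _ = resO (𝔛.X k) hDeq.le (FBlow13.proj 𝔛 h𝔛.1 D k (FBlow13.res 𝔛 h𝔛.1 hDV (ry y hy s l)))
        rw [FBlow13.proj_res_apply]
        exact (resO_resO _ _ _).symm)
    refine ⟨M, fun M' hM' => ?_⟩
    have h5 := Submodule.smul_mem _ (g' ^ (M' - M)) hM
    rw [smul_smul, ← pow_add, Nat.sub_add_cancel hM'] at h5
    rw [show lres j (g ^ M' • b) = g' ^ M' • lres j b from funext fun l => by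
      simp [lres, g', map_mul, map_pow]]
    exact h5
  choose M hMy using hM
  obtain ⟨T, hT⟩ := hV.isCompact.elim_finite_subcover (fun y : V => (Vy y.1 y.2 : Set (𝔛.X 0)))
    (fun y => (Vy y.1 y.2).2) fun y hy => Set.mem_iUnion.2 ⟨⟨y, hy⟩, hyVy y hy⟩
  classical
  let M₀ := T.sup fun y => M y.1 y.2
  have hmem : g ^ M₀ • b ∈ levelPart h𝔛 R hres k := by
    intro x hx
    obtain ⟨y, hyT, hxy⟩ := Set.mem_iUnion₂.1 (hT hx)
    refine ⟨Vy y.1 y.2, hVy y.1 y.2, hxy, Submodule.span_mono ?_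
      (hMy y.1 y.2 M₀ (Finset.le_sup (f := fun y : V => M y.1 y.2) hyT))⟩
    rintro _ ⟨s, rfl⟩
    refine ⟨ry y.1 y.2 s, ?_, rfl⟩
    refine (hry y.1 y.2 _ le_rfl (hVyaff y.1 y.2)).ge (Submodule.subset_span ⟨s, ?_⟩)
    exact vres_self h𝔛.1 _ _
  refine ⟨_, hgW, hzg, ?_⟩
  have hunit : IsUnit (resO (𝔛.X k) ((𝔛.X k).basicOpen_le g) (g ^ (M₀ + N))) := by
    rw [resO_pow]
    exact (RingedSpace.isUnit_res_basicOpen _ g).pow _
  refine (Submodule.smul_mem_iff_of_isUnit _ hunit).1 ?_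
  have h6 := map_mem_span (rhO (𝔛.X k) ((𝔛.X k).basicOpen_le g)) (hr.ge hmem)
  rw [← Set.range_comp] at h6
  have e6 : (resO (𝔛.X k) ((𝔛.X k).basicOpen_le g) (g ^ (M₀ + N)) • fun l => resO (𝔛.X k) hgW (vproj h𝔛.1 W k t l)) =
      fun l => rhO (𝔛.X k) ((𝔛.X k).basicOpen_le g) ((g ^ M₀ • b) l) := funext fun l => by
    change _ * resO (𝔛.X k) hgW (vproj h𝔛.1 W k t l) = rhO (𝔛.X k) _ (g ^ M₀ * b l)
    rw [map_mul]
    refine Eq.trans ?_ (congrArg (_ * ·) (hb l).symm)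
    rw [← mul_assoc]
    refine congrArg (· * _) ?_
    rw [pow_add]
    exact map_mul (rhO (𝔛.X k) ((𝔛.X k).basicOpen_le g)) _ _
  rw [← e6] at h6
  refine Submodule.span_mono ?_ h6
  rintro _ ⟨s, rfl⟩
  exact ⟨s, funext fun l => resO_resO _ _ _⟩

/-- The transition of vectors of functions. -/
abbrev vtr (k : ℕ) (W : (𝔛.X 0).Opens) : Γ(𝔛.X (k + 1), 𝔛.lvU h𝔛.1 (k + 1) W) →+* Γ(𝔛.X k, 𝔛.lvU h𝔛.1 k W) :=
  ((𝔛.ι k).appLE (𝔛.lvU h𝔛.1 (k + 1) W) (𝔛.lvU h𝔛.1 k W) (𝔛.lvU_le h𝔛.1 k W)).hom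

omit [Fintype ι] in
theorem vtr_res (k : ℕ) {W : (𝔛.X 0).Opens} (i : W ≤ V) (c : Γ(𝔛.X (k + 1), 𝔛.lvU h𝔛.1 (k + 1) V)) :
    vtr h𝔛 k W (resO (𝔛.X (k + 1)) (FBlow.lvU_mono 𝔛 h𝔛.1 (k + 1) i) c) =
      resO (𝔛.X k) (FBlow.lvU_mono 𝔛 h𝔛.1 k i) (vtr h𝔛 k V c) := by
  have h1 := congrArg (fun φ : Γ(𝔛.X (k + 1), 𝔛.lvU h𝔛.1 (k + 1) V) ⟶ Γ(𝔛.X k, 𝔛.lvU h𝔛.1 k W) => φ.hom c)
    ((Scheme.Hom.map_appLE (𝔛.ι k) (𝔛.lvU_le h𝔛.1 k W) (homOfLE (FBlow.lvU_mono 𝔛 h𝔛.1 (k + 1) i)).op).trans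
      (Scheme.Hom.appLE_map (𝔛.ι k) (𝔛.lvU_le h𝔛.1 k V) (homOfLE (FBlow.lvU_mono 𝔛 h𝔛.1 k i)).op).symm)
  exact h1

include hV in
theorem exists_lift_levelPart (hres : VecRes h𝔛 R) (hft : VecFT h𝔛 R) (k : ℕ)
    (c : ι → Γ(𝔛.X k, 𝔛.lvU h𝔛.1 k V)) (hc : c ∈ levelPart h𝔛 R hres k) :
    ∃ c' ∈ levelPart h𝔛 R hres (k + 1), (fun l => vtr h𝔛 k V (c' l)) = c := by
  have haff := fun {A : (𝔛.X 0).Opens} (hA : IsAffineOpen A) (n : ℕ) => FBlow13.isAffineOpen_lvU (h := h𝔛.1) hA n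
  have := isNoetherian_vec_level h𝔛 hV (k + 1) (ι := ι)
  obtain ⟨p, r, hr⟩ := exists_fin_generators (levelPart h𝔛 R hres (k + 1))
  have hI : c ∈ Submodule.span Γ(𝔛.X k, 𝔛.lvU h𝔛.1 k V) (Set.range fun s l => vtr h𝔛 k V (r s l)) := by
    refine mem_span_vec_of_near (haff hV k) _ _ fun z hz => ?_
    obtain ⟨x, rfl⟩ := 𝔛.toX_surjective h𝔛.1 k z
    obtain ⟨W, i, hxW, hm⟩ := hc x ((FBlow13.toX_preimage_lvU (h := h𝔛.1) k V).le hz)
    obtain ⟨W', hW', hxW', hW'W⟩ := exists_isAffineOpen_mem_and_subset hxW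
    refine ⟨_, FBlow.lvU_mono 𝔛 h𝔛.1 k (hW'W.trans i), (FBlow13.toX_preimage_lvU (h := h𝔛.1) k W').ge hxW', ?_⟩
    have h1 := map_mem_span (rhO (𝔛.X k) (FBlow.lvU_mono 𝔛 h𝔛.1 k hW'W)) hm
    have e1 : (fun l => resO (𝔛.X k) (FBlow.lvU_mono 𝔛 h𝔛.1 k hW'W) (lres (FBlow.lvU_mono 𝔛 h𝔛.1 k i) c l)) =
        fun l => resO (𝔛.X k) (FBlow.lvU_mono 𝔛 h𝔛.1 k (hW'W.trans i)) (c l) :=
      funext fun l => resO_resO _ _ _
    rw [e1] at h1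
    refine Submodule.span_le.2 ?_ h1
    rintro _ ⟨_, ⟨t, ht, rfl⟩, rfl⟩
    have h2 := map_mem_span (vtr h𝔛 k W') (vproj_mem_span_levelPart h𝔛 hV R hres hft (k + 1) hW' (hW'W.trans i)
      (vres h𝔛.1 hW'W t) (hres W i W' hW'W t ht))
    have e2 : (fun l => vtr h𝔛 k W' (vproj h𝔛.1 W' (k + 1) (vres h𝔛.1 hW'W t) l)) =
        fun l => resO (𝔛.X k) (FBlow.lvU_mono 𝔛 h𝔛.1 k hW'W) (vproj h𝔛.1 W k t l) :=
      funext fun l => (FBlow13.proj_succ_apply W' k _).trans (FBlow13.proj_res_apply hW'W k _)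
    rw [e2] at h2
    refine Submodule.span_le.2 ?_ h2
    rintro _ ⟨_, ⟨b, hb, rfl⟩, rfl⟩
    have h3 := map_mem_span ((rhO (𝔛.X k) (FBlow.lvU_mono 𝔛 h𝔛.1 k (hW'W.trans i))).comp (vtr h𝔛 k V)) (hr.ge hb)
    rw [← Set.range_comp] at h3
    rw [SetLike.mem_coe]
    beta_reduce
    rw [show (fun l => vtr h𝔛 k W' (lres (FBlow.lvU_mono 𝔛 h𝔛.1 (k + 1) (hW'W.trans i)) b l)) =
      fun l => ((rhO (𝔛.X k) (FBlow.lvU_mono 𝔛 h𝔛.1 k (hW'W.trans i))).comp (vtr h𝔛 k V)) (b l)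
      from funext fun l => vtr_res h𝔛 k (hW'W.trans i) (b l)]
    exact h3
  obtain ⟨e, he⟩ := (Submodule.mem_span_range_iff_exists_fun _).1 hI
  have hsurj : Function.Surjective (vtr h𝔛 k V) := FBlow13.appLE_ι_surjective (h := h𝔛.1) hV k
  choose ε hε using fun s => hsurj (e s)
  refine ⟨∑ s, ε s • r s, hr.le (Submodule.sum_mem _ fun s _ =>
    Submodule.smul_mem _ _ (Submodule.subset_span ⟨s, rfl⟩)), ?_⟩
  funext l
  rw [← he]
  simp [Finset.sum_apply, hε]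

include hV in
theorem exists_vec_of_levelPart (hres : VecRes h𝔛 R) (hft : VecFT h𝔛 R)
    (hloc : ∀ c : ι → FBlow13.Sec 𝔛 h𝔛.1 V, (∀ x ∈ V, ∃ (W : (𝔛.X 0).Opens) (i : W ≤ V), x ∈ W ∧
      vres h𝔛.1 i c ∈ R W i) → c ∈ R V le_rfl)
    (k : ℕ) (c : ι → Γ(𝔛.X k, 𝔛.lvU h𝔛.1 k V)) (hc : c ∈ levelPart h𝔛 R hres k) :
    ∃ d ∈ R V le_rfl, vproj h𝔛.1 V k d = c := by
  classical
  obtain ⟨hN, hC, hp⟩ := secRing h𝔛 hV
  have := hN
  have := hC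
  set J := secIdeal 𝔛 h𝔛.1 V
  choose lift hlift htr using fun j (b : ι → Γ(𝔛.X j, 𝔛.lvU h𝔛.1 j V)) (hb : b ∈ levelPart h𝔛 R hres j) =>
    exists_lift_levelPart h𝔛 hV R hres hft j b hb
  have hdown : ∀ (j i : ℕ) (a : ι → FBlow13.Sec 𝔛 h𝔛.1 V),
      vproj h𝔛.1 V (j + i) a ∈ levelPart h𝔛 R hres (j + i) → vproj h𝔛.1 V j a ∈ levelPart h𝔛 R hres j := by
    intro j i
    induction i with
    | zero => exact fun a ha => ha
    | succ i ih =>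
      refine fun a ha => ih a fun x hx => ?_
      obtain ⟨W, iW, hxW, hm⟩ := ha x hx
      refine ⟨W, iW, hxW, ?_⟩
      have h1 := map_mem_span (vtr h𝔛 (j + i) W) hm
      have e1 : (fun l => vtr h𝔛 (j + i) W (lres (FBlow.lvU_mono 𝔛 h𝔛.1 (j + i + 1) iW)
          (vproj h𝔛.1 V (j + i + 1) a) l)) =
          lres (FBlow.lvU_mono 𝔛 h𝔛.1 (j + i) iW) (vproj h𝔛.1 V (j + i) a) := funext fun l =>
        (vtr_res h𝔛 (j + i) iW _).trans (congrArg _ (FBlow13.proj_succ_apply V (j + i) (a l)))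
      rw [← e1]
      refine Submodule.span_mono ?_ h1
      rintro _ ⟨_, ⟨t, ht, rfl⟩, rfl⟩
      exact ⟨t, ht, funext fun l => (FBlow13.proj_succ_apply W (j + i) (t l)).symm⟩
  have hsurj : ∀ (j : ℕ) (b : ι → Γ(𝔛.X j, 𝔛.lvU h𝔛.1 j V)), ∃ a : ι → FBlow13.Sec 𝔛 h𝔛.1 V,
      vproj h𝔛.1 V j a = b := fun j b => by
    choose a ha using fun l => (hp j).1 (b l)
    exact ⟨a, funext ha⟩
  choose sec hsec using hsurj
  let f : ∀ i, {a : ι → FBlow13.Sec 𝔛 h𝔛.1 V // vproj h𝔛.1 V (k + i) a ∈ levelPart h𝔛 R hres (k + i)} :=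
    fun i => Nat.rec ⟨sec k c, (hsec k c).symm ▸ hc⟩
      (fun i b => ⟨sec (k + i + 1) (lift (k + i) _ b.2), (hsec (k + i + 1) _).symm ▸ hlift (k + i) _ b.2⟩) i
  have hf : ∀ i l, (f (i + 1)).1 l - (f i).1 l ∈ J ^ (k + i + 1) := fun i l => by
    rw [← (hp (k + i)).2, RingHom.mem_ker, map_sub, sub_eq_zero]
    refine (FBlow13.proj_succ_apply V (k + i) ((f (i + 1)).1 l)).symm.trans ?_
    refine (congrArg _ (congrFun (hsec (k + i + 1) (lift (k + i) _ (f i).2)) l)).trans ?_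
    exact congrFun (htr (k + i) _ (f i).2) l
  have hlim : ∀ l, ∃ L : FBlow13.Sec 𝔛 h𝔛.1 V, ∀ n, L - (f n).1 l ∈ J ^ (n + 1) • (⊤ : Ideal _) := fun l =>
    exists_limit_seq J (fun n => (f n).1 l) fun n => by
      rw [smul_eq_mul, Ideal.mul_top]
      exact Ideal.pow_le_pow_right (by omega) (hf n l)
  choose L hL using hlim
  have hLlv : ∀ m, vproj h𝔛.1 V m L ∈ levelPart h𝔛 R hres m := fun m => by
    have h1 : vproj h𝔛.1 V (m + k) (f m).1 ∈ levelPart h𝔛 R hres (m + k) := by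
      rw [add_comm m k]
      exact (f m).2
    have e : vproj h𝔛.1 V m L = vproj h𝔛.1 V m (f m).1 := funext fun l => by
      rw [← sub_eq_zero]
      refine (map_sub (FBlow13.proj 𝔛 h𝔛.1 V m).hom _ _).symm.trans ?_
      change (FBlow13.proj 𝔛 h𝔛.1 V m).hom _ = 0
      rw [← RingHom.mem_ker, (hp m).2]
      have := hL l m
      rwa [smul_eq_mul, Ideal.mul_top] at this
    rw [e]
    exact hdown m k _ h1
  refine ⟨L, hloc L fun x hx => ?_, ?_⟩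
  · obtain ⟨Vx, hVx, hVxaff, hxVx, κ, hκ, r, hr⟩ := hft x hx
    refine ⟨Vx, hVx, hxVx, ?_⟩
    rw [hr Vx le_rfl hVxaff]
    refine mem_span_of_levels h𝔛 hVxaff _ _ fun m => ?_
    rw [vproj_vres]
    refine mem_span_vec_of_near (FBlow13.isAffineOpen_lvU (h := h𝔛.1) hVxaff m) _ _ fun z hz => ?_
    obtain ⟨y, rfl⟩ := 𝔛.toX_surjective h𝔛.1 m z
    have hy : y ∈ Vx := (FBlow13.toX_preimage_lvU (h := h𝔛.1) m Vx).le hz
    obtain ⟨W, i, hyW, hm⟩ := hLlv m y (hVx hy)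
    obtain ⟨W', hW', hyW', hW'le⟩ := exists_isAffineOpen_mem_and_subset (show y ∈ W ⊓ Vx from ⟨hyW, hy⟩)
    refine ⟨_, FBlow.lvU_mono 𝔛 h𝔛.1 m (hW'le.trans inf_le_right),
      (FBlow13.toX_preimage_lvU (h := h𝔛.1) m W').ge hyW', ?_⟩
    have h1 := map_mem_span (rhO (𝔛.X m) (FBlow.lvU_mono 𝔛 h𝔛.1 m (hW'le.trans inf_le_left))) hm
    have e1 : (fun l => rhO (𝔛.X m) (FBlow.lvU_mono 𝔛 h𝔛.1 m (hW'le.trans inf_le_left))
        (lres (FBlow.lvU_mono 𝔛 h𝔛.1 m i) (vproj h𝔛.1 V m L) l)) =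
        fun l => resO (𝔛.X m) (FBlow.lvU_mono 𝔛 h𝔛.1 m (hW'le.trans inf_le_right))
          (lres (FBlow.lvU_mono 𝔛 h𝔛.1 m hVx) (vproj h𝔛.1 V m L) l) :=
      funext fun l => (resO_resO _ _ _).trans (resO_resO _ _ _).symm
    rw [e1] at h1
    refine Submodule.span_le.2 ?_ h1
    rintro _ ⟨_, ⟨t, ht, rfl⟩, rfl⟩
    rw [SetLike.mem_coe]
    beta_reduce
    have h2 : vres h𝔛.1 (hW'le.trans inf_le_left) t ∈ R W' _ := hres W i W' (hW'le.trans inf_le_left) t ht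
    rw [hr W' (hW'le.trans inf_le_right) hW'] at h2
    have h3 := map_mem_span (FBlow13.proj 𝔛 h𝔛.1 W' m).hom h2
    rw [← Set.range_comp] at h3
    have e3 : (fun l => (FBlow13.proj 𝔛 h𝔛.1 W' m).hom (vres h𝔛.1 (hW'le.trans inf_le_left) t l)) =
        fun l => rhO (𝔛.X m) (FBlow.lvU_mono 𝔛 h𝔛.1 m (hW'le.trans inf_le_left)) (vproj h𝔛.1 W m t l) :=
      funext fun l => FBlow13.proj_res_apply _ m _
    rw [e3] at h3
    refine Submodule.span_mono ?_ h3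
    rintro _ ⟨s, rfl⟩
    refine ⟨s, funext fun l => ?_⟩
    change resO (𝔛.X m) _ (FBlow13.proj 𝔛 h𝔛.1 Vx m (vres h𝔛.1 le_rfl (r s) l)) =
      FBlow13.proj 𝔛 h𝔛.1 W' m (vres h𝔛.1 _ (r s) l)
    rw [vres_self]
    exact (FBlow13.proj_res_apply _ m _).symm
  · have hseq : ∀ i l, (f i).1 l - (f 0).1 l ∈ J ^ (k + 1) := fun i l => by
      induction i with
      | zero => rw [sub_self]; exact zero_mem _
      | succ i ih =>
        rw [← sub_add_sub_cancel ((f (i + 1)).1 l) ((f i).1 l)]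
        exact add_mem (Ideal.pow_le_pow_right (by omega) (hf i l)) ih
    funext l
    refine Eq.trans ?_ (congrFun (hsec k c) l)
    rw [← sub_eq_zero]
    refine (map_sub (FBlow13.proj 𝔛 h𝔛.1 V k).hom _ _).symm.trans ?_
    change (FBlow13.proj 𝔛 h𝔛.1 V k).hom _ = 0
    rw [← RingHom.mem_ker, (hp k).2]
    have h1 := hL l k
    rw [smul_eq_mul, Ideal.mul_top] at h1
    have h2 := add_mem h1 (hseq k l)
    rwa [sub_add_sub_cancel] at h2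

include hV in
/-- A subsheaf of finite type of a free module over an affine open is generated by its sections. -/
theorem span_vres_eq (hres : VecRes h𝔛 R) (hft : VecFT h𝔛 R)
    (hloc : ∀ c : ι → FBlow13.Sec 𝔛 h𝔛.1 V, (∀ x ∈ V, ∃ (W : (𝔛.X 0).Opens) (i : W ≤ V), x ∈ W ∧
      vres h𝔛.1 i c ∈ R W i) → c ∈ R V le_rfl) :
    ∃ (κ : Type u) (_ : Fintype κ) (r : κ → ι → FBlow13.Sec 𝔛 h𝔛.1 V), (∀ s, r s ∈ R V le_rfl) ∧
      ∀ (W : (𝔛.X 0).Opens) (i : W ≤ V), IsAffineOpen W → ∀ t ∈ R W i,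
        t ∈ Submodule.span (FBlow13.Sec 𝔛 h𝔛.1 W) (Set.range fun s => vres h𝔛.1 i (r s)) := by
  obtain ⟨hN, -, -⟩ := secRing h𝔛 hV
  have := hN
  obtain ⟨p, r, hr⟩ := exists_fin_generators (R V le_rfl)
  refine ⟨ULift.{u} (Fin p), inferInstance, fun s => r s.down, fun s => hr.le (Submodule.subset_span ⟨_, rfl⟩),
    fun W i hW t ht => mem_span_of_levels h𝔛 hW _ _ fun k => ?_⟩
  refine Submodule.span_le.2 ?_ (vproj_mem_span_levelPart h𝔛 hV R hres hft k hW i t ht)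
  rintro _ ⟨c, hc, rfl⟩
  obtain ⟨d, hd, rfl⟩ := exists_vec_of_levelPart h𝔛 hV R hres hft hloc k c hc
  have h1 := map_mem_span ((rhO (𝔛.X k) (FBlow.lvU_mono 𝔛 h𝔛.1 k i)).comp (FBlow13.proj 𝔛 h𝔛.1 V k).hom)
    (hr.ge hd)
  rw [← Set.range_comp] at h1
  refine Submodule.span_mono ?_ h1
  rintro _ ⟨s, rfl⟩
  exact ⟨⟨s⟩, funext fun l => FBlow13.proj_res_apply i k _⟩

end Groth.Agent.FCompl13
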