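import Groth.Agent.FCompl13.TftFull
import Groth.Agent.FCompl13.AffCompl
import Groth.Agent.Frg27.TFT

/-!
The completion of an affine scheme over a base of class (N) or (V).
-/

set_option autoImplicit false
set_option backward.isDefEq.respectTransparency false

noncomputable section

universe u

open CategoryTheory CategoryTheory.Limits AlgebraicGeometry TopologicalSpace Opposite

namespace Groth.Agent.FCompl13

open _root_.FSch

theorem idealSpec_fg {A : Type u} [CommRing A] {J : Ideal A} (hJ : J.FG) (V : (Spec (CommRingCat.of A)).affineOpens) :
    ((idealSpec A J).ideal V).FG := by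
  rw [← (idealSpec A J).map_ideal (show V ≤ ⟨⊤, isAffineOpen_top _⟩ from (le_top : V.1 ≤ ⊤)),
    FBlow13.idealSpec_ideal_top]
  exact (hJ.map _).map _

theorem isAdicComplete_tft {R : Type u} [CommRing R] {I : Ideal R} (hR : AdicRing.IsBase R I) {A : Type u} [CommRing A]
    [Algebra R A] (hA : AdicRing.TopFiniteType R I A) (N : Type u) [AddCommGroup N] [Module A N] [Module.Finite A N] :
    IsAdicComplete (I.map (algebraMap R A)) N := by
  let : Module R N := Module.compHom N (algebraMap R A)
  have : IsScalarTower R A N := IsScalarTower.of_algebraMap_smul fun r e => rfl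
  exact (IsAdicComplete.map_algebraMap_iff (S := A) I N).2 (Frg27.isAdicComplete_of_finite_tft hR hA N)

end Groth.Agent.FCompl13
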