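import Groth.Agent.FCompl13.TftShort

/-!
Exactness of `M ↦ M^Δ` over a base of class (N) or (V).
-/

set_option autoImplicit false
set_option backward.isDefEq.respectTransparency false

noncomputable section

universe u

open CategoryTheory CategoryTheory.Limits AlgebraicGeometry TopologicalSpace Opposite

namespace Groth.Agent.FCompl13

open _root_.FSch

theorem idealSpec_ideal_basicOpen {A : Type u} [CommRing A] (J : Ideal A) (a : A)
    (hD : IsAffineOpen (X := Spec (CommRingCat.of A)) (PrimeSpectrum.basicOpen a)) :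
    (idealSpec A J).ideal ⟨PrimeSpectrum.basicOpen a, hD⟩ =
      J.map ((Scheme.ΓSpecIso (CommRingCat.of A)).inv ≫
        (Spec (CommRingCat.of A)).presheaf.map (homOfLE le_top).op).hom := by
  rw [← (idealSpec A J).map_ideal
    (show (⟨PrimeSpectrum.basicOpen a, hD⟩ : (Spec (CommRingCat.of A)).affineOpens) ≤ ⟨⊤, isAffineOpen_top _⟩ from
      (le_top : (PrimeSpectrum.basicOpen a : (Spec (CommRingCat.of A)).Opens) ≤ ⊤)),
    FBlow13.idealSpec_ideal_top, Ideal.map_map]
  rfl

theorem ideal_map_algebraMap_Spec {R : CommRingCat.{u}} (J : Ideal R) (U : (Spec R).Opens) :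
    J.map ((Scheme.ΓSpecIso R).inv ≫ (Spec R).presheaf.map (homOfLE le_top).op).hom =
      J.map (algebraMap R Γ(Spec R, U)) := by
  rfl

variable {R₀ : Type u} [CommRing R₀] {I₀ : Ideal R₀} (hR : AdicRing.IsBase R₀ I₀) {A : Type u}
  [CommRing A] [Algebra R₀ A] (hA : AdicRing.TopFiniteType R₀ I₀ A)
  (h : (completionAlong (Spec (CommRingCat.of A)) (idealSpec A (I₀.map (algebraMap R₀ A)))).IsFormal)

include hR hA in
theorem shortExact_complMod (S : ShortComplex (ModuleCat.{u} A)) (hS : S.ShortExact)
    [Module.Finite A S.X₁] [Module.Finite A S.X₂] [Module.Finite A S.X₃] :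
    ∃ w : ModSys.realModMap h (complModMap (idealSpec A (I₀.map (algebraMap R₀ A))) ((tilde.functor (CommRingCat.of A)).map S.f)) ≫
        ModSys.realModMap h (complModMap (idealSpec A (I₀.map (algebraMap R₀ A))) ((tilde.functor (CommRingCat.of A)).map S.g)) = 0,
      (ShortComplex.mk _ _ w).ShortExact := by
  let X := Spec (CommRingCat.of A)
  let 𝓘 := idealSpec A (I₀.map (algebraMap R₀ A))
  let : Algebra R₀ (CommRingCat.of A) := (inferInstance : Algebra R₀ A)
  have h2 := shortExact_realModMap (R := CommRingCat.of A) (p := completionToX X 𝓘) h (completionToX_comm X 𝓘) 𝓘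
    (fun n => Scheme.IdealSheafData.ker_subschemeι _) S hS fun a hD =>
      tft_compl_short (R := CommRingCat.of A) hR hA S hS a hD _
        ((idealSpec_ideal_basicOpen _ a hD).trans (ideal_map_algebraMap_Spec _ _))
  rw [schSys_completion X 𝓘, schSys_completion X 𝓘] at h2
  exact h2

end Groth.Agent.FCompl13
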