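import Groth.Agent.FCompl13.TftSys
import Groth.Agent.FCompl13.TftCompl
import Groth.Agent.FCompl13.TftDelta
import Groth.Agent.FCompl13.ComplFull
import Groth.Agent.FCompl13.FormalPull
import Groth.Agent.S11528
import Groth.Agent.Frg27.Compl

/-!
Finitely presented modules on `Spf A`, for `A` topologically of finite type over a base of class (N) or (V).
-/

set_option autoImplicit false
set_option backward.isDefEq.respectTransparency false

noncomputable section

universe u

open CategoryTheory CategoryTheory.Limits AlgebraicGeometry TopologicalSpace Opposite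

namespace Groth.Agent.FCompl13

open _root_.FSch

variable {R₀ : Type u} [CommRing R₀] {I₀ : Ideal R₀} (hR : AdicRing.IsBase R₀ I₀) {R : CommRingCat.{u}}
  [Algebra R₀ R] (hA : AdicRing.TopFiniteType R₀ I₀ R)

include hR hA in
theorem complete_adicCompletion (B : Type u) [CommRing B] [Algebra R₀ B] [Algebra R B] [IsScalarTower R₀ R B]
    [Algebra.FiniteType R B] (K : Ideal B) (hK : K = I₀.map (algebraMap R₀ B)) (Q : Type u) [AddCommGroup Q]
    [Module (AdicCompletion K B) Q] [Module.Finite (AdicCompletion K B) Q] :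
    IsAdicComplete (K.map (algebraMap B (AdicCompletion K B))) Q := by
  subst hK
  have h := isAdicComplete_tft hR (A := Frg27.Compl I₀ B)
    (Frg27.tft_compl_of_finiteType (C := B) (S := R) (Frg27.base_fg hR) hA) Q
  have e : (I₀.map (algebraMap R₀ B)).map (algebraMap B (AdicCompletion (I₀.map (algebraMap R₀ B)) B)) =
      I₀.map (algebraMap R₀ (AdicCompletion (I₀.map (algebraMap R₀ B)) B)) := by
    rw [Ideal.map_map, ← IsScalarTower.algebraMap_eq]
  rw [e]
  exact h

variable {𝔛 : Sys.{u}} (h : 𝔛.IsFormal) {p : ∀ n, 𝔛.X n ⟶ Spec R} (hp : ∀ n, 𝔛.ι n ≫ p (n + 1) = p n)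
  [∀ n, IsClosedImmersion (p n)] (I : (Spec R).IdealSheafData) (hker : ∀ n, (p n).ker = I ^ (n + 1))
  (hI : ∀ (a : R) (hD : IsAffineOpen (X := Spec R) (PrimeSpectrum.basicOpen a)),
    I.ideal ⟨_, hD⟩ = (I₀.map (algebraMap R₀ R)).map (algebraMap R Γ(Spec R, PrimeSpectrum.basicOpen a)))

include hR hA hp hker hI in
theorem goodOpen_basicOpen (a : R) : GoodOpen h (p 0 ⁻¹ᵁ PrimeSpectrum.basicOpen a) := by
  let B := Γ(Spec R, PrimeSpectrum.basicOpen a)
  have hD : IsAffineOpen (X := Spec R) (PrimeSpectrum.basicOpen a) := by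
    rw [← basicOpen_eq_of_affine]
    exact (isAffineOpen_top (Spec R)).basicOpen _
  letI : Algebra R₀ B := ((algebraMap R B).comp (algebraMap R₀ R)).toAlgebra
  haveI : IsScalarTower R₀ R B := IsScalarTower.of_algebraMap_eq fun r => rfl
  haveI : IsLocalization.Away a B :=
    inferInstanceAs (IsLocalization.Away (R := R) a Γ(Spec R, PrimeSpectrum.basicOpen a))
  haveI : Algebra.FiniteType R B := IsLocalization.finiteType_of_monoid_fg (Submonoid.powers a) B
  exact goodOpen_of_complete h p hp hD I hker (by rw [hI a hD]; exact ((Frg27.base_fg hR).map _).map _)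
    fun Q _ _ _ => complete_adicCompletion hR hA B _ ((hI a hD).trans (Ideal.map_map _ _)) Q

include hR hA in
theorem exists_artinRees_fin (s : ℕ) (K : Submodule R (Fin s → R)) : ∃ n₀ : ℕ,
    I₀.map (algebraMap R₀ R) ^ (1 + n₀) • (⊤ : Submodule R (Fin s → R)) ⊓ K ≤ I₀.map (algebraMap R₀ R) • K := by
  obtain ⟨n₀, hn₀⟩ := S11528.result R₀ I₀ hR R hA (Fin s → R) K
  refine ⟨n₀, fun x hx => ?_⟩
  have h1 := hn₀ 1 ⟨?_, hx.2⟩
  · rw [pow_one, ← Submodule.restrictScalars_map_smul_eq (R := R)] at h1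
    exact h1
  · have h2 : x ∈ Submodule.restrictScalars R₀ (I₀.map (algebraMap R₀ R) ^ (1 + n₀) • (⊤ : Submodule R (Fin s → R))) := hx.1
    rw [← Ideal.map_pow, Submodule.restrictScalars_map_smul_eq, Submodule.restrictScalars_top] at h2
    exact h2

include hR hA hp hker hI in
theorem exists_iso_realMod_tft (hJ : LevKer (I₀.map (algebraMap R₀ R)) p) (𝔊 : ModF 𝔛 h)
    [𝔊.IsFinitePresentation] :
    ∃ M : ModuleCat.{u} R, Module.FinitePresentation R M ∧
      Nonempty (𝔊 ≅ (schSys 𝔛 p hp (tilde M)).realMod h) := by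
  haveI : IsAdicComplete (I₀.map (algebraMap R₀ R)) R := isAdicComplete_tft hR hA R
  have hgood := goodOpen_basicOpen hR hA h hp I hker hI
  have hB : ∀ {W : (𝔛.X 0).Opens} {x : 𝔛.X 0}, x ∈ W →
      ∃ U : (𝔛.X 0).Opens, GoodOpen h U ∧ x ∈ U ∧ U ≤ W := by
    intro W x hx
    obtain ⟨f, h1, h2⟩ := exists_basicOpen_le p hx
    rw [basicOpen_eq_of_affine'] at h1 h2
    exact ⟨_, hgood _, h1, h2⟩
  haveI := isIso_toReal_good 𝔊 hB
  have hW : GoodOpen h (p 0 ⁻¹ᵁ ⊤) := by
    have := hgood 1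
    rwa [PrimeSpectrum.basicOpen_one] at this
  obtain ⟨M, hfin, ⟨e⟩⟩ := exists_iso_schSys_good (sysOf h 𝔊) hp hJ hW (isCoh_sysOf h 𝔊)
  refine ⟨M, finitePresentation_of_levels hp hJ ((Frg27.base_fg hR).map _) M
    (fun s K _ => (isAdicComplete_tft hR hA _).toIsHausdorff) (exists_artinRees_fin hR hA) fun n => ?_,
    ⟨asIso (toReal h 𝔊) ≪≫
      { hom := ModSys.realModMap h e.hom
        inv := ModSys.realModMap h e.inv
        hom_inv_id := by rw [← realModMap_comp, e.hom_inv_id, realModMap_id]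
        inv_hom_id := by rw [← realModMap_comp, e.inv_hom_id, realModMap_id] }⟩⟩
  obtain ⟨q, hq⟩ := SheafOfModules.IsFinitePresentation.exists_quasicoherentData 𝔊
  have h0 : CohB1.IsFP ((sysOf h 𝔊).F n) :=
    { exists_quasicoherentData := ⟨Mod48.pullQC _ 𝔊 q, Mod48.isFinitePresentation_pullQC _ 𝔊 q⟩ }
  haveI : IsIso (e.hom.app n) := ⟨e.inv.app n, congr(($(e.hom_inv_id)).app n), congr(($(e.inv_hom_id)).app n)⟩
  exact (SheafOfModules.isFinitePresentation (𝔛.X n).ringCatSheaf).prop_of_iso (asIso (e.hom.app n)) h0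

end Groth.Agent.FCompl13
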