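import Groth.Agent.FCompl13.TftCompl
import Groth.Agent.S11537
import Groth.Agent.S11539
import Groth.Agent.QCRes72.Basic
import Mathlib.RingTheory.AdicCompletion.AsTensorProduct

/-!
Completion of finite modules is exact over a base of class (N) or (V).
-/

set_option autoImplicit false
set_option backward.isDefEq.respectTransparency false

noncomputable section

universe u

open CategoryTheory CategoryTheory.Limits AlgebraicGeometry TopologicalSpace Opposite
open Groth.Agent.QC70

namespace Groth.Agent.FCompl13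

open _root_.FSch
open SiteMod (ap)

theorem adicMap_short {B N₁ N₂ N₃ : Type u} [CommRing B] [AddCommGroup N₁] [AddCommGroup N₂] [AddCommGroup N₃]
    [Module B N₁] [Module B N₂] [Module B N₃] (K : Ideal B) [Module.Flat B (AdicCompletion K B)]
    (b₁ : Function.Bijective (AdicCompletion.ofTensorProduct K N₁))
    (b₂ : Function.Bijective (AdicCompletion.ofTensorProduct K N₂))
    (b₃ : Function.Bijective (AdicCompletion.ofTensorProduct K N₃))
    (f : N₁ →ₗ[B] N₂) (g : N₂ →ₗ[B] N₃) (hf : Function.Injective f) (hfg : Function.Exact f g)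
    (hg : Function.Surjective g) :
    Function.Injective (AdicCompletion.map K f) ∧
      Function.Exact (AdicCompletion.map K f) (AdicCompletion.map K g) ∧
      Function.Surjective (AdicCompletion.map K g) := by
  have e : ∀ {M N : Type u} [AddCommGroup M] [AddCommGroup N] [Module B M] [Module B N] (φ : M →ₗ[B] N)
      (t : TensorProduct B (AdicCompletion K B) M),
      AdicCompletion.map K φ (AdicCompletion.ofTensorProduct K M t) =
        AdicCompletion.ofTensorProduct K N (φ.lTensor _ t) := fun φ t => by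
    induction t using TensorProduct.induction_on with
    | zero => simp
    | tmul r m =>
      rw [AdicCompletion.ofTensorProduct_tmul, LinearMap.lTensor_tmul, AdicCompletion.ofTensorProduct_tmul,
        map_smul]
      congr 1
    | add a b ha hb => rw [map_add, map_add, ha, hb, map_add, map_add]
  refine ⟨(injective_iff_map_eq_zero _).2 fun x hx => ?_, fun y => ⟨fun hy => ?_, ?_⟩, fun z => ?_⟩
  · obtain ⟨t, rfl⟩ := b₁.2 x
    rw [e f] at hx
    have h1 := b₂.1 (hx.trans (map_zero _).symm)
    rw [Module.Flat.lTensor_preserves_injective_linearMap (M := AdicCompletion K B) f hf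
      (h1.trans (map_zero _).symm), map_zero]
  · obtain ⟨t, rfl⟩ := b₂.2 y
    rw [e g] at hy
    obtain ⟨s, rfl⟩ := ((Module.Flat.lTensor_exact (AdicCompletion K B) hfg) t).1 (b₃.1 (hy.trans (map_zero _).symm))
    exact ⟨AdicCompletion.ofTensorProduct K N₁ s, e f s⟩
  · rintro ⟨x, rfl⟩
    obtain ⟨t, rfl⟩ := b₁.2 x
    rw [e f, e g, ← LinearMap.comp_apply (LinearMap.lTensor _ g), ← LinearMap.lTensor_comp,
      hfg.linearMap_comp_eq_zero, LinearMap.lTensor_zero, LinearMap.zero_apply, map_zero]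
  · obtain ⟨t, rfl⟩ := b₃.2 z
    obtain ⟨s, rfl⟩ := LinearMap.lTensor_surjective (AdicCompletion K B) hg t
    exact ⟨AdicCompletion.ofTensorProduct K N₂ s, e g s⟩

variable {𝔛 : Sys.{u}} (h : 𝔛.IsFormal) {Y : Scheme.{u}} (p : ∀ n, 𝔛.X n ⟶ Y)
  (hp : ∀ n, 𝔛.ι n ≫ p (n + 1) = p n) [∀ n, IsClosedImmersion (p n)] {V : Y.Opens} (hV : IsAffineOpen V)
  (I : Y.IdealSheafData) (hker : ∀ n, (p n).ker = I ^ (n + 1))

/-- A map of modules on sections, linearly. -/
def appLin {F G : Y.Modules} (φ : F ⟶ G) (U : Y.Opens) : Γ(F, U) →ₗ[Γ(Y, U)] Γ(G, U) where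
  toFun := φ.app U
  map_add' := map_add _
  map_smul' := Scheme.Modules.Hom.app_smul φ

theorem ap_complEquiv {F G : Y.Modules} [F.IsQuasicoherent] [G.IsQuasicoherent] (φ : F ⟶ G)
    (x : AdicCompletion (I.ideal ⟨V, hV⟩) Γ(F, V)) :
    ap (ModSys.realModMap h (schSysMap 𝔛 p hp φ)) (complEquiv h p hp F hV I hker x) =
      complEquiv h p hp G hV I hker (AdicCompletion.map _ (appLin φ V) x) := by
  refine msec_ext fun n => (mproj_ap_realModMap h _ _ _ n).trans ?_
  rw [mproj_complEquiv h p hp G hV I hker]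
  refine (congrArg _ (mproj_complEquiv h p hp F hV I hker x n)).trans ?_
  obtain ⟨m, hm⟩ := Submodule.Quotient.mk_surjective _ (x.val (n + 1))
  rw [AdicCompletion.map_val_apply, ← hm, qlv_mk h p hp F hV I hker]
  exact (lv_map h p hp F φ n m).trans (qlv_mk h p hp G hV I hker n _).symm

include hker in
theorem sec_short {F₁ F₂ F₃ : Y.Modules} [F₁.IsQuasicoherent] [F₂.IsQuasicoherent] [F₃.IsQuasicoherent]
    (f : F₁ ⟶ F₂) (g : F₂ ⟶ F₃)
    (hc : Function.Injective (AdicCompletion.map (I.ideal ⟨V, hV⟩) (appLin f V)) ∧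
      Function.Exact (AdicCompletion.map (I.ideal ⟨V, hV⟩) (appLin f V))
        (AdicCompletion.map (I.ideal ⟨V, hV⟩) (appLin g V)) ∧
      Function.Surjective (AdicCompletion.map (I.ideal ⟨V, hV⟩) (appLin g V))) :
    (∀ x : MSec (schSys 𝔛 p hp F₁) h (p 0 ⁻¹ᵁ V), ap (ModSys.realModMap h (schSysMap 𝔛 p hp f)) x = 0 → x = 0) ∧
    (∀ y : MSec (schSys 𝔛 p hp F₂) h (p 0 ⁻¹ᵁ V), ap (ModSys.realModMap h (schSysMap 𝔛 p hp g)) y = 0 →
      ∃ x : MSec (schSys 𝔛 p hp F₁) h (p 0 ⁻¹ᵁ V), ap (ModSys.realModMap h (schSysMap 𝔛 p hp f)) x = y) ∧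
    (∀ z : MSec (schSys 𝔛 p hp F₃) h (p 0 ⁻¹ᵁ V),
      ∃ y : MSec (schSys 𝔛 p hp F₂) h (p 0 ⁻¹ᵁ V), ap (ModSys.realModMap h (schSysMap 𝔛 p hp g)) y = z) := by
  refine ⟨fun x hx => ?_, fun y hy => ?_, fun z => ?_⟩
  · obtain ⟨t, rfl⟩ := (complEquiv h p hp F₁ hV I hker).surjective x
    rw [ap_complEquiv] at hx
    have h1 := (complEquiv h p hp F₂ hV I hker).injective (hx.trans (map_zero _).symm)
    rw [hc.1 (h1.trans (map_zero _).symm), map_zero]
  · obtain ⟨t, rfl⟩ := (complEquiv h p hp F₂ hV I hker).surjective y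
    rw [ap_complEquiv] at hy
    obtain ⟨s, rfl⟩ := (hc.2.1 t).1 ((complEquiv h p hp F₃ hV I hker).injective (hy.trans (map_zero _).symm))
    exact ⟨complEquiv h p hp F₁ hV I hker s, ap_complEquiv h p hp hV I hker f s⟩
  · obtain ⟨t, rfl⟩ := (complEquiv h p hp F₃ hV I hker).surjective z
    obtain ⟨s, rfl⟩ := hc.2.2 t
    exact ⟨complEquiv h p hp F₂ hV I hker s, ap_complEquiv h p hp hV I hker g s⟩

theorem tilde_sections_short {R : CommRingCat.{u}} (S : ShortComplex (ModuleCat.{u} R)) (hS : S.ShortExact) (a : R) :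
    Function.Injective (appLin ((tilde.functor R).map S.f) (PrimeSpectrum.basicOpen a)) ∧
      Function.Exact (appLin ((tilde.functor R).map S.f) (PrimeSpectrum.basicOpen a))
        (appLin ((tilde.functor R).map S.g) (PrimeSpectrum.basicOpen a)) ∧
      Function.Surjective (appLin ((tilde.functor R).map S.g) (PrimeSpectrum.basicOpen a)) := by
  let D : (Spec R).Opens := PrimeSpectrum.basicOpen a
  have key : ∀ {M N : ModuleCat.{u} R} (φ : M ⟶ N),
      ((modulesSpecToSheaf.map (tilde.map φ)).hom.app (op D)).hom =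
        IsLocalizedModule.map (Submonoid.powers a) (tilde.toOpen M D).hom (tilde.toOpen N D).hom φ.hom := by
    intro M N φ
    refine IsLocalizedModule.linearMap_ext (Submonoid.powers a) (tilde.toOpen M D).hom (tilde.toOpen N D).hom ?_
    ext m
    rw [LinearMap.comp_apply, LinearMap.comp_apply, IsLocalizedModule.map_apply]
    exact congr($(tilde.toOpen_map_app φ D) m)
  have hi : Function.Injective S.f.hom := (ModuleCat.mono_iff_injective S.f).1 hS.mono_f
  have hs : Function.Surjective S.g.hom := (ModuleCat.epi_iff_surjective S.g).1 hS.epi_g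
  have he : Function.Exact S.f.hom S.g.hom := fun x =>
    (ShortComplex.ShortExact.moduleCat_exact_iff_function_exact S).1 hS.exact x
  refine ⟨?_, ?_, ?_⟩
  · change Function.Injective ⇑((modulesSpecToSheaf.map (tilde.map S.f)).hom.app (op D)).hom
    rw [key S.f]
    exact IsLocalizedModule.map_injective _ _ _ _ hi
  · change Function.Exact ⇑((modulesSpecToSheaf.map (tilde.map S.f)).hom.app (op D)).hom
      ⇑((modulesSpecToSheaf.map (tilde.map S.g)).hom.app (op D)).hom
    rw [key S.f, key S.g]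
    exact IsLocalizedModule.map_exact (Submonoid.powers a) (tilde.toOpen S.X₁ D).hom (tilde.toOpen S.X₂ D).hom
      (tilde.toOpen S.X₃ D).hom _ _ he
  · change Function.Surjective ⇑((modulesSpecToSheaf.map (tilde.map S.g)).hom.app (op D)).hom
    rw [key S.g]
    exact IsLocalizedModule.map_surjective _ _ _ _ hs

theorem tft_compl_short {R₀ : Type u} [CommRing R₀] {I₀ : Ideal R₀} (hR : AdicRing.IsBase R₀ I₀) {R : CommRingCat.{u}}
    [Algebra R₀ R] (hA : AdicRing.TopFiniteType R₀ I₀ R) (S : ShortComplex (ModuleCat.{u} R))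
    (hS : S.ShortExact) [Module.Finite R S.X₁] [Module.Finite R S.X₂] [Module.Finite R S.X₃] (a : R)
    (hD : IsAffineOpen (X := Spec R) (PrimeSpectrum.basicOpen a))
    (K : Ideal Γ(Spec R, PrimeSpectrum.basicOpen a))
    (hK : K = (I₀.map (algebraMap R₀ R)).map (algebraMap R Γ(Spec R, PrimeSpectrum.basicOpen a))) :
    Function.Injective (AdicCompletion.map K (appLin ((tilde.functor R).map S.f) (PrimeSpectrum.basicOpen a))) ∧
      Function.Exact (AdicCompletion.map K (appLin ((tilde.functor R).map S.f) (PrimeSpectrum.basicOpen a)))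
        (AdicCompletion.map K (appLin ((tilde.functor R).map S.g) (PrimeSpectrum.basicOpen a))) ∧
      Function.Surjective (AdicCompletion.map K (appLin ((tilde.functor R).map S.g) (PrimeSpectrum.basicOpen a))) := by
  let B := Γ(Spec R, PrimeSpectrum.basicOpen a)
  letI : Algebra R₀ B := ((algebraMap R B).comp (algebraMap R₀ R)).toAlgebra
  haveI : IsScalarTower R₀ R B := IsScalarTower.of_algebraMap_eq fun r => rfl
  haveI : IsLocalization.Away a B :=
    inferInstanceAs (IsLocalization.Away (R := R) a Γ(Spec R, PrimeSpectrum.basicOpen a))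
  haveI : Algebra.FiniteType R B := IsLocalization.finiteType_of_monoid_fg (Submonoid.powers a) B
  have hK' : K = I₀.map (algebraMap R₀ B) := hK.trans (Ideal.map_map _ _)
  haveI hflat : Module.Flat B (AdicCompletion K B) := by
    rw [hK']; exact S11539.result R₀ I₀ hR R hA B
  have hbij : ∀ (M : ModuleCat.{u} R) [Module.Finite R M],
      Function.Bijective (AdicCompletion.ofTensorProduct K Γ(tilde M, PrimeSpectrum.basicOpen a)) := by
    intro M hM
    have := (QCRes72.isFiniteType_tilde_iff M).2 hM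
    have : Module.Finite B Γ(tilde M, PrimeSpectrum.basicOpen a) := finite_sections_of_isFiniteType _ hD
    rw [hK']
    exact S11537.result R₀ I₀ hR R hA B Γ(tilde M, PrimeSpectrum.basicOpen a)
  obtain ⟨h1, h2, h3⟩ := tilde_sections_short S hS a
  exact adicMap_short K (hbij S.X₁) (hbij S.X₂) (hbij S.X₃) _ _ h1 h2 h3

end Groth.Agent.FCompl13
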