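import Groth.Agent.FCompl13.ComplFull
import Groth.Agent.FCompl13.AffSys

/-!
`M ↦ M^Δ` is fully faithful for complete modules over a ring with finitely generated ideal of definition.
-/

set_option autoImplicit false
set_option backward.isDefEq.respectTransparency false

noncomputable section

universe u

open CategoryTheory CategoryTheory.Limits AlgebraicGeometry TopologicalSpace Opposite
open Groth.Agent.QC70

namespace Groth.Agent.FCompl13

open _root_.FSch
open SiteMod (ap)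

variable {R : CommRingCat.{u}} {J : Ideal R} {𝔛 : Sys.{u}} (h : 𝔛.IsFormal) {p : ∀ n, 𝔛.X n ⟶ Spec R}
  (hp : ∀ n, 𝔛.ι n ≫ p (n + 1) = p n)

/-- An element of `M` as a global section of `M^Δ`. -/
def gSec (M : ModuleCat.{u} R) (m : M) : MSec (schSys 𝔛 p hp (tilde M)) h (p 0 ⁻¹ᵁ ⊤) :=
  toSec h p hp (tilde M) (V := ⊤) (tilde.toOpen M ⊤ m)

theorem mproj_gSec (M : ModuleCat.{u} R) (m : M) (n : ℕ) :
    mproj h (schSys 𝔛 p hp (tilde M)).F (schSys 𝔛 p hp (tilde M)).toPush (p 0 ⁻¹ᵁ ⊤) n (gSec h hp M m) =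
      val (p n) M m :=
  mproj_toSec h p hp (tilde M) _ n

theorem gSec_add (M : ModuleCat.{u} R) (m m' : M) :
    gSec h hp M (m + m') = gSec h hp M m + gSec h hp M m' :=
  (congrArg (toSec h p hp (tilde M)) (map_add (tilde.toOpen M ⊤).hom m m')).trans (toSec_add h p hp (tilde M) _ _)

theorem gSec_smul (M : ModuleCat.{u} R) (a : R) (m : M) :
    gSec h hp M (a • m) = sg h p hp ⊤ (specScal a) • gSec h hp M m :=
  (congrArg (toSec h p hp (tilde M)) (((tilde.toOpen M ⊤).hom.map_smul a m).trans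
    (smul_top_eq (tilde M) a _))).trans (toSec_smul h p hp (tilde M) _ _)

theorem mproj_ap_realModMap {𝔐 𝔑 : ModSys 𝔛} (φ : 𝔐 ⟶ 𝔑) (W : (𝔛.X 0).Opens) (x : MSec 𝔐 h W) (n : ℕ) :
    mproj h 𝔑.F 𝔑.toPush W n (ap (ModSys.realModMap h φ) x) =
      (φ.app n).app (𝔛.lvU h n W) (mproj h 𝔐.F 𝔐.toPush W n x) :=
  congrArg (fun ψ => ap ψ x) (realLimMap_realProj 𝔛 h φ.app _ n)

variable [∀ n, IsClosedImmersion (p n)]

theorem exists_gSec_eq (hJ : LevKer J p) (N : ModuleCat.{u} R) [IsPrecomplete J N]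
    (s : MSec (schSys 𝔛 p hp (tilde N)) h (p 0 ⁻¹ᵁ ⊤)) : ∃ y : N, gSec h hp N y = s := by
  obtain ⟨y, hy⟩ := exists_val_eq hp hJ N
    (fun n => mproj h (schSys 𝔛 p hp (tilde N)).F (schSys 𝔛 p hp (tilde N)).toPush (p 0 ⁻¹ᵁ ⊤) n s) fun n =>
    ((mtrans_eq_pl 𝔛 h (schSys 𝔛 p hp (tilde N)) n (p 0 ⁻¹ᵁ ⊤) _).symm).trans (mproj_succ _ n s)
  exact ⟨y, msec_ext fun n => (mproj_gSec h hp N y n).trans (hy n)⟩

variable (I : (Spec R).IdealSheafData) (hker : ∀ n, (p n).ker = I ^ (n + 1))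

include hker in
theorem realModMap_bijective (hJ : LevKer J p) (hfg : ∀ V : (Spec R).affineOpens, (I.ideal V).FG)
    (M N : ModuleCat.{u} R) [IsAdicComplete J N] :
    Function.Bijective (fun u : M ⟶ N =>
      ModSys.realModMap h (schSysMap 𝔛 p hp ((tilde.functor R).map u))) := by
  have key : ∀ (u : M ⟶ N) m,
      ap (ModSys.realModMap h (schSysMap 𝔛 p hp ((tilde.functor R).map u))) (gSec h hp M m) = gSec h hp N (u m) :=
    fun u m => msec_ext fun n => (mproj_ap_realModMap h _ _ _ n).trans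
      (((congrArg _ (mproj_gSec h hp M m n)).trans (map_tilde_val (p n) M u m)).trans
        (mproj_gSec h hp N (u m) n).symm)
  have hinj : ∀ {a b : N}, gSec h hp N a = gSec h hp N b → a = b := fun {a b} e =>
    eq_of_val_eq hJ N fun n => by rw [← mproj_gSec h hp, ← mproj_gSec h hp, e]
  refine ⟨fun u v huv => ?_, fun θ => ?_⟩
  · ext m
    refine hinj ?_
    rw [← key, ← key]
    exact congrArg (fun ψ => ap ψ (gSec h hp M m)) huv
  choose y hy using fun m : M => exists_gSec_eq h hp hJ N (ap θ (gSec h hp M m))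
  have hadd : ∀ m m', y (m + m') = y m + y m' := fun m m' => hinj ((hy _).trans
    ((congrArg (fun z => ap θ z) (gSec_add h hp M m m')).trans ((map_add ((Mod48.fgt.map θ).app _).hom _ _).trans
      ((congrArg₂ (· + ·) (hy m).symm (hy m').symm).trans (gSec_add h hp N _ _).symm))))
  have hsmul : ∀ (a : R) m, y (a • m) = a • y m := fun a m => hinj ((hy _).trans
    ((congrArg (fun z => ap θ z) (gSec_smul h hp M a m)).trans ((map_smul ((Mod48.fgt.map θ).app _).hom _ _).trans
      ((congrArg (sg h p hp ⊤ (specScal a) • ·) (hy m).symm).trans (gSec_smul h hp N a _).symm))))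
  let u : M ⟶ N := ModuleCat.ofHom { toFun := y, map_add' := hadd, map_smul' := hsmul }
  refine ⟨u, sub_eq_zero.1 ?_⟩
  apply Mod48.fgt.map_injective
  refine PresheafOfModules.hom_ext fun U => ?_
  ext x
  refine eq_zero_of_toSec h p hp (tilde M) I hker hfg _ (fun m => ?_) U.unop x
  obtain ⟨m₀, rfl⟩ := (ConcreteCategory.bijective_of_isIso (tilde.toOpen M ⊤)).2 m
  change ap (ModSys.realModMap h (schSysMap 𝔛 p hp ((tilde.functor R).map u)) - θ) (gSec h hp M m₀) = 0
  have e1 := key u m₀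
  have e2 := hy m₀
  exact sub_eq_zero.2 (e1.trans e2)

end Groth.Agent.FCompl13
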