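import Groth.Agent.FCompl13.TftShort

/-!
`M ↦ M^Δ` reflects short exact sequences.
-/

set_option autoImplicit false
set_option backward.isDefEq.respectTransparency false

noncomputable section

universe u

open CategoryTheory CategoryTheory.Limits AlgebraicGeometry TopologicalSpace Opposite
open Groth.Agent.QC70

namespace Groth.Agent.FCompl13

open _root_.FSch
open SiteMod (ap)

variable {R : CommRingCat.{u}} {J : Ideal R} {𝔛 : Sys.{u}} (h : 𝔛.IsFormal) {p : ∀ n, 𝔛.X n ⟶ Spec R}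
  (hp : ∀ n, 𝔛.ι n ≫ p (n + 1) = p n)

theorem pow_smul_mem_of_localized {A B M N M' N' : Type u} [CommRing A] [CommRing B] [Algebra A B]
    [AddCommGroup M] [Module A M] [AddCommGroup N] [Module A N] [AddCommGroup M'] [Module A M']
    [AddCommGroup N'] [Module A N'] [Module B N'] [IsScalarTower A B N'] (a : A)
    (TM : M →ₗ[A] M') [IsLocalizedModule (Submonoid.powers a) TM]
    (TN : N →ₗ[A] N') [IsLocalizedModule (Submonoid.powers a) TN]
    (v : M →ₗ[A] N) (ψ : M' →ₗ[A] N') (hψ : ∀ m, ψ (TM m) = TN (v m)) (K : Ideal A) (z : M') (m₃ : N)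
    (hz : ψ z - TN m₃ ∈ K.map (algebraMap A B) • (⊤ : Submodule B N')) :
    ∃ l : ℕ, a ^ l • m₃ ∈ LinearMap.range v ⊔ K • (⊤ : Submodule A N) := by
  have hy' : ψ z - TN m₃ ∈ K • (⊤ : Submodule A N') := by
    have e := Submodule.restrictScalars_map_smul_eq (R := B) K (⊤ : Submodule B N')
    rw [Submodule.restrictScalars_top] at e
    rw [← e]
    exact hz
  let P : N' → Prop := fun y => ∃ (l : ℕ) (m : N), m ∈ K • (⊤ : Submodule A N) ∧ a ^ l • y = TN m
  obtain ⟨l, n, hn, e⟩ : P (ψ z - TN m₃) := by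
    refine Submodule.smul_induction_on (p := P) hy' (fun b hb y _ => ?_) ?_
    · obtain ⟨⟨m, ⟨_, l, rfl⟩⟩, hm⟩ := IsLocalizedModule.surj (Submonoid.powers a) TN y
      exact ⟨l, b • m, Submodule.smul_mem_smul hb trivial, by
        rw [map_smul, ← hm, smul_comm]; rfl⟩
    · rintro y y' ⟨l, m, hm, e⟩ ⟨l', m', hm', e'⟩
      refine ⟨l + l', a ^ l' • m + a ^ l • m', add_mem (Submodule.smul_mem _ _ hm) (Submodule.smul_mem _ _ hm'), ?_⟩
      rw [map_add, map_smul, map_smul, smul_add]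
      refine congrArg₂ (· + ·) ?_ ?_
      · rw [pow_add, mul_comm, mul_smul, e]
      · rw [pow_add, mul_smul, e']
  obtain ⟨⟨m₂, ⟨_, k, rfl⟩⟩, hm₂⟩ := IsLocalizedModule.surj (Submonoid.powers a) TM z
  have hψ2 : a ^ k • ψ z = TN (v m₂) := by
    rw [← map_smul, ← hψ m₂]
    exact congrArg ψ hm₂
  have h3 : TN ((a ^ (k + l)) • m₃) = TN (a ^ l • v m₂ - a ^ k • n) := by
    rw [map_sub, map_smul, map_smul, map_smul, ← hψ2, ← e, smul_sub, smul_sub, smul_smul, smul_smul, smul_smul,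
      ← pow_add, ← pow_add, add_comm l k]
    abel
  obtain ⟨⟨_, j, rfl⟩, hj⟩ := IsLocalizedModule.exists_of_eq (S := Submonoid.powers a) h3
  refine ⟨j + (k + l), ?_⟩
  rw [pow_add, mul_smul, show a ^ j • a ^ (k + l) • m₃ = a ^ j • (a ^ l • v m₂ - a ^ k • n) from hj]
  refine Submodule.smul_mem _ _ (Submodule.sub_mem _ (Submodule.smul_mem _ _ ?_) (Submodule.smul_mem _ _ ?_))
  · exact Submodule.mem_sup_left (LinearMap.mem_range_self v m₂)
  · exact Submodule.mem_sup_right hn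

variable [∀ n, IsClosedImmersion (p n)] (I : (Spec R).IdealSheafData) (hker : ∀ n, (p n).ker = I ^ (n + 1))

include hker in
theorem exists_pow_smul_mem_range (hI : ∀ (a : R) (hD : IsAffineOpen (X := Spec R) (PrimeSpectrum.basicOpen a)),
      I.ideal ⟨_, hD⟩ = J.map (algebraMap R Γ(Spec R, PrimeSpectrum.basicOpen a)))
    {M N : ModuleCat.{u} R} (v : M ⟶ N) (a : R) (hD : IsAffineOpen (X := Spec R) (PrimeSpectrum.basicOpen a)) (m₃ : N)
    (y : MSec (schSys 𝔛 p hp (tilde M)) h (p 0 ⁻¹ᵁ PrimeSpectrum.basicOpen a))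
    (hy : ap (ModSys.realModMap h (schSysMap 𝔛 p hp ((tilde.functor R).map v))) y =
      toSec h p hp (tilde N) (tilde.toOpen N (PrimeSpectrum.basicOpen a) m₃)) :
    ∃ l : ℕ, a ^ l • m₃ ∈ LinearMap.range v.hom ⊔ J • (⊤ : Submodule R N) := by
  let D : (Spec R).Opens := PrimeSpectrum.basicOpen a
  obtain ⟨z, hz⟩ := lv_surjective h p hp (tilde M) hD 0
    (mproj h (schSys 𝔛 p hp (tilde M)).F (schSys 𝔛 p hp (tilde M)).toPush (p 0 ⁻¹ᵁ D) 0 y)
  have h1 : lv h p hp (tilde N) 0 ((((tilde.functor R).map v).app D) z) =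
      lv h p hp (tilde N) 0 (tilde.toOpen N D m₃) := by
    refine (lv_map h p hp (tilde M) _ 0 z).symm.trans ?_
    rw [hz]
    refine ((mproj_ap_realModMap h _ _ y 0).symm.trans ((congrArg _ hy).trans ?_))
    exact mproj_toSec h p hp (tilde N) _ 0
  have h2 : lv h p hp (tilde N) 0 ((((tilde.functor R).map v).app D) z) -
      lv h p hp (tilde N) 0 (tilde.toOpen N D m₃) = 0 := sub_eq_zero.2 h1
  rw [← lv_sub, lv_eq_zero_iff h p hp (tilde N) hD I hker, zero_add, pow_one, hI a hD] at h2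
  let TM : M →ₗ[R] Γ(tilde M, D) := (tilde.toOpen M D).hom
  let TN : N →ₗ[R] Γ(tilde N, D) := (tilde.toOpen N D).hom
  let ψ : Γ(tilde M, D) →ₗ[R] Γ(tilde N, D) := ((modulesSpecToSheaf.map (tilde.map v)).hom.app (op D)).hom
  haveI : IsLocalizedModule (Submonoid.powers a) TM :=
    (inferInstance : IsLocalizedModule.Away a (tilde.toOpen M (PrimeSpectrum.basicOpen a)).hom)
  haveI : IsLocalizedModule (Submonoid.powers a) TN :=
    (inferInstance : IsLocalizedModule.Away a (tilde.toOpen N (PrimeSpectrum.basicOpen a)).hom)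
  exact pow_smul_mem_of_localized (B := Γ(Spec R, D)) a TM TN v.hom ψ
    (fun m => congr($(tilde.toOpen_map_app v D) m)) J z m₃ h2

include hker in
theorem shortExact_of_realModMap (hJ : LevKer J p)
    (hI : ∀ (a : R) (hD : IsAffineOpen (X := Spec R) (PrimeSpectrum.basicOpen a)),
      I.ideal ⟨_, hD⟩ = J.map (algebraMap R Γ(Spec R, PrimeSpectrum.basicOpen a)))
    (hrange : ∀ q : PrimeSpectrum R, J ≤ q.asIdeal → ∃ x : 𝔛.X 0, (p 0).base x = q)
    [IsAdicComplete J R] (M₁ M₂ M₃ : ModuleCat.{u} R) [IsAdicComplete J M₁] [IsAdicComplete J M₂]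
    [IsAdicComplete J M₃] [Module.Finite R M₃] (u : M₁ ⟶ M₂) (v : M₂ ⟶ M₃)
    (hΔ : ∃ w : ModSys.realModMap h (schSysMap 𝔛 p hp ((tilde.functor R).map u)) ≫
        ModSys.realModMap h (schSysMap 𝔛 p hp ((tilde.functor R).map v)) = 0,
      (ShortComplex.mk _ _ w).ShortExact) :
    ∃ w : u ≫ v = 0, (ShortComplex.mk u v w).ShortExact := by
  obtain ⟨w, hw⟩ := hΔ
  set α := ModSys.realModMap h (schSysMap 𝔛 p hp ((tilde.functor R).map u)) with hα
  set β := ModSys.realModMap h (schSysMap 𝔛 p hp ((tilde.functor R).map v)) with hβ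
  have key : ∀ {M N : ModuleCat.{u} R} (f : M ⟶ N) (m : M),
      ap (ModSys.realModMap h (schSysMap 𝔛 p hp ((tilde.functor R).map f))) (gSec h hp M m) = gSec h hp N (f m) :=
    fun {M N} f m => msec_ext fun n => (mproj_ap_realModMap h _ _ _ n).trans
      (((congrArg _ (mproj_gSec h hp M m n)).trans (map_tilde_val (p n) M f m)).trans
        (mproj_gSec h hp N (f m) n).symm)
  have hinj : ∀ (N : ModuleCat.{u} R) [IsHausdorff J N] (m : N), gSec h hp N m = 0 → m = 0 := fun N _ m hm =>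
    eq_of_val_eq hJ N fun n => by
      rw [← mproj_gSec h hp N m n, hm, map_zero]
      exact ((AddMonoidHom.mk' (val (p n) N) (val_add (p n) N)).map_zero).symm
  have hg0 : ∀ N : ModuleCat.{u} R, gSec h hp N 0 = 0 := fun N =>
    (AddMonoidHom.mk' (gSec h hp N) (gSec_add h hp N)).map_zero
  have hwz : u ≫ v = 0 := by
    ext m
    refine hinj M₃ _ ?_
    refine ((key v (u m)).symm.trans (congrArg (fun z => ap β z) (key u m).symm)).trans ?_
    exact congrArg (fun ψ => ap ψ (gSec h hp M₁ m)) w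
  haveI : Mono α := hw.mono_f
  haveI : Epi β := hw.epi_g
  refine ⟨hwz, { exact := ?_, mono_f := ?_, epi_g := ?_ }⟩
  · rw [ShortComplex.moduleCat_exact_iff]
    intro m hm
    have h0 : ap β (gSec h hp M₂ m) = 0 := (key v m).trans ((congrArg (gSec h hp M₃) hm).trans (hg0 M₃))
    obtain ⟨x, hx⟩ := SiteMod.exists_preimage_of_ap_eq_zero (S := ShortComplex.mk α β w) hw.exact h0
    obtain ⟨m₁, rfl⟩ := exists_gSec_eq h hp hJ M₁ x
    refine ⟨m₁, sub_eq_zero.1 (hinj M₂ _ ?_)⟩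
    rw [show gSec h hp M₂ (u m₁ - m) = gSec h hp M₂ (u m₁) - gSec h hp M₂ m from
      (AddMonoidHom.mk' (gSec h hp M₂) (gSec_add h hp M₂)).map_sub _ _, sub_eq_zero]
    exact (key u m₁).symm.trans hx
  · rw [ModuleCat.mono_iff_injective, injective_iff_map_eq_zero]
    intro m hm
    refine hinj M₁ m (PresheafOfModules.injective_of_mono (Mod48.fgt.map α) (op _) ?_)
    refine (key u m).trans ((congrArg (gSec h hp M₂) hm).trans ((hg0 M₂).trans ?_))
    exact (map_zero ((Mod48.fgt.map α).app _).hom).symm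
  · rw [ModuleCat.epi_iff_surjective, ← LinearMap.range_eq_top, ← top_le_iff]
    refine Submodule.le_of_le_smul_of_le_jacobson_bot (Module.Finite.fg_top) (IsAdicComplete.le_jacobson_bot J)
      fun m₃ _ => ?_
    obtain ⟨T, hT, hT'⟩ := (SiteMod.epi_iff_locSurj β).1 inferInstance _ (gSec h hp M₃ m₃)
    let 𝔄 : Ideal R := (LinearMap.range v.hom ⊔ J • (⊤ : Submodule R M₃)).comap (LinearMap.toSpanSingleton R M₃ m₃)
    suffices h𝔄 : 𝔄 = ⊤ by
      have h1 : (1 : R) ∈ 𝔄 := h𝔄 ▸ trivial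
      simpa [𝔄] using h1
    by_contra hne
    obtain ⟨q, hq, hle⟩ := Ideal.exists_le_maximal 𝔄 hne
    have hJ𝔄 : J ≤ 𝔄 := fun b hb =>
      Submodule.mem_sup_right (Submodule.smul_mem_smul hb (show m₃ ∈ (⊤ : Submodule R M₃) from trivial))
    have hJq : J ≤ q := hJ𝔄.trans hle
    obtain ⟨x, hx⟩ := hrange ⟨q, hq.isPrime⟩ hJq
    obtain ⟨V, i, hi, hxV⟩ := hT x trivial
    obtain ⟨y, hy⟩ := hT' i hi
    obtain ⟨f, h1, h2⟩ := exists_basicOpen_le p (W := V) hxV
    rw [basicOpen_eq_of_affine'] at h1 h2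
    set a := (Scheme.ΓSpecIso R).hom f
    have hD : IsAffineOpen (X := Spec R) (PrimeSpectrum.basicOpen a) := by
      rw [← basicOpen_eq_of_affine]
      exact (isAffineOpen_top (Spec R)).basicOpen _
    obtain ⟨l, hl⟩ := exists_pow_smul_mem_range h hp I hker hI v a hD m₃
      (Mod48.res (Mod48.pre (realLim 𝔛 h (schSys 𝔛 p hp (tilde M₂)).F (schSys 𝔛 p hp (tilde M₂)).toPush))
        (homOfLE h2).op y) (by
        refine (SiteMod.res_ap β (homOfLE h2) y).symm.trans ?_
        refine (congrArg (Mod48.res _ (homOfLE h2).op) hy).trans ((Mod48.res_res _ _ _ _).trans ?_)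
        refine Eq.trans ?_ (toSec_res h p hp (tilde M₃) (V := ⊤) (V' := PrimeSpectrum.basicOpen a) le_top
          (tilde.toOpen M₃ ⊤ m₃))
        exact congrArg (fun t => Mod48.res _ t (gSec h hp M₃ m₃)) (Subsingleton.elim _ _))
    have haq : a ∉ q := by
      have h3 : (p 0).base x ∈ (PrimeSpectrum.basicOpen a : (Spec R).Opens) := h1
      rw [hx] at h3
      exact h3
    exact haq (hq.isPrime.mem_of_pow_mem l (hle hl))

end Groth.Agent.FCompl13
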