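import Groth.Agent.FCompl13.TftExact

/-!
A short exact sequence of finite modules gives a short exact sequence of modules on the formal spectrum.
-/

set_option autoImplicit false
set_option backward.isDefEq.respectTransparency false

noncomputable section

universe u

open CategoryTheory CategoryTheory.Limits AlgebraicGeometry TopologicalSpace Opposite
open Groth.Agent.QC70

namespace Groth.Agent.FCompl13

open _root_.FSch
open SiteMod (ap)

variable {R : CommRingCat.{u}} {𝔛 : Sys.{u}} (h : 𝔛.IsFormal) {p : ∀ n, 𝔛.X n ⟶ Spec R}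
  (hp : ∀ n, 𝔛.ι n ≫ p (n + 1) = p n) [∀ n, IsClosedImmersion (p n)]
  (I : (Spec R).IdealSheafData) (hker : ∀ n, (p n).ker = I ^ (n + 1))

include hker in
theorem shortExact_realModMap (S : ShortComplex (ModuleCat.{u} R)) (hS : S.ShortExact)
    (hc : ∀ (a : R) (hD : IsAffineOpen (X := Spec R) (PrimeSpectrum.basicOpen a)),
      Function.Injective (AdicCompletion.map (I.ideal ⟨_, hD⟩) (appLin ((tilde.functor R).map S.f) (PrimeSpectrum.basicOpen a))) ∧
      Function.Exact (AdicCompletion.map (I.ideal ⟨_, hD⟩) (appLin ((tilde.functor R).map S.f) (PrimeSpectrum.basicOpen a)))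
        (AdicCompletion.map (I.ideal ⟨_, hD⟩) (appLin ((tilde.functor R).map S.g) (PrimeSpectrum.basicOpen a))) ∧
      Function.Surjective (AdicCompletion.map (I.ideal ⟨_, hD⟩) (appLin ((tilde.functor R).map S.g) (PrimeSpectrum.basicOpen a)))) :
    ∃ w : ModSys.realModMap h (schSysMap 𝔛 p hp ((tilde.functor R).map S.f)) ≫
        ModSys.realModMap h (schSysMap 𝔛 p hp ((tilde.functor R).map S.g)) = 0,
      (ShortComplex.mk _ _ w).ShortExact := by
  set α := ModSys.realModMap h (schSysMap 𝔛 p hp ((tilde.functor R).map S.f)) with hα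
  set β := ModSys.realModMap h (schSysMap 𝔛 p hp ((tilde.functor R).map S.g)) with hβ
  have hnear : ∀ (W : (𝔛.X 0).Opens) (x : 𝔛.X 0), x ∈ W → ∃ a : R,
      x ∈ p 0 ⁻¹ᵁ PrimeSpectrum.basicOpen a ∧ p 0 ⁻¹ᵁ PrimeSpectrum.basicOpen a ≤ W := fun W x hx => by
    obtain ⟨f, h1, h2⟩ := exists_basicOpen_le p (W := W) hx
    rw [basicOpen_eq_of_affine'] at h1 h2
    exact ⟨_, h1, h2⟩
  haveI hqc : ∀ M : ModuleCat.{u} R, SheafOfModules.IsQuasicoherent.{u} ((tilde.functor R).obj M) :=
    fun M => (inferInstance : (tilde M).IsQuasicoherent)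
  have hsec := fun (a : R) (hD : IsAffineOpen (X := Spec R) (PrimeSpectrum.basicOpen a)) =>
    sec_short h p hp hD I hker ((tilde.functor R).map S.f) ((tilde.functor R).map S.g) (hc a hD)
  have haff : ∀ a : R, IsAffineOpen (X := Spec R) (PrimeSpectrum.basicOpen a) := fun a => by
    rw [← basicOpen_eq_of_affine]
    exact (isAffineOpen_top (Spec R)).basicOpen _
  have hw : α ≫ β = 0 := by
    apply Mod48.fgt.map_injective
    refine PresheafOfModules.hom_ext fun U => ?_
    ext x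
    refine msec_ext fun n => ?_
    refine (mproj_ap_realModMap h _ _ (ap α x) n).trans ((congrArg _ (mproj_ap_realModMap h _ _ x n)).trans ?_)
    refine (congr($(show ((schSysMap 𝔛 p hp ((tilde.functor R).map S.f)).app n ≫
      (schSysMap 𝔛 p hp ((tilde.functor R).map S.g)).app n) = 0 from ?_).app (𝔛.lvU h n U.unop) _)).trans
        (map_zero _).symm
    change (Scheme.Modules.pullback (p n)).map _ ≫ (Scheme.Modules.pullback (p n)).map _ = 0
    rw [← Functor.map_comp, ← Functor.map_comp, S.zero]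
    haveI := Adjunction.left_adjoint_additive (Scheme.Modules.pullbackPushforwardAdjunction (p n))
    rw [show (tilde.functor R).map (0 : S.X₁ ⟶ S.X₃) = 0 from tilde.map_zero, Functor.map_zero]
  refine ⟨hw, { exact := ?_, mono_f := ?_, epi_g := ?_ }⟩
  · refine SiteMod.exact_of_local _ fun W x hx => ?_
    refine ⟨{ arrows := fun V _ => ∃ a : R, V ≤ p 0 ⁻¹ᵁ PrimeSpectrum.basicOpen a ∧ p 0 ⁻¹ᵁ PrimeSpectrum.basicOpen a ≤ W
              downward_closed := fun {V Y f} hh g => ⟨hh.choose, (leOfHom g).trans hh.choose_spec.1, hh.choose_spec.2⟩ },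
      fun z hz => ?_, fun V v hv => ?_⟩
    · obtain ⟨a, ha, haW⟩ := hnear W z hz
      exact ⟨_, homOfLE haW, ⟨a, le_rfl, haW⟩, ha⟩
    obtain ⟨a, hVa, haW⟩ := hv
    have h0 : ap β (Mod48.res (Mod48.pre (realLim 𝔛 h (schSys 𝔛 p hp ((tilde.functor R).obj S.X₂)).F
        (schSys 𝔛 p hp ((tilde.functor R).obj S.X₂)).toPush)) (homOfLE haW).op x) = 0 :=
      (SiteMod.res_ap β (homOfLE haW) x).symm.trans
        ((congrArg (Mod48.res _ (homOfLE haW).op) hx).trans (map_zero ((Mod48.pre _).map _).hom))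
    obtain ⟨y, hy⟩ := (hsec a (haff a)).2.1 _ h0
    refine ⟨Mod48.res _ (homOfLE hVa).op y, ?_⟩
    refine (SiteMod.res_ap α (homOfLE hVa) y).symm.trans ?_
    refine (congrArg (Mod48.res _ (homOfLE hVa).op) hy).trans ((Mod48.res_res _ _ _ _).trans ?_)
    exact congrArg (fun t => Mod48.res _ t x) (Subsingleton.elim _ _)
  · refine ⟨fun {Z} u v huv => ?_⟩
    apply Mod48.fgt.map_injective
    refine PresheafOfModules.hom_ext fun U => ?_
    ext t
    refine msec_ext_near h _ _ _ fun z hz => ?_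
    obtain ⟨a, ha, haW⟩ := hnear _ z hz
    refine ⟨_, haW, ha, fun n => congrArg _ ?_⟩
    refine (SiteMod.res_ap u (homOfLE haW) t).trans (Eq.trans ?_ (SiteMod.res_ap v (homOfLE haW) t).symm)
    refine sub_eq_zero.1 ((hsec a (haff a)).1 _ ?_)
    refine (map_sub ((Mod48.fgt.map α).app _).hom _ _).trans (sub_eq_zero.2 ?_)
    exact congrArg (fun ψ => ap ψ (Mod48.res (Mod48.pre Z) (homOfLE haW).op t)) huv
  · rw [SiteMod.epi_iff_locSurj]
    intro W x
    refine ⟨{ arrows := fun V _ => ∃ a : R, V ≤ p 0 ⁻¹ᵁ PrimeSpectrum.basicOpen a ∧ p 0 ⁻¹ᵁ PrimeSpectrum.basicOpen a ≤ W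
              downward_closed := fun {V Y f} hh g => ⟨hh.choose, (leOfHom g).trans hh.choose_spec.1, hh.choose_spec.2⟩ },
      fun z hz => ?_, fun V v hv => ?_⟩
    · obtain ⟨a, ha, haW⟩ := hnear W z hz
      exact ⟨_, homOfLE haW, ⟨a, le_rfl, haW⟩, ha⟩
    obtain ⟨a, hVa, haW⟩ := hv
    obtain ⟨y, hy⟩ := (hsec a (haff a)).2.2 (Mod48.res (Mod48.pre (realLim 𝔛 h
      (schSys 𝔛 p hp ((tilde.functor R).obj S.X₃)).F (schSys 𝔛 p hp ((tilde.functor R).obj S.X₃)).toPush)) (homOfLE haW).op x)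
    refine ⟨Mod48.res _ (homOfLE hVa).op y, ?_⟩
    refine (SiteMod.res_ap β (homOfLE hVa) y).symm.trans ?_
    refine (congrArg (Mod48.res _ (homOfLE hVa).op) hy).trans ((Mod48.res_res _ _ _ _).trans ?_)
    exact congrArg (fun t => Mod48.res _ t x) (Subsingleton.elim _ _)

end Groth.Agent.FCompl13
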