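import Groth.Agent.FCompl13.GoodSec
import Groth.Agent.FCompl13.AffSys
import Groth.Agent.Props58.LocFree.FP

/-!
Coherent systems over an affine base all of whose finite modules are complete: they come from finite
modules, which are finitely presented as soon as the levels are and an Artin-Rees bound holds.
-/

set_option autoImplicit false
set_option backward.isDefEq.respectTransparency false

noncomputable section

universe u

open CategoryTheory CategoryTheory.Limits AlgebraicGeometry TopologicalSpace Opposite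
open Groth.Agent.QC70

namespace Groth.Agent.FCompl13

open _root_.FSch

/-- A submodule with an Artin-Rees bound is finitely generated as soon as it is so modulo a large
power, provided quotients by finitely generated submodules are separated. -/
theorem fg_of_fg_sup_smul {A P : Type*} [CommRing A] [AddCommGroup P] [Module A P] (J : Ideal A)
    (K : Submodule A P) {n₀ : ℕ}
    (hAR : J ^ (1 + n₀) • (⊤ : Submodule A P) ⊓ K ≤ J • K)
    (hH : ∀ K' : Submodule A P, K'.FG → IsHausdorff J (P ⧸ K'))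
    (hfg : (K ⊔ J ^ (1 + n₀) • (⊤ : Submodule A P)).FG) : K.FG := by
  classical
  obtain ⟨s, hs⟩ := hfg
  choose k hk j hj hkj using fun x : s => Submodule.mem_sup.1 (hs.le (Submodule.subset_span x.2))
  let K' := Submodule.span A (Set.range k)
  have hK'fg : K'.FG := Submodule.fg_span (Set.finite_range k)
  have hK' : K' ≤ K := Submodule.span_le.2 (by rintro _ ⟨x, rfl⟩; exact hk x)
  have h1 : K ≤ K' ⊔ J • K := by
    have hE : K ⊔ J ^ (1 + n₀) • ⊤ ≤ K' ⊔ J ^ (1 + n₀) • ⊤ := by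
      rw [← hs, Submodule.span_le]
      intro x hx
      rw [show x = k ⟨x, hx⟩ + j ⟨x, hx⟩ from (hkj ⟨x, hx⟩).symm]
      exact Submodule.add_mem_sup (Submodule.subset_span ⟨_, rfl⟩) (hj _)
    intro x hx
    obtain ⟨a, ha, b, hb, e⟩ := Submodule.mem_sup.1 (hE (Submodule.mem_sup_left hx))
    refine Submodule.mem_sup.2 ⟨a, ha, b, hAR ⟨hb, ?_⟩, e⟩
    rw [← add_sub_cancel_left a b, e]
    exact sub_mem hx (hK' ha)
  have h2 : ∀ m : ℕ, K ≤ K' ⊔ J ^ m • K := fun m => by
    induction m with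
    | zero => rw [pow_zero, Ideal.one_eq_top, Submodule.top_smul]; exact le_sup_right
    | succ m ih =>
      refine ih.trans (sup_le le_sup_left ((Submodule.smul_mono le_rfl h1).trans ?_))
      rw [Submodule.smul_sup, ← Submodule.mul_smul, ← pow_succ]
      exact sup_le_sup_right Submodule.smul_le_right _
  suffices hle : K ≤ K' by rwa [le_antisymm hle hK']
  intro x hx
  have := hH K' hK'fg
  rw [← Submodule.Quotient.mk_eq_zero]
  refine IsHausdorff.haus this _ fun m => ?_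
  rw [SModEq.zero]
  have hm := Submodule.mem_map_of_mem (f := K'.mkQ) (h2 m hx)
  rw [Submodule.map_sup, Submodule.mkQ_map_self, bot_sup_eq, Submodule.map_smul''] at hm
  exact Submodule.smul_mono le_rfl le_top hm

variable {𝔛 : Sys.{u}} {h : 𝔛.IsFormal} (𝔐 : ModSys 𝔛)

/-- The structure of the sections of a coherent system over a good open. -/
theorem modSec_good (h𝔐 : 𝔐.IsCoh) {U : (𝔛.X 0).Opens} (hU : GoodOpen h U) :
    Module.Finite (FBlow13.Sec 𝔛 h U) (MSec 𝔐 h U) ∧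
      ∀ k, Function.Surjective (mproj h 𝔐.F 𝔐.toPush U k) ∧
        ∀ x, mproj h 𝔐.F 𝔐.toPush U k x = 0 ↔
          x ∈ secIdeal 𝔛 h U ^ (k + 1) • (⊤ : Submodule (FBlow13.Sec 𝔛 h U) (MSec 𝔐 h U)) := by
  letI := lvlMod 𝔐 h U
  let J := secIdeal 𝔛 h U
  have hker : ∀ k, RingHom.ker ((𝔛.ι k).appLE (𝔛.lvU h (k + 1) U) (𝔛.lvU h k U)
      (𝔛.lvU_le h k U)).hom = (J ^ (k + 1)).map (FBlow13.proj 𝔛 h U (k + 1)).hom := fun k => by
    rw [← hU.ker k, ← Ideal.map_comap_of_surjective _ (hU.surj (k + 1)) (RingHom.ker _)]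
    refine congrArg _ ?_
    rw [RingHom.comap_ker, ← CommRingCat.hom_comp, FBlow13.proj_succ]
  let S : AdicC27.LimSys J (fun k => Γ(𝔐.F k, 𝔛.lvU h k U)) (MSec 𝔐 h U) :=
    { f := fun k =>
        { toFun := mtrans h 𝔐.F 𝔐.toPush U k
          map_add' := map_add _
          map_smul' := fun s m => mtrans_smul_sec 𝔐 U k s m }
      surj := fun k => mtrans_surjective 𝔐 h𝔐 hU.aff k
      ker := fun k => by
        ext m
        rw [LinearMap.mem_ker]
        refine (mtrans_eq_zero_iff 𝔐 h𝔐 hU.aff k m).trans ?_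
        rw [hker]
        exact mem_map_smul_top _ _ m
      π := fun k =>
        { toFun := mproj h 𝔐.F 𝔐.toPush U k
          map_add' := map_add _
          map_smul' := fun s x => mproj_smul U k s x }
      comp := fun k => LinearMap.ext fun x => mproj_succ U k x
      inj := fun x hx => msec_ext fun k => (hx k).trans (map_zero _).symm
      lift := fun y hy => exists_msec U y hy }
  have : IsPrecomplete J (FBlow13.Sec 𝔛 h U) := (hU.complete (FBlow13.Sec 𝔛 h U)).toIsPrecomplete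
  have h0 : Module.Finite (FBlow13.Sec 𝔛 h U) Γ(𝔐.F 0, 𝔛.lvU h 0 U) := by
    have := (h𝔐 0).1
    have := (h𝔐 0).2
    have := QC70.finite_sections_of_isFiniteType (𝔐.F 0) (FBlow13.isAffineOpen_lvU (h := h) hU.aff 0)
    letI := (FBlow13.proj 𝔛 h U 0).hom.toAlgebra
    have : IsScalarTower (FBlow13.Sec 𝔛 h U) Γ(𝔛.X 0, 𝔛.lvU h 0 U)
        Γ(𝔐.F 0, 𝔛.lvU h 0 U) := IsScalarTower.of_algebraMap_smul fun r e => rfl
    have : Module.Finite (FBlow13.Sec 𝔛 h U) Γ(𝔛.X 0, 𝔛.lvU h 0 U) :=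
      Module.Finite.of_surjective (Algebra.linearMap _ _) (hU.surj 0)
    exact Module.Finite.trans Γ(𝔛.X 0, 𝔛.lvU h 0 U) _
  obtain ⟨h1, -, h3⟩ := S.finite_and_isAdicComplete h0
  exact ⟨h1, fun k => ⟨S.π_surjective k, fun x => SetLike.ext_iff.1 (h3 k) x⟩⟩

variable {R : CommRingCat.{u}} {J : Ideal R} {p : ∀ n, 𝔛.X n ⟶ Spec R}
  (hp : ∀ n, 𝔛.ι n ≫ p (n + 1) = p n) [∀ n, IsClosedImmersion (p n)]

include hp in
theorem exists_iso_schSys_good (hJ : LevKer J p) (hW : GoodOpen h (p 0 ⁻¹ᵁ ⊤)) [IsPrecomplete J R]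
    (h𝔐 : 𝔐.IsCoh) :
    ∃ M : ModuleCat.{u} R, Module.Finite R M ∧ Nonempty (𝔐 ≅ schSys 𝔛 p hp (tilde M)) := by
  let W : (𝔛.X 0).Opens := p 0 ⁻¹ᵁ ⊤
  obtain ⟨hfin, hm⟩ := modSec_good 𝔐 h𝔐 hW
  let ψ : R →+* FBlow13.Sec 𝔛 h W := (sg h p hp ⊤).comp (Scheme.ΓSpecIso R).inv.hom
  have hψ : ∀ (n : ℕ) (a : R), FBlow13.proj 𝔛 h W n (ψ a) = (p n).appTop (specScal a) := fun n a =>
    (proj_sg h p hp n (specScal a)).trans
      (congr($(Scheme.Hom.app_eq_appLE (p n) (U := ⊤)) (specScal a))).symm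
  have hsurj : ∀ n (y : Γ(𝔛.X n, 𝔛.lvU h n W)), ∃ a : R, FBlow13.proj 𝔛 h W n (ψ a) = y := fun n y => by
    obtain ⟨r, hr⟩ := (p n).app_surjective ⊤ (isAffineOpen_top _) y
    obtain ⟨a, rfl⟩ := (Scheme.ΓSpecIso R).commRingCatIsoToRingEquiv.symm.surjective r
    exact ⟨a, (hψ n a).trans hr⟩
  have hψsurj : Function.Surjective ψ := fun s => by
    choose f hf using fun n => hsurj n (FBlow13.proj 𝔛 h W n s)
    have hstep : ∀ n, f (n + 1) - f n ∈ J ^ (n + 1) • (⊤ : Submodule R R) := fun n => by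
      rw [smul_eq_mul, Ideal.mul_top, ← hJ n, ← hψ n, map_sub, map_sub, hf n,
        ← FBlow13.proj_succ_apply W n (ψ (f (n + 1))), hf (n + 1), FBlow13.proj_succ_apply, sub_self]
    obtain ⟨L, hL⟩ := exists_limit_seq J f hstep
    refine ⟨L, FBlow13.sec_ext fun n => ?_⟩
    have h0 := hL n
    rw [smul_eq_mul, Ideal.mul_top, ← hJ n, ← hψ n, map_sub, map_sub, sub_eq_zero] at h0
    exact h0.trans (hf n)
  letI : Module R (MSec 𝔐 h W) := Module.compHom _ ψ
  letI := ψ.toAlgebra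
  have : IsScalarTower R (FBlow13.Sec 𝔛 h W) (MSec 𝔐 h W) :=
    IsScalarTower.of_algebraMap_smul fun r e => rfl
  have : Module.Finite R (FBlow13.Sec 𝔛 h W) := Module.Finite.of_surjective (Algebra.linearMap _ _) hψsurj
  have hfinR : Module.Finite R (MSec 𝔐 h W) := Module.Finite.trans (FBlow13.Sec 𝔛 h W) _
  let M : ModuleCat.{u} R := ModuleCat.of R (MSec 𝔐 h W)
  let pr : ∀ n, MSec 𝔐 h W → Γ(𝔐.F n, ⊤) := fun n x => mproj h 𝔐.F 𝔐.toPush W n x
  let lin : ∀ n, M →ₗ[R] Γ((Scheme.Modules.pushforward (p n)).obj (𝔐.F n), ⊤) := fun n =>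
    { toFun := pr n
      map_add' := fun x y => map_add (mproj h 𝔐.F 𝔐.toPush W n) x y
      map_smul' := fun a x => by
        refine ((mproj_smul W n (ψ a) x).trans ?_).trans
          ((smul_top_eq ((Scheme.Modules.pushforward (p n)).obj (𝔐.F n)) a (pr n x)).trans
            (QCqs72.pushforward_smul (𝔐.F n) (p n) (specScal a) (pr n x))).symm
        exact congrArg (· • _) (hψ n a) }
  let α : ∀ n, (Scheme.Modules.pullback (p n)).obj (tilde M) ⟶ 𝔐.F n := fun n =>
    ((Scheme.Modules.pullbackPushforwardAdjunction (p n)).homEquiv _ _).symm (tildeLift M (lin n))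
  have hα : ∀ n m, (α n).app ⊤ (val (p n) M m) = pr n m := fun n m =>
    (adjunct_app (p n) M _ m).trans (tildeLift_app M (lin n) m)
  have hker : ∀ n (x : MSec 𝔐 h W), pr n x = 0 → x ∈ J ^ (n + 1) • (⊤ : Submodule R M) := fun n x hx => by
    refine Submodule.smul_induction_on (p := fun t => t ∈ J ^ (n + 1) • (⊤ : Submodule R M)) (((hm n).2 x).1 hx)
      (fun s hs y _ => ?_) (fun a b ha hb => add_mem ha hb)
    obtain ⟨a, rfl⟩ := hψsurj s
    refine Submodule.smul_mem_smul (M := M) (r := a) (n := y) ((hJ n a).1 ?_) trivial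
    rw [← hψ n a]
    rwa [← hW.ker n, RingHom.mem_ker] at hs
  have hiso : ∀ n, IsIso (α n) := fun n => by
    have := QCPull72.isQuasicoherent_pullback (p n) (tilde M)
    have := (h𝔐 n).1
    refine EGA73.isIso_of_bijective_cover (α n) (fun _ : PUnit.{u + 1} => ⊤)
      (fun _ => (isAffineOpen_top (Spec R)).preimage (p n)) (fun x => ⟨⟨⟩, trivial⟩)
      fun _ => ⟨(injective_iff_map_eq_zero _).2 fun z hz => ?_, fun y => ?_⟩
    · obtain ⟨m, rfl⟩ := val_surjective (p n) M z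
      exact (val_zero_iff hJ M n m).2 (hker n m ((hα n m).symm.trans hz))
    · obtain ⟨m, hm'⟩ := (hm n).1 y
      exact ⟨val (p n) M m, (hα n m).trans hm'⟩
  let β : schSys 𝔛 p hp (tilde M) ⟶ 𝔐 := ⟨α, fun n => by
    rw [← cancel_epi ((schSys 𝔛 p hp (tilde M)).e n).inv]
    conv_rhs => rw [Iso.inv_hom_id_assoc]
    refine pullback_hom_ext (p n) M fun m => ?_
    have e1 : ((schSys 𝔛 p hp (tilde M)).e n).inv.app ⊤ (val (p n) M m) =
        pl (𝔛.ι n) _ (V := ⊤) (le_refl (⊤ : (𝔛.X n).Opens)) (val (p (n + 1)) M m) :=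
      (congrArg (((schSys 𝔛 p hp (tilde M)).e n).inv.app ⊤) (etr_val p hp M n m).symm).trans
        (congr(($(((schSys 𝔛 p hp (tilde M)).e n).hom_inv_id)).app ⊤ _))
    rw [Scheme.Modules.Hom.comp_app, Scheme.Modules.Hom.comp_app]
    refine (congrArg (fun y => (𝔐.e n).hom.app ⊤ (((Scheme.Modules.pullback (𝔛.ι n)).map (α (n + 1))).app ⊤ y)) e1).trans ?_
    refine (congrArg ((𝔐.e n).hom.app ⊤) ((pl_naturality (f := 𝔛.ι n) _ _ _).trans
      (congrArg (pl (𝔛.ι n) _ (V := ⊤) (le_refl (⊤ : (𝔛.X n).Opens))) (hα (n + 1) m)))).trans ?_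
    exact ((mtrans_eq_pl 𝔛 h 𝔐 n W _).symm.trans (mproj_succ W n m)).trans (hα n m).symm⟩
  have : IsIso β := ⟨⟨fun n => inv (α n), fun n => by
      rw [Functor.map_inv, IsIso.inv_comp_eq, ← Category.assoc, β.comm n, Category.assoc, IsIso.hom_inv_id]
      exact (Category.comp_id _).symm⟩,
    ModSys.Hom.ext (funext fun n => IsIso.hom_inv_id (α n)), ModSys.Hom.ext (funext fun n => IsIso.inv_hom_id (α n))⟩
  exact ⟨M, hfinR, ⟨(asIso β).symm⟩⟩

include hp in
/-- The module of a system with finitely presented levels is finitely presented. -/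
theorem finitePresentation_of_levels (hJ : LevKer J p) (hfg : J.FG) (M : ModuleCat.{u} R) [Module.Finite R M]
    (hH : ∀ (s : ℕ) (K : Submodule R (Fin s → R)), K.FG → IsHausdorff J ((Fin s → R) ⧸ K))
    (hAR : ∀ (s : ℕ) (K : Submodule R (Fin s → R)), ∃ n₀ : ℕ,
      J ^ (1 + n₀) • (⊤ : Submodule R (Fin s → R)) ⊓ K ≤ J • K)
    (hFP : ∀ n, CohB1.IsFP ((schSys 𝔛 p hp (tilde M)).F n)) : Module.FinitePresentation R M := by
  obtain ⟨s, g, hg⟩ := Module.Finite.exists_fin' R M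
  refine Module.finitePresentation_of_surjective g hg ?_
  obtain ⟨n₀, hn₀⟩ := hAR s (LinearMap.ker g)
  refine fg_of_fg_sup_smul J _ hn₀ (hH s) ?_
  let N := Γ((Scheme.Modules.pullback (p n₀)).obj (tilde M), (⊤ : (𝔛.X n₀).Opens))
  let φ : R →+* Γ(𝔛.X n₀, ⊤) := ((p n₀).appTop).hom.comp (Scheme.ΓSpecIso R).inv.hom
  have hφs : Function.Surjective φ := fun y => by
    obtain ⟨r, hr⟩ := (p n₀).app_surjective ⊤ (isAffineOpen_top _) y
    obtain ⟨a, rfl⟩ := (Scheme.ΓSpecIso R).commRingCatIsoToRingEquiv.symm.surjective r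
    exact ⟨a, hr⟩
  letI := φ.toAlgebra
  letI : Module R N := Module.compHom N φ
  haveI : IsScalarTower R Γ(𝔛.X n₀, ⊤) N := IsScalarTower.of_algebraMap_smul fun _ _ => rfl
  have hkφ : LinearMap.ker (Algebra.linearMap R Γ(𝔛.X n₀, ⊤)) = J ^ (n₀ + 1) :=
    Submodule.ext fun a => hJ n₀ a
  haveI : Module.FinitePresentation R Γ(𝔛.X n₀, ⊤) :=
    Module.finitePresentation_of_surjective (Algebra.linearMap R _) hφs (by rw [hkφ]; exact Ideal.FG.pow hfg)
  haveI : CohB1.IsFP ((Scheme.Modules.pullback (p n₀)).obj (tilde M)) := hFP n₀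
  haveI : Module.FinitePresentation Γ(𝔛.X n₀, ⊤) N :=
    Props58.LocFree.finitePresentation_sections _ ((isAffineOpen_top (Spec R)).preimage (p n₀))
  haveI : Module.FinitePresentation R N := Module.FinitePresentation.trans (R := R) (M := N) Γ(𝔛.X n₀, ⊤)
  let v : M →ₗ[R] N :=
    { toFun := val (p n₀) M
      map_add' := val_add _ M
      map_smul' := fun a m => val_smul (p n₀) M a m }
  have hk : LinearMap.ker (v.comp g) = LinearMap.ker g ⊔ J ^ (1 + n₀) • ⊤ := by
    rw [add_comm 1 n₀, LinearMap.ker_comp]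
    have hv : LinearMap.ker v = J ^ (n₀ + 1) • (⊤ : Submodule R M) := Submodule.ext fun m => val_zero_iff hJ M n₀ m
    rw [hv, ← LinearMap.range_eq_top.2 hg, LinearMap.range_eq_map, ← Submodule.map_smul'', Submodule.comap_map_eq,
      sup_comm]
  rw [← hk]
  exact Module.FinitePresentation.fg_ker (v.comp g) ((val_surjective (p n₀) M).comp hg)

end Groth.Agent.FCompl13
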