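import Groth.Agent.FCompl13.RelRing
import Groth.Agent.FCompl13.PushFF

/-!
Vectors of sections over opens of a locally Noetherian formal scheme and of its levels.
-/

set_option autoImplicit false
set_option backward.isDefEq.respectTransparency false
set_option linter.style.haveILetI false

noncomputable section

universe u

open CategoryTheory CategoryTheory.Limits AlgebraicGeometry TopologicalSpace Opposite
open Groth.Agent.QC70

namespace Groth.Agent.FCompl13

open _root_.FSch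

theorem map_mem_span {A B : Type*} [CommRing A] [CommRing B] {ι : Type*} (φ : A →+* B) {S : Set (ι → A)}
    {v : ι → A} (hv : v ∈ Submodule.span A S) :
    (fun t => φ (v t)) ∈ Submodule.span B ((fun w : ι → A => fun t => φ (w t)) '' S) := by
  induction hv using Submodule.span_induction with
  | mem w hw => exact Submodule.subset_span ⟨w, hw, rfl⟩
  | zero => simp only [Pi.zero_apply, map_zero]; exact Submodule.zero_mem _
  | add a b _ _ ha hb => simp only [Pi.add_apply, map_add]; exact Submodule.add_mem _ ha hb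
  | smul s a _ ha => simp only [Pi.smul_apply, smul_eq_mul, map_mul]; exact Submodule.smul_mem _ (φ s) ha

section Scheme

variable {X : Scheme.{u}} {U W : X.Opens}

theorem exists_pow_smul_mem_span (hW : IsAffineOpen W) (g : Γ(X, W)) {ι κ : Type*} [Finite ι] [Finite κ]
    (S : κ → ι → Γ(X, W)) (v : ι → Γ(X, W))
    (h : (fun i => resO X (X.basicOpen_le g) (v i)) ∈
      Submodule.span Γ(X, X.basicOpen g) (Set.range fun t i => resO X (X.basicOpen_le g) (S t i))) :
    ∃ M : ℕ, g ^ M • v ∈ Submodule.span Γ(X, W) (Set.range S) := by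
  classical
  have := Fintype.ofFinite κ
  have := Fintype.ofFinite ι
  have := hW.isLocalization_basicOpen g
  obtain ⟨b, hb⟩ := (Submodule.mem_span_range_iff_exists_fun _).1 h
  obtain ⟨⟨_, e, rfl⟩, he⟩ := IsLocalization.exist_integer_multiples_of_finite
    (Submonoid.powers g) (S := Γ(X, X.basicOpen g)) b
  choose a ha using he
  have h1 : ∀ i, algebraMap Γ(X, W) Γ(X, X.basicOpen g) (g ^ e * v i) =
      algebraMap Γ(X, W) Γ(X, X.basicOpen g) (∑ t, a t * S t i) := by
    intro i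
    have h2 := congrFun hb i
    simp only [Finset.sum_apply, Pi.smul_apply, smul_eq_mul] at h2
    rw [map_mul, map_sum]
    change _ * resO X (X.basicOpen_le g) (v i) = _
    rw [← h2, Finset.mul_sum]
    refine Finset.sum_congr rfl fun t _ => ?_
    rw [← mul_assoc, map_mul (algebraMap Γ(X, W) Γ(X, X.basicOpen g))]
    refine congrArg₂ (· * ·) ?_ rfl
    rw [ha t, Algebra.smul_def]
  choose c hc using fun i => IsLocalization.exists_of_eq (M := Submonoid.powers g) (h1 i)
  obtain ⟨k, hk⟩ : ∃ k, ((∏ i, c i : Submonoid.powers g) : Γ(X, W)) = g ^ k := by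
    obtain ⟨k, hk⟩ := (∏ i, c i : Submonoid.powers g).2
    exact ⟨k, hk.symm⟩
  have hall : g ^ (k + e) • v = g ^ k • ∑ t, a t • S t := funext fun i => by
    simp only [Pi.smul_apply, Finset.sum_apply, smul_eq_mul]
    rw [pow_add, mul_assoc, ← hk, Submonoid.coe_finsetProd, ← Finset.prod_erase_mul _ _ (Finset.mem_univ i),
      mul_assoc, hc i, ← mul_assoc]
  exact ⟨k + e, hall ▸ Submodule.smul_mem _ _
    (Submodule.sum_mem _ fun t _ => Submodule.smul_mem _ _ (Submodule.subset_span ⟨t, rfl⟩))⟩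

theorem exists_pow_smul_ext (hW : IsAffineOpen W) (g : Γ(X, W)) {ι : Type*} [Finite ι]
    (v : ι → Γ(X, X.basicOpen g)) :
    ∃ (N : ℕ) (b : ι → Γ(X, W)), ∀ i, resO X (X.basicOpen_le g) (b i) =
      resO X (X.basicOpen_le g) (g ^ N) * v i := by
  have := hW.isLocalization_basicOpen g
  obtain ⟨⟨_, e, rfl⟩, he⟩ := IsLocalization.exist_integer_multiples_of_finite
    (Submonoid.powers g) (S := Γ(X, X.basicOpen g)) v
  choose a ha using he
  exact ⟨e, a, fun i => (ha i).trans (Algebra.smul_def _ _)⟩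

end Scheme

variable {𝔛 : Sys.{u}}

/-- Restriction of vectors of sections. -/
abbrev vres (h : 𝔛.IsFormal) {U V : (𝔛.X 0).Opens} (i : V ≤ U) {ι : Type*} (c : ι → FBlow13.Sec 𝔛 h U) :
    ι → FBlow13.Sec 𝔛 h V :=
  fun t => FBlow13.res 𝔛 h i (c t)

/-- Projection of vectors of sections to a level. -/
abbrev vproj (h : 𝔛.IsFormal) (U : (𝔛.X 0).Opens) (k : ℕ) {ι : Type*} (c : ι → FBlow13.Sec 𝔛 h U) :
    ι → Γ(𝔛.X k, 𝔛.lvU h k U) :=
  fun t => FBlow13.proj 𝔛 h U k (c t)

/-- Restriction of functions, as a ring map. -/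
abbrev rhO (X : Scheme.{u}) {U V : X.Opens} (i : V ≤ U) : Γ(X, U) →+* Γ(X, V) :=
  (X.presheaf.map (homOfLE i).op).hom

/-- Restriction of vectors of functions. -/
abbrev lres {X : Scheme.{u}} {U V : X.Opens} (i : V ≤ U) {ι : Type*} (c : ι → Γ(X, U)) : ι → Γ(X, V) :=
  fun t => resO X i (c t)

theorem vres_vres (h : 𝔛.IsFormal) {U V W : (𝔛.X 0).Opens} (i : V ≤ U) (j : W ≤ V) {ι : Type*}
    (c : ι → FBlow13.Sec 𝔛 h U) : vres h j (vres h i c) = vres h (j.trans i) c :=
  funext fun t => (SiteMod.rres_rres (O := 𝔛.Osh h) (homOfLE i).op (homOfLE j).op (c t)).trans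
    (congrArg (fun z => (𝔛.Osh h).obj.map z (c t)) (Subsingleton.elim _ _))

theorem vres_self (h : 𝔛.IsFormal) {U : (𝔛.X 0).Opens} (i : U ≤ U) {ι : Type*}
    (c : ι → FBlow13.Sec 𝔛 h U) : vres h i c = c :=
  funext fun t => (congrArg (fun z => (𝔛.Osh h).obj.map z (c t))
    (show (homOfLE i).op = 𝟙 (op U) from Subsingleton.elim _ _)).trans
      (congr($((𝔛.Osh h).obj.map_id (op U)) (c t)))

theorem lres_lres {X : Scheme.{u}} {U V W : X.Opens} (i : V ≤ U) (j : W ≤ V) {ι : Type*} (c : ι → Γ(X, U)) :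
    lres j (lres i c) = lres (j.trans i) c :=
  funext fun _ => resO_resO i j _

theorem vproj_vres (h : 𝔛.IsFormal) {U V : (𝔛.X 0).Opens} (i : V ≤ U) (k : ℕ) {ι : Type*}
    (c : ι → FBlow13.Sec 𝔛 h U) :
    vproj h V k (vres h i c) = lres (FBlow.lvU_mono 𝔛 h k i) (vproj h U k c) :=
  funext fun _ => FBlow13.proj_res_apply i k _

theorem downU_le (h : 𝔛.IsFormal) {k : ℕ} {O : (𝔛.X k).Opens} {V : (𝔛.X 0).Opens}
    (hO : O ≤ 𝔛.lvU h k V) : downU k O ≤ V :=
  fun _ hx => (FBlow13.toX_preimage_lvU (h := h) k V).le (hO hx)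

theorem isAffineOpen_downU (h : 𝔛.IsFormal) {k : ℕ} {O : (𝔛.X k).Opens} (hO : IsAffineOpen O) :
    IsAffineOpen (downU k O) := by
  have := 𝔛.toX_isClosedImmersion h k
  exact hO.preimage (𝔛.toX k)

/-- A vector is in a submodule if it is on every level. -/
theorem mem_span_of_levels (h𝔛 : 𝔛.IsLocNoethFormal) {W : (𝔛.X 0).Opens} (hW : IsAffineOpen W)
    {ι κ : Type*} [Fintype ι] [Finite κ] (r : κ → ι → FBlow13.Sec 𝔛 h𝔛.1 W)
    (c : ι → FBlow13.Sec 𝔛 h𝔛.1 W)
    (hc : ∀ k, vproj h𝔛.1 W k c ∈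
      Submodule.span Γ(𝔛.X k, 𝔛.lvU h𝔛.1 k W) (Set.range fun t => vproj h𝔛.1 W k (r t))) :
    c ∈ Submodule.span (FBlow13.Sec 𝔛 h𝔛.1 W) (Set.range r) := by
  have := Fintype.ofFinite κ
  obtain ⟨hN, hC, hp⟩ := secRing h𝔛 hW
  have := hN
  have := hC
  refine mem_of_forall_mem_sup (I := secIdeal 𝔛 h𝔛.1 W) _ _ fun n => ?_
  obtain ⟨e, he⟩ := (Submodule.mem_span_range_iff_exists_fun _).1 (hc n)
  choose ε hε using fun t => (hp n).1 (e t)
  refine Submodule.mem_sup.2 ⟨∑ t, ε t • r t,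
    Submodule.sum_mem _ fun t _ => Submodule.smul_mem _ _ (Submodule.subset_span ⟨t, rfl⟩),
    c - ∑ t, ε t • r t, ?_, add_sub_cancel _ _⟩
  refine Submodule.smul_mono (Ideal.pow_le_pow_right n.le_succ) le_rfl (mem_pow_smul_pi _ _ fun i => ?_)
  rw [← (hp n).2, RingHom.mem_ker]
  have hi := congrFun he i
  simp only [Finset.sum_apply, Pi.smul_apply, smul_eq_mul] at hi
  simp only [Pi.sub_apply, Finset.sum_apply, Pi.smul_apply, smul_eq_mul, map_sub, map_sum, map_mul, hε]
  exact sub_eq_zero.2 hi.symm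

theorem exists_fin_generators {A M : Type*} [CommRing A] [AddCommGroup M] [Module A M] [IsNoetherian A M]
    (N : Submodule A M) : ∃ (p : ℕ) (r : Fin p → M), Submodule.span A (Set.range r) = N :=
  Submodule.fg_iff_exists_fin_generating_family.1 (IsNoetherian.noetherian N)

theorem isNoetherian_vec_level (h𝔛 : 𝔛.IsLocNoethFormal) {V : (𝔛.X 0).Opens} (hV : IsAffineOpen V) (k : ℕ)
    {ι : Type*} [Finite ι] :
    IsNoetherian Γ(𝔛.X k, 𝔛.lvU h𝔛.1 k V) (ι → Γ(𝔛.X k, 𝔛.lvU h𝔛.1 k V)) := by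
  have := h𝔛.2.2 k
  have : IsNoetherianRing Γ(𝔛.X k, 𝔛.lvU h𝔛.1 k V) :=
    IsLocallyNoetherian.component_noetherian ⟨_, FBlow13.isAffineOpen_lvU (h := h𝔛.1) hV k⟩
  infer_instance

end Groth.Agent.FCompl13
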